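import Cfsg.Agent.Lib.CharDeg.CyclicTop

/-!
# Groups of order `p ^ 4`

A non-abelian group of order `p ^ 4` has an abelian subgroup of index `p`, hence
`|P'| |Z(P)| = p ^ 3`.
-/

set_option autoImplicit false

namespace Cfsg.Lib.CharDeg

open Subgroup

variable {G : Type*} [Group G]

/-- If `W ≤ H` is central in `H` of index one or a prime, then `H` is abelian. -/
theorem comm_of_relIndex_dvd_prime {W H : Subgroup G} {p : ℕ} (hp : p.Prime)
    (hc : ∀ w ∈ W, ∀ h ∈ H, w * h = h * w) (hi : W.relIndex H ∣ p) :
    ∀ a ∈ H, ∀ b ∈ H, a * b = b * a := by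
  intro a ha b hb
  by_cases haW : a ∈ W
  · exact hc a haW b hb
  rcases (Nat.dvd_prime hp).mp hi with h | h
  · exact absurd (relIndex_eq_one.mp h ha) haW
  · have htop := sup_zpowers_eq_top_of_index_prime (W.subgroupOf H) (by rw [← h] at hp; exact hp)
      (x := ⟨a, ha⟩) haW
    have : W.subgroupOf H ⊔ zpowers (⟨a, ha⟩ : H) ≤ centralizer {(⟨a, ha⟩ : H)} := by
      rw [sup_le_iff, zpowers_le]
      refine ⟨fun w hw => mem_centralizer_singleton_iff.mpr (Subtype.ext (hc _ hw a ha)),
        mem_centralizer_singleton_iff.mpr rfl⟩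
    have h2 := mem_centralizer_singleton_iff.mp (this (htop ▸ mem_top (⟨b, hb⟩ : H)))
    exact (congrArg Subtype.val h2).symm

theorem card_lt_of_lt [Finite G] {H K : Subgroup G} (h : H < K) : Nat.card H < Nat.card K := by
  refine lt_of_le_of_ne (card_le_of_le h.le) fun he => h.ne ?_
  exact eq_of_le_of_card_ge h.le he.ge

/-- A non-abelian group of order `p ^ 4` has an abelian subgroup of index `p`. -/
theorem exists_abelian_index_prime_of_card_pow_four [Finite G] {p : ℕ} [Fact p.Prime]
    (hG : Nat.card G = p ^ 4) (hna : center G ≠ ⊤) :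
    ∃ A : Subgroup G, A.index = p ∧ ∀ a ∈ A, ∀ b ∈ A, a * b = b * a := by
  have hp : p.Prime := Fact.out
  have hP : IsPGroup p G := IsPGroup.of_card hG
  haveI : Nontrivial (G ⧸ center G) := QuotientGroup.nontrivial_iff.mpr hna
  haveI : Nontrivial G := (QuotientGroup.mk_surjective (s := center G)).nontrivial
  obtain ⟨x', hx'c, hx'1⟩ : ∃ x' ∈ center (G ⧸ center G), x' ≠ 1 := by
    have := (hP.to_quotient (center G)).bot_lt_center
    obtain ⟨y, hy, hy1⟩ := SetLike.exists_of_lt this
    exact ⟨y, hy, by simpa using hy1⟩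
  obtain ⟨x, rfl⟩ := QuotientGroup.mk_surjective x'
  have hxZ : x ∉ center G := fun h => hx'1 ((QuotientGroup.eq_one_iff x).mpr h)
  have hcomm : ∀ g : G, g * x * g⁻¹ * x⁻¹ ∈ center G := by
    intro g
    rw [← QuotientGroup.eq_one_iff]
    simp only [QuotientGroup.mk_mul, QuotientGroup.mk_inv, mem_center_iff.mp hx'c g]
    group
  let φ : G →* center G :=
    { toFun := fun g => ⟨g * x * g⁻¹ * x⁻¹, hcomm g⟩
      map_one' := by ext; simp
      map_mul' := fun g h => by
        ext
        have h1 := mem_center_iff.mp (hcomm h) g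
        simp only [coe_mul, mul_inv_rev]
        calc g * h * x * (h⁻¹ * g⁻¹) * x⁻¹ = g * (h * x * h⁻¹ * x⁻¹) * (x * g⁻¹ * x⁻¹) := by group
          _ = (h * x * h⁻¹ * x⁻¹) * (g * x * g⁻¹ * x⁻¹) := by rw [h1]; group
          _ = _ := (mem_center_iff.mp (hcomm h) _).symm }
  set C := centralizer ({x} : Set G) with hC
  have hker : φ.ker = C := by
    ext g
    simp only [MonoidHom.mem_ker, hC, mem_centralizer_singleton_iff, Subtype.ext_iff, φ,
      MonoidHom.coe_mk, OneHom.coe_mk, OneMemClass.coe_one]
    rw [mul_inv_eq_one, mul_inv_eq_iff_eq_mul]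
  have hidx : C.index ≤ Nat.card (center G) := by
    rw [← hker, index_ker]
    exact Nat.le_of_dvd Nat.card_pos (card_subgroup_dvd_card _)
  set W := center G ⊔ zpowers x with hW
  have hZW : center G < W := lt_of_le_of_ne le_sup_left fun h =>
    hxZ (h ▸ mem_sup_right (mem_zpowers x))
  have hWC : W ≤ C := sup_le (center_le_centralizer _)
    (zpowers_le.mpr (mem_centralizer_singleton_iff.mpr rfl))
  have hCtop : C < ⊤ := lt_top_iff_ne_top.mpr fun h => hxZ (mem_center_iff.mpr fun g =>
    mem_centralizer_singleton_iff.mp (h ▸ mem_top g : g ∈ C))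
  have hWc : ∀ w ∈ W, ∀ h ∈ C, w * h = h * w := by
    intro w hw h hh
    have : W ≤ centralizer {h} := sup_le (center_le_centralizer _)
      (zpowers_le.mpr (mem_centralizer_singleton_iff.mpr
        (mem_centralizer_singleton_iff.mp hh).symm))
    exact mem_centralizer_singleton_iff.mp (this hw)
  obtain ⟨z, hz⟩ := (hP.to_subgroup (center G)).exists_card_eq
  obtain ⟨w, hw⟩ := (hP.to_subgroup W).exists_card_eq
  obtain ⟨c, hc⟩ := (hP.to_subgroup C).exists_card_eq
  obtain ⟨i, hi⟩ := hP.index C
  have h1 : 0 < z := by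
    have := card_lt_of_lt hP.bot_lt_center
    rw [card_bot, hz] at this
    exact (Nat.pow_lt_pow_iff_right hp.one_lt).mp (by simpa using this)
  have h2 : z < w := by
    have := card_lt_of_lt hZW
    rw [hz, hw] at this
    exact (Nat.pow_lt_pow_iff_right hp.one_lt).mp this
  have h3 : w ≤ c := by
    have := card_le_of_le hWC
    rw [hw, hc] at this
    exact (Nat.pow_le_pow_iff_right hp.one_lt).mp this
  have h4 : c < 4 := by
    have := card_lt_of_lt hCtop
    rw [hc, card_top, hG] at this
    exact (Nat.pow_lt_pow_iff_right hp.one_lt).mp this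
  have h5 : i + c = 4 := by
    have := C.index_mul_card
    rw [hi, hc, hG, ← pow_add] at this
    exact Nat.pow_right_injective hp.two_le this
  have h6 : i ≤ z := by
    rw [hi, hz] at hidx
    exact (Nat.pow_le_pow_iff_right hp.one_lt).mp hidx
  have hi1 : i = 1 := by omega
  refine ⟨C, by rw [hi, hi1, pow_one], comm_of_relIndex_dvd_prime hp hWc ?_⟩
  have h7 : W.relIndex C * Nat.card W = Nat.card C := by
    rw [relIndex, ← Nat.card_congr (subgroupOfEquivOfLe hWC).toEquiv, index_mul_card]
  rw [hw, hc] at h7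
  have h8 : W.relIndex C = p ^ (c - w) := by
    apply Nat.eq_of_mul_eq_mul_right (pow_pos hp.pos w)
    rw [h7, ← pow_add]; congr 1; omega
  rw [h8]
  calc p ^ (c - w) ∣ p ^ 1 := pow_dvd_pow _ (by omega)
    _ = p := pow_one p

/-- If `G` is non-abelian with an abelian normal subgroup `A` of prime index then
`|A| = |G'| |Z(G)|`. -/
theorem card_eq_commutator_mul_center_of_index_prime (A : Subgroup G) [A.Normal]
    (hab : ∀ a ∈ A, ∀ b ∈ A, a * b = b * a) (hp : A.index.Prime) (hna : center G ≠ ⊤) :
    Nat.card A = Nat.card (_root_.commutator G) * Nat.card (center G) := by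
  obtain ⟨x, hx⟩ : ∃ x, x ∉ A := by
    by_contra h
    push Not at h
    have : A = ⊤ := eq_top_iff.mpr fun x _ => h x
    rw [this, index_top] at hp
    exact Nat.not_prime_one hp
  have hZA : center G ≤ A := by
    intro z hz
    by_contra hzA
    apply hna
    have htop := sup_zpowers_eq_top_of_index_prime A hp hzA
    have hA : A ≤ center G := by
      intro a ha
      rw [mem_center_iff]
      intro g
      have : A ⊔ zpowers z ≤ centralizer {a} := sup_le
        (fun b hb => mem_centralizer_singleton_iff.mpr (hab b hb a ha))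
        (zpowers_le.mpr (center_le_centralizer _ hz))
      exact mem_centralizer_singleton_iff.mp (this (htop ▸ mem_top g))
    rw [eq_top_iff, ← htop]
    exact sup_le hA (zpowers_le.mpr hz)
  rw [card_eq_card_commutator_mul_inf_center A hab x (sup_zpowers_eq_top_of_index_prime A hp hx),
    inf_eq_right.mpr hZA]

/-- In a non-abelian group of order `p ^ 4`, `|P'| |Z(P)| = p ^ 3`. -/
theorem card_commutator_mul_card_center_of_card_pow_four [Finite G] {p : ℕ} [Fact p.Prime]
    (hG : Nat.card G = p ^ 4) (hna : center G ≠ ⊤) :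
    Nat.card (_root_.commutator G) * Nat.card (center G) = p ^ 3 := by
  have hp : p.Prime := Fact.out
  obtain ⟨A, hA, hab⟩ := exists_abelian_index_prime_of_card_pow_four hG hna
  haveI : A.Normal := by
    apply normal_of_index_eq_minFac_card
    rw [hA, hG, Nat.Prime.pow_minFac hp (by norm_num)]
  rw [← card_eq_commutator_mul_center_of_index_prime A hab (hA ▸ hp) hna]
  have := A.index_mul_card
  rw [hA, hG] at this
  apply Nat.eq_of_mul_eq_mul_left hp.pos
  rw [this]; ring

end Cfsg.Lib.CharDeg
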