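import Cfsg.Agent.Lib.Char.Central
import Cfsg.Agent.Lib.Char.Galois

/-!
Blichfeldt's theorem: a finite linear group of degree `n` has an abelian Hall subgroup for the
primes greater than `n + 1`.
-/

set_option autoImplicit false

namespace Cfsg.Lib.CharDeg

open Cfsg.Lib.Char Subgroup

universe u

/-- The irreducible characters of degree at most `n` separate the elements from `1`. -/
def LinDeg (n : ℕ) (G : Type*) [Group G] : Prop :=
  ∀ g : G, g ≠ 1 → ∃ ψ, IsIrrCharacter G ψ ∧ charDegree ψ ≤ n ∧ ψ g ≠ ψ 1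

variable {G : Type*} [Group G] [Finite G] {n : ℕ}

theorem exists_irr_ne_of_ne {χ : G → ℂ} (hχ : IsCharacter G χ) {g : G} (hg : χ g ≠ χ 1) :
    ∃ ψ, IsIrrCharacter G ψ ∧ charDegree ψ ≤ charDegree χ ∧ ψ g ≠ ψ 1 := by
  have := Fintype.ofFinite G
  by_contra hn
  push Not at hn
  refine hg ?_
  rw [hχ.isClassFunction.apply_eq_sum_irr g, hχ.isClassFunction.apply_eq_sum_irr 1]
  refine Finset.sum_congr rfl fun ψ _ => ?_
  by_cases h : classInner χ ψ = 0
  · rw [h, zero_mul, zero_mul]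
  · rw [hn ψ ψ.2 (hχ.degree_le_of_constituent ψ.2 h ψ.2.apply_one_eq hχ.apply_one_eq)]

theorem linDeg_of_faithful {χ : G → ℂ} (hχ : IsCharacter G χ) (h : ∀ g, χ g = χ 1 → g = 1) :
    LinDeg (charDegree χ) G := fun g hg => exists_irr_ne_of_ne hχ fun e => hg (h g e)

theorem LinDeg.subgroup (h : LinDeg n G) (H : Subgroup G) : LinDeg n H := fun g hg => by
  obtain ⟨ψ, h1, h2, h3⟩ := h g fun e => hg (Subtype.ext e)
  obtain ⟨φ, h4, h5, h6⟩ := exists_irr_ne_of_ne (h1.isCharacter.restrict H) (g := g) h3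
  exact ⟨φ, h4, h5.trans h2, h6⟩

theorem LinDeg.comm (h : LinDeg n G) (hG : ∀ q : ℕ, q.Prime → q ∣ Nat.card G → n < q) (x y : G) :
    x * y = y * x := by
  by_contra hne
  obtain ⟨ψ, h1, h2, h3⟩ := h (x * y * (y * x)⁻¹) (by rwa [Ne, mul_inv_eq_one])
  have h4 : charDegree ψ = 1 := by
    by_contra h4
    have h5 := hG _ (Nat.minFac_prime h4) ((Nat.minFac_dvd _).trans h1.charDegree_dvd_card)
    have := Nat.minFac_le h1.charDegree_pos
    omega
  obtain ⟨lam, rfl⟩ := h1.isCharacter.exists_hom_of_apply_one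
    (h1.isCharacter.charDegree_eq_one_iff.1 h4)
  refine h3 ?_
  simp [mul_comm (lam y : ℂ)⁻¹, mul_assoc]

/-- A character of degree `< p - 1` that is rational at an element of order `p` has it in its
kernel. -/
theorem apply_eq_of_rational {ψ : G → ℂ} (hψ : IsCharacter G ψ) {p : ℕ} (hp : p.Prime) {x : G}
    (hx : orderOf x = p) (hd : charDegree ψ + 1 < p)
    (h : ∀ k : ℕ, k.Coprime p → ψ (x ^ k) = ψ x) : ψ x = ψ 1 := by
  classical
  obtain ⟨r, hr⟩ := hψ.isGeneralizedCharacter.exists_int_of_forall_pow (hx ▸ h)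
  have hf : Fintype (zpowers x) := Fintype.ofFinite _
  obtain ⟨a, ha⟩ := (hψ.restrict (zpowers x)).exists_inner_eq_nat isCharacter_one
  have h1 := card_mul_classInner (fun y : zpowers x => ψ y) (fun _ => 1)
  rw [ha, Nat.card_zpowers, hx, ← Finset.add_sum_erase _ _ (Finset.mem_univ 1),
    Finset.sum_congr rfl (g := fun _ => (r : ℂ)) (fun y hy => by
      obtain ⟨k, hk⟩ := (mem_zpowers_iff_mem_range_orderOf.1 y.2 |> Finset.mem_image.1)
      rw [map_one, mul_one, ← hk.2, h k, hr]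
      refine ((Nat.Prime.coprime_iff_not_dvd hp).2 fun hk' => Finset.ne_of_mem_erase hy ?_).symm
      exact Subtype.ext (hk.2.symm.trans (orderOf_dvd_iff_pow_eq_one.1 (hx ▸ hk')))),
    Finset.sum_const, Finset.card_erase_of_mem (Finset.mem_univ _), Finset.card_univ,
    ← Nat.card_eq_fintype_card, Nat.card_zpowers, hx, map_one, mul_one, OneMemClass.coe_one,
    hψ.apply_one_eq, nsmul_eq_mul, Nat.cast_sub hp.one_le] at h1
  have h2 : (p : ℤ) * a = charDegree ψ + (p - 1) * r := by exact_mod_cast h1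
  have h3 : |r| ≤ charDegree ψ := by
    have := hψ.norm_le_of_apply_one hψ.apply_one_eq x
    rw [hr, Complex.norm_intCast] at this
    exact_mod_cast this
  have h4 : (charDegree ψ : ℤ) + 1 < p := by exact_mod_cast hd
  have h5 : 0 ≤ r := by
    by_contra h5
    nlinarith [mul_nonneg (Int.natCast_nonneg p) (Int.natCast_nonneg a)]
  have h6 : (charDegree ψ : ℤ) - r = p * (a - r) := by linear_combination -h2
  have h7 : (a : ℤ) - r = 0 := by
    have := (abs_le.1 h3).2
    rcases lt_trichotomy ((a : ℤ) - r) 0 with h | h | h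
    · nlinarith
    · exact h
    · nlinarith
  rw [h7, mul_zero, sub_eq_zero] at h6
  rw [hr, hψ.apply_one_eq, ← h6, Int.cast_natCast]

theorem exists_pow_ne {ψ : G → ℂ} (hψ : IsCharacter G ψ) {p : ℕ} (hp : p.Prime) {x : G}
    (hx : orderOf x = p) (hd : charDegree ψ + 1 < p) (h : ψ x ≠ ψ 1) :
    ∃ k : ℕ, k.Coprime (Nat.card G) ∧ (∀ g : G, ¬ p ∣ orderOf g → g ^ k = g) ∧ ψ (x ^ k) ≠ ψ x := by
  by_contra hn
  push Not at hn
  refine h (apply_eq_of_rational hψ hp hx hd fun j hj => ?_)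
  have h0 : Nat.card G ≠ 0 := Nat.card_pos.ne'
  have hc : p.Coprime (ordCompl[p] (Nat.card G)) := Nat.coprime_ordCompl hp h0
  obtain ⟨k, h1, h2⟩ := Nat.chineseRemainder hc j 1
  rw [← pow_eq_pow_iff_modEq.2 (hx ▸ h1)]
  refine hn k ?_ fun g hg => ?_
  · rw [← Nat.ordProj_mul_ordCompl_eq_self (Nat.card G) p]
    refine Nat.Coprime.mul_right (Nat.Coprime.pow_right _ ?_) ?_
    · rwa [Nat.Coprime, h1.gcd_eq]
    · rw [Nat.Coprime, h2.gcd_eq, Nat.gcd_one_left]
  · have : orderOf g ∣ ordCompl[p] (Nat.card G) := by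
      refine Nat.Coprime.dvd_of_dvd_mul_left
        (Nat.Coprime.pow_right ((Nat.card G).factorization p)
          ((Nat.Prime.coprime_iff_not_dvd hp).2 hg).symm) ?_
      rw [Nat.ordProj_mul_ordCompl_eq_self]
      exact orderOf_dvd_natCard g
    exact (pow_eq_pow_iff_modEq.2 (h2.of_dvd this)).trans (pow_one g)

theorem LinDeg.exists_commute (h : LinDeg n G) {p q : ℕ} (hp : p.Prime) (hq : q.Prime)
    (hpq : p ≠ q) (hnp : n + 1 < p) (hnq : n + 1 < q) (hpG : p ∣ Nat.card G)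
    (hqG : q ∣ Nat.card G) : ∃ x y : G, orderOf x = p ∧ orderOf y = q ∧ x * y = y * x := by
  have := Fintype.ofFinite G
  by_contra hn
  push Not at hn
  have : Fact p.Prime := ⟨hp⟩
  have : Fact q.Prime := ⟨hq⟩
  obtain ⟨x, hx⟩ := exists_prime_orderOf_dvd_card' p hpG
  obtain ⟨y, hy⟩ := exists_prime_orderOf_dvd_card' q hqG
  obtain ⟨ψ, h1, h2, h3⟩ := h (x * y * x⁻¹ * y⁻¹) (by
    rw [Ne, mul_inv_eq_one, mul_inv_eq_iff_eq_mul]; exact hn x y hx hy)
  have hN := h1.isCharacter.charKer_normal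
  rw [Ne, ← h1.isCharacter.mem_charKer_iff] at h3
  obtain ⟨k, hk1, hk2, hk3⟩ := exists_pow_ne h1.isCharacter hp hx (by omega) fun e => h3 (by
    rw [← h1.isCharacter.mem_charKer_iff] at e
    simpa [mul_assoc] using mul_mem e (hN.conj_mem _ (inv_mem e) y))
  obtain ⟨l, hl1, hl2, hl3⟩ := exists_pow_ne h1.isCharacter hq hy (by omega) fun e => h3 (by
    rw [← h1.isCharacter.mem_charKer_iff] at e
    exact mul_mem (hN.conj_mem _ e x) (inv_mem e))
  have h4 : classInner (ψ - fun g => ψ (g ^ k)) (ψ - fun g => ψ (g ^ l)) = 0 := by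
    rw [classInner_def, Finset.sum_eq_zero fun g _ => ?_, mul_zero]
    by_cases h5 : p ∣ orderOf g
    · by_cases h6 : q ∣ orderOf g
      · exact absurd ((Commute.refl g).pow_pow _ _)
          (hn _ _ (orderOf_pow_orderOf_div (orderOf_pos g).ne' h5)
            (orderOf_pow_orderOf_div (orderOf_pos g).ne' h6))
      · simp [hl2 g h6]
    · simp [hk2 g h5]
  obtain ⟨a, ha⟩ := (h1.comp_pow hk1).isCharacter.exists_inner_eq_nat (h1.comp_pow hl1).isCharacter
  rw [classInner_sub_left, classInner_sub_right, classInner_sub_right, h1.inner_self, ha,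
    h1.inner_eq_zero_of_ne (h1.comp_pow hl1) (fun e => hl3 (congrFun e y).symm),
    (h1.comp_pow hk1).inner_eq_zero_of_ne h1 (fun e => hk3 (congrFun e x))] at h4
  have : ((a + 1 : ℕ) : ℂ) = 0 := by push_cast; linear_combination h4
  exact absurd (Nat.cast_eq_zero.1 this) (by omega)

/-- Twisting away the central `p`-elements. -/
theorem exists_twist {ψ : G → ℂ} (hψ : IsIrrCharacter G ψ) {p : ℕ} (hp : p.Prime)
    (hd : charDegree ψ < p) : ∃ lam : G →* ℂˣ, lam ^ ordProj[p] (Nat.card G) = 1 ∧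
      ∀ z ∈ center G, z ^ ordProj[p] (Nat.card G) = 1 → ψ z = lam z * ψ 1 := by
  have hpos := hψ.charDegree_pos
  obtain ⟨d, ρ, hρ, rfl⟩ := hψ
  rw [charDegree_character, Module.finrank_fin_fun] at hd hpos
  have h0 : Nat.card G ≠ 0 := Nat.card_pos.ne'
  obtain ⟨t, -, ht⟩ := Nat.exists_mul_mod_eq_of_coprime 1 (n := d * ordCompl[p] (Nat.card G))
    (k := ordProj[p] (Nat.card G)) (Nat.Coprime.pow_right _ (Nat.Coprime.mul_left
      ((Nat.Prime.coprime_iff_not_dvd hp).2 fun h => by have := Nat.le_of_dvd hpos h; omega).symm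
      (Nat.coprime_ordCompl hp h0).symm)) (Nat.ordProj_pos _ _).ne'
  let δ : G →* ℂˣ := (LinearMap.det.comp ρ).toHomUnits
  refine ⟨δ ^ (ordCompl[p] (Nat.card G) * t), MonoidHom.ext fun g => ?_, fun z hz hz' => ?_⟩
  · rw [MonoidHom.pow_apply, MonoidHom.pow_apply, ← pow_mul, mul_right_comm,
      mul_comm (ordCompl[p] _), Nat.ordProj_mul_ordCompl_eq_self,
      pow_mul, ← map_pow, pow_card_eq_one']
    simp
  obtain ⟨c, hc⟩ := exists_eq_smul_of_commute ρ (ρ z) fun g => by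
    rw [← Module.End.mul_eq_comp, ← Module.End.mul_eq_comp, ← map_mul, ← map_mul,
      mem_center_iff.1 hz g]
  have h1 : c ^ ordProj[p] (Nat.card G) = 1 := by
    have h2 := congrArg ρ hz'
    rw [map_pow, hc, map_one, ← Module.End.one_eq_id, smul_pow, one_pow] at h2
    have h3 := congrFun (LinearMap.congr_fun h2 fun _ => 1) ⟨0, hpos⟩
    simpa using h3
  have h2 : ((δ ^ (ordCompl[p] (Nat.card G) * t)) z : ℂ) = c := by
    rw [MonoidHom.pow_apply, Units.val_pow_eq_pow_val]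
    change LinearMap.det (ρ z) ^ _ = c
    rw [hc, LinearMap.det_smul, Module.finrank_fin_fun, LinearMap.det_id, mul_one, ← pow_mul,
      ← mul_assoc, pow_eq_pow_mod _ h1, ht, ← pow_eq_pow_mod _ h1, pow_one]
  rw [h2]
  simp [Representation.character, hc, mul_comm]

theorem LinDeg.quotient (h : LinDeg n G) {p : ℕ} (hp : p.Prime) (hn : n < p) (K : Subgroup G)
    [K.Normal] (hK : ∀ g, g ∈ K ↔ g ∈ center G ∧ g ^ ordProj[p] (Nat.card G) = 1) :
    LinDeg n (G ⧸ K) := fun g hg => by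
  obtain ⟨g, rfl⟩ := QuotientGroup.mk_surjective g
  by_contra hne
  push Not at hne
  have key : ∀ ψ, IsIrrCharacter G ψ → charDegree ψ ≤ n → g ∈ charCenter ψ ∧
      ψ (g ^ ordProj[p] (Nat.card G)) = ψ 1 := fun ψ h1 h2 => by
    obtain ⟨lam, h3, h4⟩ := exists_twist h1 hp (h2.trans_lt hn)
    have h5 := h1.hom_mul lam⁻¹
    obtain ⟨φ, h6, h7⟩ := h5.exists_deflate K fun x hx => by
      rw [h4 x ((hK x).1 hx).1 ((hK x).1 hx).2]; simp
    have h8 : φ 1 = ψ 1 := by simpa using h7 1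
    have h9 := hne φ h6 ((charDegree_congr h8).trans_le h2)
    rw [← QuotientGroup.mk_one, h7, h7, ← h5.isCharacter.mem_charKer_iff] at h9
    refine ⟨h1.isCharacter.mem_charCenter_iff.2 ?_, ?_⟩
    · have := congrArg norm (h5.isCharacter.mem_charKer_iff.1 h9)
      rwa [norm_mul, norm_mul, norm_hom_apply, norm_hom_apply, one_mul, one_mul] at this
    · have := h5.isCharacter.mem_charKer_iff.1 (pow_mem h9 (ordProj[p] (Nat.card G)))
      rw [map_pow, ← MonoidHom.pow_apply, inv_pow, h3] at this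
      simpa using this
  refine hg ((QuotientGroup.eq_one_iff g).2 ((hK g).2 ⟨mem_center_iff.2 fun x => ?_, ?_⟩))
  · by_contra h1
    obtain ⟨ψ, h2, h3, h4⟩ := h (g * x * g⁻¹ * x⁻¹) (by
      rw [Ne, mul_inv_eq_one, mul_inv_eq_iff_eq_mul]; exact fun e => h1 e.symm)
    exact h4 (h2.isCharacter.mem_charKer_iff.1
      (h2.isCharacter.commutator_mem_charKer (key ψ h2 h3).1 x))
  · by_contra h1
    obtain ⟨ψ, h2, h3, h4⟩ := h _ h1
    exact h4 (key ψ h2 h3).2

theorem exists_hall_of_linDeg (n : ℕ) (m : ℕ) : ∀ (G : Type u) [Group G] [Finite G],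
    Nat.card G = m → LinDeg n G → ∃ A : Subgroup G,
      (∀ q : ℕ, q.Prime → q ∣ Nat.card A → n + 1 < q) ∧
      ∀ q : ℕ, q.Prime → q ∣ A.index → q ≤ n + 1 := by
  induction m using Nat.strong_induction_on with
  | _ m ih =>
  intro G _ _ hm h
  by_cases hz : ∃ z ∈ center G, (orderOf z).Prime ∧ n + 1 < orderOf z
  · obtain ⟨z, hz, hp, hn⟩ := hz
    set p := orderOf z
    let K : Subgroup G :=
      { carrier := {g | g ∈ center G ∧ g ^ ordProj[p] (Nat.card G) = 1}
        one_mem' := ⟨one_mem _, one_pow _⟩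
        mul_mem' := fun {a b} ha hb => ⟨mul_mem ha.1 hb.1, by
          rw [Commute.mul_pow (mem_center_iff.1 hb.1 a), ha.2, hb.2, one_mul]⟩
        inv_mem' := fun {a} ha => ⟨inv_mem ha.1, by rw [inv_pow, ha.2, inv_one]⟩ }
    have : K.Normal := ⟨fun a ha g => by
      rwa [mem_center_iff.1 ha.1 g, mul_inv_cancel_right]⟩
    have hzK : z ∈ K := ⟨hz, orderOf_dvd_iff_pow_eq_one.1 (dvd_pow_self _
      (hp.factorization_pos_of_dvd Nat.card_pos.ne' (orderOf_dvd_natCard z)).ne')⟩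
    have hlt : Nat.card (G ⧸ K) < m := by
      rw [← hm, ← K.card_mul_index]
      refine lt_mul_of_one_lt_left (Nat.card_pos (α := G ⧸ K)) ((one_lt_card_iff_ne_bot K).2 ?_)
      intro e
      rw [e, mem_bot] at hzK
      simp [p, hzK, Nat.not_prime_one] at hp
    obtain ⟨A, h1, h2⟩ := ih _ hlt (G ⧸ K) rfl (h.quotient hp (by omega) K fun _ => Iff.rfl)
    have hi := A.index_comap_of_surjective (QuotientGroup.mk'_surjective K)
    refine ⟨A.comap (QuotientGroup.mk' K), fun q hq hd => ?_, hi ▸ h2⟩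
    have h3 : Nat.card (A.comap (QuotientGroup.mk' K)) = Nat.card K * Nat.card A := by
      refine mul_right_cancel₀ (A.index_ne_zero_of_finite) ?_
      rw [mul_assoc, A.card_mul_index, ← hi, card_mul_index, ← K.card_mul_index]; rfl
    rw [h3] at hd
    rcases hq.dvd_mul.1 hd with h4 | h4
    · have : Fact q.Prime := ⟨hq⟩
      obtain ⟨x, hx⟩ := exists_prime_orderOf_dvd_card' q h4
      have h5 : q ∣ ordProj[p] (Nat.card G) := by
        rw [← hx, ← orderOf_coe]; exact orderOf_dvd_of_pow_eq_one x.2.2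
      rwa [(Nat.prime_dvd_prime_iff_eq hq hp).1 (hq.dvd_of_dvd_pow h5)]
    · exact h1 q hq h4
  push Not at hz
  obtain ⟨H, hH, hmax⟩ := Set.exists_max_image
    {H : Subgroup G | ∀ q : ℕ, q.Prime → q ∣ Nat.card H → n + 1 < q} (fun H => Nat.card H)
    (Set.toFinite _) ⟨⊥, fun q hq hd => absurd (Nat.dvd_one.1 (by simpa using hd)) hq.ne_one⟩
  have hcomm : ∀ L : Subgroup G, (∀ q : ℕ, q.Prime → q ∣ Nat.card L → n + 1 < q) →
      ∀ y ∈ L, L ≤ centralizer {y} := fun L hL y hy x hx => by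
    rintro _ rfl
    exact congrArg Subtype.val
      ((h.subgroup L).comm (fun q hq hd => by have := hL q hq hd; omega) ⟨_, hy⟩ ⟨x, hx⟩)
  -- `H` is a Hall subgroup of the centralizer of each of its elements of prime order
  have hC : ∀ y ∈ H, (orderOf y).Prime → ∀ L : Subgroup G,
      (∀ q : ℕ, q.Prime → q ∣ Nat.card L → n + 1 < q) → L ≤ centralizer {y} →
      Nat.card L ∣ Nat.card H := fun y hy hp L hL hLy => by
    have h1 : centralizer {y} ≠ ⊤ := fun e => by
      have := hz y (mem_center_iff.2 fun g => ((e.ge (mem_top g)) y rfl).symm) hp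
      have := hH _ hp (orderOf_dvd_natCard H hy)
      omega
    obtain ⟨A, h2, h3⟩ := ih _ (hm ▸ lt_of_le_of_ne (card_le_card_group _)
      fun e => h1 (eq_top_of_card_eq _ e))
      (centralizer {y}) rfl (h.subgroup _)
    have h4 : ∀ L : Subgroup G, (∀ q : ℕ, q.Prime → q ∣ Nat.card L → n + 1 < q) →
        L ≤ centralizer {y} → Nat.card L ∣ Nat.card A := fun L hL hLy => by
      refine Nat.Coprime.dvd_of_dvd_mul_right (k := Nat.card L) (n := A.index)
        (Nat.coprime_of_dvd fun q hq h5 h6 => ?_) ?_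
      · have := hL q hq h5
        have := h3 q hq h6
        omega
      · rw [A.card_mul_index]; exact card_dvd_of_le hLy
    have h5 : Nat.card (A.map (centralizer {y}).subtype) = Nat.card A :=
      card_map_of_injective (centralizer {y}).subtype_injective
    have h6 := hmax (A.map (centralizer {y}).subtype) (by rw [Set.mem_setOf_eq, h5]; exact h2)
    rw [h5] at h6
    rw [Nat.eq_of_dvd_of_lt_two_mul Nat.card_pos.ne' (h4 H hH (hcomm H hH y hy))
      (by have := Nat.card_pos (α := H); omega)] at h4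
    exact h4 L hL hLy
  have hP : ∀ {q : ℕ} [Fact q.Prime] (L : Subgroup G), IsPGroup q L → n + 1 < q →
      ∀ r : ℕ, r.Prime → r ∣ Nat.card L → n + 1 < r := fun {q} _ L hL hq r hr hd => by
    obtain ⟨k, hk⟩ := IsPGroup.iff_card.1 hL
    rwa [(Nat.prime_dvd_prime_iff_eq hr Fact.out).1 (hr.dvd_of_dvd_pow (hk ▸ hd))]
  -- `H` contains a Sylow subgroup for each of its primes
  have hS : ∀ q : ℕ, q.Prime → q ∣ Nat.card H → ¬ q ∣ H.index := fun q hq hd => by
    have : Fact q.Prime := ⟨hq⟩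
    obtain ⟨y, hy⟩ := exists_prime_orderOf_dvd_card' q hd
    rw [← orderOf_coe] at hy
    obtain ⟨Q, hQ⟩ := (IsPGroup.of_card (n := 1) (G := zpowers (y : G))
      (by rw [Nat.card_zpowers, hy, pow_one])).exists_le_sylow
    have h1 := hP _ Q.isPGroup' (hH q hq hd)
    obtain ⟨c, hc⟩ := hC y y.2 (hy ▸ hq) Q h1 (hcomm _ h1 _ (hQ (mem_zpowers _)))
    intro h2
    refine Q.not_dvd_index (h2.trans ⟨c, mul_left_cancel₀ (Nat.card_pos (α := Q)).ne' ?_⟩)
    rw [card_mul_index, ← H.card_mul_index, hc]; ring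
  refine ⟨H, hH, fun r hr hd => ?_⟩
  by_contra hn
  have : Fact r.Prime := ⟨hr⟩
  have hrG := hd.trans H.index_dvd_card
  obtain ⟨x, hx⟩ := exists_prime_orderOf_dvd_card' r hrG
  have hL : ∀ x : G, orderOf x = r → ∀ q : ℕ, q.Prime → q ∣ Nat.card (zpowers x) → n + 1 < q :=
    fun x hx q hq h1 => by
      rw [Nat.card_zpowers, hx] at h1
      rw [(Nat.prime_dvd_prime_iff_eq hq hr).1 h1]; omega
  have h1 : Nat.card H ≠ 1 := fun e => by
    have := hmax _ (hL x hx)
    rw [Nat.card_zpowers, hx, e] at this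
    exact absurd hr.one_lt (by omega)
  have hq := Nat.minFac_prime h1
  have hqH := Nat.minFac_dvd (Nat.card H)
  generalize (Nat.card H).minFac = q at hq hqH
  have : Fact q.Prime := ⟨hq⟩
  obtain ⟨y, x, hy, hx, hxy⟩ := h.exists_commute hq hr (fun e => hS q hq hqH (e ▸ hd))
    (hH q hq hqH) (by omega) (hqH.trans H.card_subgroup_dvd_card) hrG
  obtain ⟨Q, hQ⟩ := (IsPGroup.of_card (n := 1) (G := zpowers (y : G))
    (by rw [Nat.card_zpowers, hy, pow_one])).exists_le_sylow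
  obtain ⟨R⟩ : Nonempty (Sylow q H) := inferInstance
  obtain ⟨Q', hQ'⟩ := (R.isPGroup'.map H.subtype).exists_le_sylow
  have hQH : (Q' : Subgroup G) ≤ H := by
    have h2 : ¬ q ∣ ((R : Subgroup H).map H.subtype).index := by
      rw [index_map_subtype, hq.dvd_mul, not_or]
      exact ⟨R.not_dvd_index, hS q hq hqH⟩
    exact (((R.isPGroup'.map H.subtype).toSylow h2).is_maximal' Q'.isPGroup' hQ').le.trans
      (map_subtype_le _)
  obtain ⟨g, hg⟩ := MulAction.exists_smul_eq G Q Q'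
  have h2 : g * y * g⁻¹ ∈ H := hQH (by
    rw [← hg]; exact Subgroup.smul_mem_pointwise_smul _ (MulAut.conj g) _ (hQ (mem_zpowers y)))
  have h3 : orderOf (g * x * g⁻¹) = r := hx ▸ (MulAut.conj g).orderOf_eq x
  have h4 := hC _ h2 (by rw [← hy] at hq; rwa [← (MulAut.conj g).orderOf_eq y] at hq) _
    (hL _ h3) (zpowers_le.2 fun _ e => by
      rw [show _ = _ from e]
      simp only [mul_assoc, inv_mul_cancel_left]
      rw [← mul_assoc y, hxy, mul_assoc])
  rw [Nat.card_zpowers, h3] at h4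
  exact hS r hr h4 hd

/-- Blichfeldt's theorem. -/
theorem LinDeg.exists_hall (h : LinDeg n G) : ∃ A : Subgroup G, (∀ x ∈ A, ∀ y ∈ A, x * y = y * x) ∧
    (∀ q : ℕ, q.Prime → q ∣ Nat.card A → n + 1 < q) ∧
    ∀ q : ℕ, q.Prime → q ∣ A.index → q ≤ n + 1 := by
  obtain ⟨A, h1, h2⟩ := exists_hall_of_linDeg n _ G rfl h
  exact ⟨A, fun x hx y hy => congrArg Subtype.val ((h.subgroup A).comm
    (fun q hq hd => by have := h1 q hq hd; omega) ⟨x, hx⟩ ⟨y, hy⟩), h1, h2⟩

end Cfsg.Lib.CharDeg
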