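import Cfsg.Agent.Lib.CharDeg.Cd
import Cfsg.Agent.Lib.Core.Frattini

/-!
# Characters of larger degree with smaller kernel (Broline, Garrison)
-/

set_option autoImplicit false

namespace Cfsg.Lib.CharDeg

open Cfsg.Lib.Char Cfsg.Lib.Clifford Cfsg.Lib.Induce Cfsg.Lib.Core Subgroup
open scoped commutatorElement

variable {G : Type*} [Group G] [Finite G] {χ ψ : G → ℂ}

theorem isIrrCharacter_res_of_sup_ker (hχ : IsIrrCharacter G χ) {K H : Subgroup G} [K.Normal]
    (hK : K ≤ charKer χ) (h : K ⊔ H = ⊤) : IsIrrCharacter H (fun x : H => χ x) := by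
  obtain ⟨χ', h1, h2⟩ := hχ.exists_deflate K fun x hx => hχ.isCharacter.mem_charKer_iff.1 (hK hx)
  have h3 := h1.comp_surjective ((QuotientGroup.mk' K).comp H.subtype) (fun x => by
    obtain ⟨g, rfl⟩ := QuotientGroup.mk_surjective x
    obtain ⟨k, hk, y, hy, rfl⟩ := mem_sup_of_normal_left.1 (h ▸ mem_top g)
    exact ⟨⟨y, hy⟩, by simp [(QuotientGroup.eq_one_iff k).2 hk]⟩)
  simpa [h2] using h3

/-- If every irreducible constituent of the induced character extends `θ`, then `θ` vanishes off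
the core of `H`. -/
theorem indFun_apply_of_forall_extension {G : Type*} [Group G] [Fintype G] (H : Subgroup G)
    [Fintype H] {θ : H → ℂ} (hθ : IsIrrCharacter H θ)
    (h : ∀ ψ, IsIrrCharacter G ψ → classInner (fun x : H => ψ x) θ ≠ 0 → ∀ x : H, ψ x = θ x)
    (x : H) : indFun H θ x = H.index * θ x := by
  have h1 : ∀ x : H, indFun H θ x = (∑ ψ : IrrCharacter G,
      classInner (fun x : H => (ψ : G → ℂ) x) θ) * θ x := fun x => by
    rw [indFun_eq_sum_irr H hθ.isGeneralizedCharacter, Finset.sum_apply, Finset.sum_mul]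
    refine Finset.sum_congr rfl fun ψ _ => ?_
    by_cases h0 : classInner (fun x : H => (ψ : G → ℂ) x) θ = 0
    · simp [h0]
    · simp [h ψ ψ.2 h0 x]
  have h2 := h1 1
  rw [OneMemClass.coe_one, indFun_one] at h2
  rw [h1, ← mul_right_cancel₀ hθ.apply_one_ne_zero h2]

theorem mem_normalCore_of_forall_extension (H : Subgroup G) [Fintype H]
    (hχ : IsClassFunction G χ) (hθ : IsIrrCharacter H (fun x : H => χ x))
    (h : ∀ ψ, IsIrrCharacter G ψ → classInner (fun x : H => ψ x) (fun x : H => χ x) ≠ 0 →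
      ∀ x : H, ψ x = χ x) {x : G} (hx : x ∈ H) (h0 : χ x ≠ 0) : x ∈ H.normalCore := by
  haveI := Fintype.ofFinite G
  have h1 := indFun_apply_of_forall_extension H hθ h ⟨x, hx⟩
  rw [indFun_res H hχ, Pi.mul_apply] at h1
  have h2 : indFun H (fun _ => 1) x = indFun H (fun _ => 1) 1 := by
    rw [indFun_one, mul_one]
    exact mul_right_cancel₀ h0 h1
  exact fun g => ((indFun_apply_eq_apply_one_iff H isCharacter_one one_ne_zero x).1 h2 g).1

theorem res_eq_of_charDegree_le (hψ : IsCharacter G ψ) (H : Subgroup G) [Fintype H] {θ : H → ℂ}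
    (hθ : IsIrrCharacter H θ) (h0 : classInner (fun x : H => ψ x) θ ≠ 0)
    (hle : charDegree ψ ≤ charDegree θ) (x : H) : ψ x = θ x := by
  refine congrFun (eq_of_constituent_of_apply_one_eq (hψ.restrict H) hθ h0 ?_) x
  change ψ 1 = θ 1
  rw [hψ.apply_one_eq, hθ.apply_one_eq, le_antisymm hle (charDegree_le_of_below hψ H hθ h0)]

theorem mem_normalCore_of_no_larger (hχ : IsIrrCharacter G χ) {H : Subgroup G} (hH : IsCoatom H)
    (hK : ¬ charKer χ ≤ H)
    (h : ∀ ψ, IsIrrCharacter G ψ → charDegree χ < charDegree ψ → ¬ charKer ψ < charKer χ)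
    {x : G} (hx : x ∈ H) (h0 : χ x ≠ 0) : x ∈ H.normalCore := by
  haveI := Fintype.ofFinite H
  haveI := hχ.isCharacter.charKer_normal
  have hθ := isIrrCharacter_res_of_sup_ker hχ le_rfl (sup_eq_top_of_isCoatom hH hK)
  refine mem_normalCore_of_forall_extension H hχ.isClassFunction hθ (fun ψ hψ h1 => ?_) hx h0
  haveI := hψ.isCharacter.charKer_normal
  by_cases h2 : charKer ψ ≤ H
  · refine res_eq_of_charDegree_le hψ.isCharacter H hθ h1 (not_lt.1 fun h3 => h ψ hψ h3 ?_)
    refine lt_of_le_of_ne (fun y hy => ?_) fun e => hK (e ▸ h2)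
    exact hχ.isCharacter.mem_charKer_iff.2 ((hψ.isCharacter.restrict H).apply_eq_of_constituent
      hθ h1 (g := ⟨y, h2 hy⟩) (hψ.isCharacter.mem_charKer_iff.1 hy))
  · exact congrFun ((isIrrCharacter_res_of_sup_ker hψ le_rfl
      (sup_eq_top_of_isCoatom hH h2)).eq_of_inner_ne_zero hθ h1)

theorem exists_larger_of_not_le_fitting (hχ : IsIrrCharacter G χ)
    (hK : ¬ charKer χ ≤ fittingSubgroup G) :
    ∃ ψ, IsIrrCharacter G ψ ∧ charDegree χ < charDegree ψ ∧ charKer ψ < charKer χ := by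
  by_contra hc
  push Not at hc
  haveI hn := hχ.isCharacter.charKer_normal
  set K := charKer χ with hKd
  rw [le_fittingSubgroup_iff hn, isNilpotent_iff_sylow_normal] at hK
  push Not at hK
  obtain ⟨p, hp, P, hP⟩ := hK
  set Q : Subgroup G := (P : Subgroup K).map K.subtype with hQ
  have h1 : normalizer (Q : Set G) ≠ ⊤ := fun e =>
    hP ((normal_iff_le_normalizer_map_subtype _).2 (e ▸ le_top))
  obtain ⟨H, hH, h2⟩ := exists_coatom_ge h1
  have h3 : normalizer (Q : Set G) ⊔ K = ⊤ := P.normalizer_sup_eq_top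
  have h4 : ¬ K ≤ H := fun h => hH.1 (top_le_iff.1 (h3 ▸ sup_le h2 h))
  have h5 : Q ≤ K ⊓ H.normalCore := fun x hx => ⟨map_subtype_le _ hx,
    mem_normalCore_of_no_larger hχ hH h4 hc (h2 (le_normalizer hx)) (by
      rw [hχ.isCharacter.mem_charKer_iff.1 (map_subtype_le _ hx)]
      exact hχ.apply_one_ne_zero)⟩
  have hQp : IsPGroup p Q := P.isPGroup'.map _
  let R : Sylow p ↥(K ⊓ H.normalCore) := (hQp.comap_subtype (K := K ⊓ H.normalCore)).toSylow (by
    have h6 := relIndex_mul_relIndex Q (K ⊓ H.normalCore) K h5 inf_le_left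
    rw [hQ, relIndex_map_subtype] at h6
    exact fun h => P.not_dvd_index (h6 ▸ Dvd.dvd.mul_right h _))
  have h6 := R.normalizer_sup_eq_top
  have h7 : (R : Subgroup ↥(K ⊓ H.normalCore)).map (K ⊓ H.normalCore).subtype = Q :=
    map_subgroupOf_eq_of_le h5
  rw [h7] at h6
  exact hH.1 (top_le_iff.1 (h6 ▸ sup_le h2 (inf_le_right.trans H.normalCore_le)))

theorem card_charKer_mul_sq_le (hχ : IsIrrCharacter G χ) :
    Nat.card (charKer χ) * charDegree χ ^ 2 ≤ Nat.card G := by
  haveI := hχ.isCharacter.charKer_normal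
  obtain ⟨χ', h1, -, -, h2⟩ := exists_faithful_deflate hχ
  rw [← (charKer χ).card_mul_index, ← h2]
  exact Nat.mul_le_mul_left _ (charDegree_sq_le_card h1)

theorem exists_not_mem_charKer_ne_zero (hχ : IsIrrCharacter G χ) (h : charKer χ ≠ ⊤) :
    ∃ g, g ∉ charKer χ ∧ χ g ≠ 0 := by
  haveI := Fintype.ofFinite G
  classical
  by_contra hc
  push Not at hc
  have h1 : χ ≠ fun _ => 1 := fun e => h (by
    rw [eq_top_iff]
    exact fun x _ => hχ.isCharacter.mem_charKer_iff.2 (by simp [e]))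
  have h2 := hχ.sum_eq_zero h1
  rw [← Finset.sum_filter_add_sum_filter_not _ (· ∈ charKer χ),
    Finset.sum_eq_zero (s := Finset.univ.filter (· ∉ charKer χ))
      (fun x hx => hc x (Finset.mem_filter.1 hx).2), add_zero,
    Finset.sum_congr rfl (g := fun _ => χ 1)
      (fun x hx => hχ.isCharacter.mem_charKer_iff.1 (Finset.mem_filter.1 hx).2),
    Finset.sum_const, nsmul_eq_mul, mul_eq_zero_iff_right hχ.apply_one_ne_zero, Nat.cast_eq_zero,
    Finset.card_eq_zero] at h2
  have : (1 : G) ∈ Finset.univ.filter (· ∈ charKer χ) := by simp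
  simp [h2] at this

theorem exists_larger_of_eq_fitting [Group.IsSolvable G] (hχ : IsIrrCharacter G χ)
    (hK : charKer χ = fittingSubgroup G) (hne : charKer χ ≠ ⊤) :
    ∃ ψ, IsIrrCharacter G ψ ∧ charDegree χ < charDegree ψ ∧ charKer ψ < charKer χ := by
  by_contra hc
  push Not at hc
  haveI hn := hχ.isCharacter.charKer_normal
  obtain ⟨g, hg, h0⟩ := exists_not_mem_charKer_ne_zero hχ hne
  apply hg
  have h1 : ∀ y ∈ charKer χ, ⁅g, y⁆ ∈ frattini G := fun y hy => by
    rw [frattini, Order.radical, mem_iInf]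
    intro H
    rw [mem_iInf]
    intro hH
    by_cases h2 : charKer χ ≤ H
    · exact h2 ((commutator_le_right ⊤ _) (commutator_mem_commutator (mem_top g) hy))
    obtain ⟨k, hk, x, hx, rfl⟩ := mem_sup_of_normal_left.1
      (sup_eq_top_of_isCoatom hH h2 ▸ mem_top g)
    have h3 := mem_normalCore_of_no_larger hχ hH h2 hc hx (by rwa [mem_charKer.1 hk] at h0)
    have h4 : ⁅x, y⁆ ∈ H.normalCore :=
      (commutator_le_left _ ⊤) (commutator_mem_commutator h3 (mem_top y))
    have h5 : ⁅k, y⁆ ∈ H := frattini_le_coatom hH (commutator_fittingSubgroup_le_frattini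
      (hK ▸ commutator_mem_commutator hk hy))
    have h6 : ⁅k * x, y⁆ = k * ⁅x, y⁆ * k⁻¹ * ⁅k, y⁆ := by group
    rw [h6]
    exact H.mul_mem (h4 k) h5
  rw [hK, ← comap_fittingSubgroup_mk'_of_le_frattini (le_refl (frattini G))]
  refine centralizer_fittingSubgroup_le fun y hy => ?_
  rw [← map_fittingSubgroup_mk'_of_le_frattini le_rfl] at hy
  obtain ⟨y, hy, rfl⟩ := hy
  have h2 := (QuotientGroup.eq_one_iff _).2 (h1 y (hK ▸ hy))
  have h3 : ⁅(g : G ⧸ frattini G), (y : G ⧸ frattini G)⁆ = 1 := h2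
  exact (commutatorElement_eq_one_iff_mul_comm.1 h3).symm

/-- In a solvable non-nilpotent group, the quotient by the Fitting subgroup has fewer degrees. -/
theorem cd_quotient_fitting_ssubset [Group.IsSolvable G] (h : fittingSubgroup G ≠ ⊤) :
    cd (G ⧸ fittingSubgroup G) ⊂ cd G := by
  refine (Finset.ssubset_iff_of_subset (cd_quotient_subset _)).2
    ⟨(cd G).max' ⟨1, one_mem_cd⟩, Finset.max'_mem _ _, fun h1 => ?_⟩
  obtain ⟨χ, h2, h3⟩ := mem_cd'.1 h1
  have h4 := h2.inflate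
  have h5 : fittingSubgroup G ≤ charKer fun g : G => χ (g : G ⧸ fittingSubgroup G) := fun x hx =>
    h4.isCharacter.mem_charKer_iff.2 (by simp [(QuotientGroup.eq_one_iff x).2 hx])
  have h6 : ∀ ψ, IsIrrCharacter G ψ →
      ¬ charDegree (fun g : G => χ (g : G ⧸ fittingSubgroup G)) < charDegree ψ := fun ψ hψ h7 =>
    absurd ((cd G).le_max' _ (charDegree_mem_cd hψ)) (by
      rw [← h3]
      exact not_le.2 h7)
  by_cases h7 : (charKer fun g : G => χ (g : G ⧸ fittingSubgroup G)) ≤ fittingSubgroup G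
  · obtain ⟨ψ, h8, h9, -⟩ := exists_larger_of_eq_fitting h4 (le_antisymm h7 h5)
      (fun e => h (top_le_iff.1 (e ▸ h7)))
    exact h6 ψ h8 h9
  · obtain ⟨ψ, h8, h9, -⟩ := exists_larger_of_not_le_fitting h4 h7
    exact h6 ψ h8 h9

end Cfsg.Lib.CharDeg
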