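import Cfsg.Agent.Lib.Char.Central

/-! Counting conjugacy classes with a property through centralizer orders. -/

set_option autoImplicit false

namespace Cfsg.Lib.CharDeg

open Cfsg.Lib.Char

variable {G : Type*} [Group G]

open Classical in
theorem card_classes_mul_card [Fintype G] (P : ConjClasses G → Prop) :
    (Nat.card {C // P C} : ℂ) * Nat.card G = ∑ g : G,
      if P (ConjClasses.mk g) then (Nat.card (Subgroup.centralizer ({g} : Set G)) : ℂ) else 0 := by
  haveI := Fintype.ofFinite (ConjClasses G)
  have hcf : IsClassFunction G (fun g => if P (ConjClasses.mk g) then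
      (Nat.card (Subgroup.centralizer ({g} : Set G)) : ℂ) else 0) := by
    rw [isClassFunction_iff_isConj]
    intro a b h
    simp only [ConjClasses.mk_eq_mk_iff_isConj.2 h, card_centralizer_eq_of_isConj h]
  rw [sum_eq_sum_conjClasses hcf, Nat.subtype_card (Finset.univ.filter P) (by simp),
    Finset.card_filter, Nat.cast_sum, Finset.sum_mul]
  refine Finset.sum_congr rfl fun C _ => ?_
  have : ConjClasses.mk C.out = C := Quotient.out_eq C
  rw [this]
  split_ifs
  · rw [← Nat.cast_mul, ← Nat.cast_mul, one_mul, Subgroup.index_mul_card]
  · simp

open Classical in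
theorem card_classes_mul_card_nat [Fintype G] (P : ConjClasses G → Prop) :
    Nat.card {C // P C} * Nat.card G = ∑ g ∈ Finset.univ.filter (fun g => P (ConjClasses.mk g)),
      Nat.card (Subgroup.centralizer ({g} : Set G)) := by
  have := card_classes_mul_card P
  rw [← Finset.sum_filter] at this
  exact_mod_cast this

theorem card_conjClasses_mul_card [Fintype G] :
    Nat.card (ConjClasses G) * Nat.card G =
      ∑ g : G, Nat.card (Subgroup.centralizer ({g} : Set G)) := by
  classical
  have := card_classes_mul_card_nat (G := G) (fun _ => True)
  rw [Nat.card_congr (Equiv.subtypeUnivEquiv (fun _ => trivial))] at this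
  simpa using this

end Cfsg.Lib.CharDeg
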