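import Cfsg.Agent.Lib.CharDeg.CosetSum

/-!
# Restricting a character to a product of commuting subgroups

For commuting subgroups `C`, `S` and a character `χ`, `χ(c x) = ∑_β μ_β(x) β(c)` with characters
`μ_β` of `S`.
-/

set_option autoImplicit false

namespace Cfsg.Lib.CharDeg

open Cfsg.Lib.Char
open scoped ComplexConjugate

variable {Γ : Type*} [Group Γ]

/-- The coefficient of `β` in `c ↦ χ (c x)`. -/
noncomputable def cosetMult (C : Subgroup Γ) [Fintype C] (χ : Γ → ℂ) (β : C → ℂ) (x : Γ) : ℂ :=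
  classInner (fun c : C => χ (c * x)) β

theorem isClassFunction_mul_right {C : Subgroup Γ} {χ : Γ → ℂ} (hχ : IsClassFunction Γ χ) {x : Γ}
    (hx : ∀ c ∈ C, c * x = x * c) : IsClassFunction C (fun c : C => χ (c * x)) := by
  rw [isClassFunction_iff_isConj]
  intro a b hab
  obtain ⟨g, rfl⟩ := isConj_iff.mp hab
  rw [← hχ.conj_apply _ g]
  congr 1
  push_cast
  rw [mul_assoc _ _ x, hx _ (C.inv_mem g.2)]
  group

theorem apply_eq_sum_cosetMult {C : Subgroup Γ} [Fintype C] {χ : Γ → ℂ}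
    (hχ : IsClassFunction Γ χ) {x : Γ} (hx : ∀ c ∈ C, c * x = x * c) (c : C) :
    χ (c * x) = ∑ β : IrrCharacter C, cosetMult C χ β x * (β : C → ℂ) c :=
  (isClassFunction_mul_right hχ hx).apply_eq_sum_irr c

theorem isCharacter_cosetMult {C S : Subgroup Γ} [Fintype C] [Finite S]
    (hCS : ∀ c ∈ C, ∀ s ∈ S, c * s = s * c) {χ : Γ → ℂ} (hχ : IsCharacter Γ χ) {β : C → ℂ}
    (hβ : IsCharacter C β) : IsCharacter S (fun x : S => cosetMult C χ β x) := by
  have := Fintype.ofFinite S
  let ι : C × S →* Γ := MonoidHom.noncommCoprod C.subtype S.subtype fun c s => hCS c c.2 s s.2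
  refine Char.Cfsg.IsClassFunction.isCharacter_of_inner_nat ?_ fun lam hlam => ?_
  · rw [isClassFunction_iff_isConj]
    intro a b hab
    obtain ⟨g, rfl⟩ := isConj_iff.mp hab
    unfold cosetMult
    congr 1
    funext c
    rw [← hχ.isClassFunction.conj_apply _ g]
    congr 1
    push_cast
    rw [← mul_assoc, ← mul_assoc, ← mul_assoc, hCS c c.2 g g.2]
  · obtain ⟨n, hn⟩ := (hχ.comp ι).exists_inner_eq_nat
      ((hβ.comp (MonoidHom.fst C S)).mul (hlam.isCharacter.comp (MonoidHom.snd C S)))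
    refine ⟨n, ?_⟩
    rw [← hn]
    simp only [cosetMult, classInner_def, Fintype.sum_prod_type_right, Nat.card_prod,
      Finset.mul_sum, Finset.sum_mul]
    refine Finset.sum_congr rfl fun s _ => Finset.sum_congr rfl fun c _ => ?_
    have e : ι (c, s) = c * s := rfl
    simp only [e, Pi.mul_apply, MonoidHom.coe_fst, MonoidHom.coe_snd, map_mul]
    push_cast
    ring

theorem normal_of_sup_eq_top {G S : Subgroup Γ} (hnorm : ∀ s ∈ S, ∀ g ∈ G, s * g * s⁻¹ ∈ G)
    (htop : G ⊔ S = ⊤) : G.Normal :=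
  Core.normal_of_top_le_normalizer
    (htop ▸ sup_le Subgroup.le_normalizer (le_normalizer_of_forall_conj_mem hnorm))

theorem sum_cosetMult_mul_conj {G C : Subgroup Γ} [Fintype G] [Fintype C] [hG : G.Normal] {x : Γ}
    (hC : G ⊓ Subgroup.centralizer ({x} : Set Γ) = C) (hcop : (Nat.card G).Coprime (orderOf x))
    {χ ψ : Γ → ℂ} (hχ : IsClassFunction Γ χ) (hψ : IsClassFunction Γ ψ) :
    (Nat.card G : ℂ) * ∑ β : IrrCharacter C, cosetMult C χ β x * conj (cosetMult C ψ β x) =
      ∑ g : G, χ (g * x) * conj (ψ (g * x)) := by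
  have hx : ∀ c ∈ C, c * x = x * c := fun c hc =>
    Subgroup.mem_centralizer_singleton_iff.mp (hC.ge hc).2
  have h1 := card_mul_sum_coset_eq_of_coprime hC (fun g hg => hG.conj_mem g hg x) hcop
    (f := fun y => χ y * conj (ψ y)) (fun k _ y => by rw [hχ.conj_apply, hψ.conj_apply])
  apply mul_left_cancel₀ (card_ne_zero_complex C)
  rw [h1, ← card_mul_classInner (fun c : C => χ (c * x)) (fun c : C => ψ (c * x)),
    (isClassFunction_mul_right hχ hx).inner_eq_sum_irr]
  unfold cosetMult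
  ring

theorem sum_norm_sq_cosetMult [Finite Γ] {G C : Subgroup Γ} [Fintype C] [hG : G.Normal] {x : Γ}
    (hC : G ⊓ Subgroup.centralizer ({x} : Set Γ) = C) (hcop : (Nat.card G).Coprime (orderOf x))
    {χ : Γ → ℂ} (hχ : IsCharacter Γ χ) (hχG : IsIrrCharacter G (fun g : G => χ g)) :
    ∑ β : IrrCharacter C, ‖cosetMult C χ β x‖ ^ 2 = 1 := by
  have := Fintype.ofFinite G
  have h1 := sum_cosetMult_mul_conj hC hcop hχ.isClassFunction hχ.isClassFunction
  rw [sum_coset_mul_conj_self G hχ hχG, mul_eq_left₀ (card_ne_zero_complex G)] at h1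
  simp only [Complex.mul_conj, Complex.normSq_eq_norm_sq] at h1
  exact_mod_cast h1

theorem sum_cosetMult_mul_conj_eq_zero [Finite Γ] {G C : Subgroup Γ} [Fintype C] [hG : G.Normal]
    {x : Γ} (hC : G ⊓ Subgroup.centralizer ({x} : Set Γ) = C)
    (hcop : (Nat.card G).Coprime (orderOf x)) {χ ψ : Γ → ℂ} (hχ : IsCharacter Γ χ)
    (hχG : IsIrrCharacter G (fun g : G => χ g)) (hψ : IsCharacter Γ ψ)
    (hψG : IsIrrCharacter G (fun g : G => ψ g)) (hne : (fun g : G => χ g) ≠ fun g : G => ψ g) :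
    ∑ β : IrrCharacter C, cosetMult C χ β x * conj (cosetMult C ψ β x) = 0 := by
  have := Fintype.ofFinite G
  have h1 := sum_cosetMult_mul_conj hC hcop hχ.isClassFunction hψ.isClassFunction
  rw [sum_coset_mul_conj_of_ne G (Induce.isIrrCharacter_of_restrict G hχ hχG) hψ hψG
    (hχG.inner_eq_zero_of_ne hψG hne), mul_eq_zero] at h1
  exact h1.resolve_left (card_ne_zero_complex G)

theorem cosetMult_of_eq_mul {C : Subgroup Γ} [Fintype C] {χ : Γ → ℂ} {x : Γ} {z : ℂ}
    {β : IrrCharacter C} (h : ∀ c : C, χ (c * x) = z * (β : C → ℂ) c) (β' : IrrCharacter C)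
    [Decidable (β = β')] : cosetMult C χ β' x = if β = β' then z else 0 := by
  classical
  have : (fun c : C => χ (c * x)) = z • (β : C → ℂ) := funext h
  rw [cosetMult, this, classInner_smul_left, irr_inner_eq_ite]
  split_ifs <;> simp

end Cfsg.Lib.CharDeg
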