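import Cfsg.Agent.Lib.Cyc.Prime2

/-!
# The Feit-Thompson degree bound for abelian trivial intersection subgroups
-/

set_option autoImplicit false

namespace Cfsg.Lib.CharDeg

open Subgroup Cfsg.Lib.Char Cfsg.Lib.Small Cfsg.Lib.Modular Finset
open scoped ComplexConjugate

variable {G : Type*} [Group G] [Fintype G] {H N : Subgroup G} {χ : G → ℂ}

open Classical in
theorem sum_le_of_ti {X T : Finset G} (f : G → ℝ) (h0 : ∀ g, 0 ≤ f g)
    (hf : ∀ a g, f (a⁻¹ * g * a) = f g) (hT : ∀ a g, a⁻¹ * g * a ∈ X → g ∈ T)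
    (hX : ∀ a b g, a⁻¹ * g * a ∈ X → b⁻¹ * g * b ∈ X → b⁻¹ * a ∈ N) :
    Nat.card G * ∑ x ∈ X, f x ≤ Nat.card N * ∑ g ∈ T, f g := by
  have h1 : ∀ a : G, ∑ x ∈ X, f x = ∑ g ∈ T, if a⁻¹ * g * a ∈ X then f g else 0 := fun a => by
    rw [← sum_filter]
    refine sum_nbij' (fun x => a * x * a⁻¹) (fun g => a⁻¹ * g * a) (fun x hx => ?_)
      (fun g hg => (mem_filter.1 hg).2) (fun x _ => by group) (fun x _ => by group) fun x _ => ?_
    · have : a⁻¹ * (a * x * a⁻¹) * a ∈ X := by simpa [mul_assoc] using hx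
      exact mem_filter.2 ⟨hT a _ this, this⟩
    · rw [← hf a (a * x * a⁻¹)]; simp [mul_assoc]
  rw [Nat.card_eq_fintype_card, ← nsmul_eq_mul, ← card_univ, ← sum_const, sum_congr rfl
    fun a _ => h1 a, sum_comm, mul_sum]
  refine sum_le_sum fun g _ => ?_
  rw [← sum_filter, sum_const, nsmul_eq_mul]
  refine mul_le_mul_of_nonneg_right (Nat.cast_le.2 ?_) (h0 g)
  rcases (univ.filter fun a => a⁻¹ * g * a ∈ X).eq_empty_or_nonempty with e | ⟨b, hb⟩
  · simp [e]
  rw [Nat.card_eq_fintype_card, Fintype.card_subtype]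
  exact card_le_card_of_injOn (b⁻¹ * ·) (fun a ha => by
    simpa using hX a b g (mem_filter.1 ha).2 (mem_filter.1 hb).2) (mul_right_injective _).injOn

omit [Fintype G] in
theorem avg_mul {h : G} (hh : h ∈ H) (g : G) : avg χ H (h * g) = avg χ H g := by
  rw [avg, avg, ← finsum_comp_equiv (Equiv.mulRight (⟨h, hh⟩ : H)) (f := fun x : H => χ (x * g))]
  simp [mul_assoc]

theorem card_le_sum (hχ : IsCharacter G χ) (hH : H ≤ N) (hN : N ≤ normalizer (H : Set G))
    (hker : ∃ h ∈ H, χ h ≠ χ 1) [Fintype N] :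
    (Nat.card N : ℝ) ≤ ∑ x : N, (‖χ x‖ ^ 2 - ‖avg χ H x‖ ^ 2) := by
  have := Fintype.ofFinite H
  have h1 := hχ.comp N.subtype
  have h2 := isCharacter_avg hχ hN
  have h3 : classInner (fun x : N => avg χ H x) (fun x => χ x - avg χ H x) = 0 := by
    rw [classInner_def, mul_eq_zero_iff_left (inv_ne_zero (card_ne_zero_complex _)),
      ← mul_eq_zero_iff_left (card_ne_zero_complex H), Nat.card_eq_fintype_card, ← nsmul_eq_mul,
      ← card_univ, ← sum_const, sum_congr rfl fun (h : H) _ =>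
        (Equiv.sum_comp (Equiv.mulLeft (⟨h, hH h.2⟩ : N)) _).symm, sum_comm]
    refine sum_eq_zero fun x _ => ?_
    simp only [Equiv.coe_mulLeft, Subgroup.coe_mul, fun h : H => avg_mul (χ := χ) h.2, ← mul_sum, ← map_sum,
      sum_sub_distrib, ← card_mul_avg]
    simp
  have h4 := h1.isGeneralizedCharacter.sub h2.isGeneralizedCharacter
  obtain ⟨n, h5⟩ := h4.exists_inner_eq_int h4
  have h6 : 0 < n := by
    refine lt_of_le_of_ne (by simpa using (classInner_self_re_nonneg _).trans_eq (congrArg _ h5)) fun e => ?_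
    rw [← e, Int.cast_zero, classInner_self_eq_zero_iff] at h5
    obtain ⟨h, hh, h6⟩ := hker
    have h7 := congrFun h5 ⟨h, hH hh⟩
    have h8 := congrFun h5 1
    have h9 := avg_mul (χ := χ) hh 1
    simp only [Pi.sub_apply, coe_subtype, Pi.zero_apply, Subgroup.coe_one, mul_one] at h7 h8 h9
    exact h6 (by linear_combination h7 - h8 + h9)
  have h7 := congrArg Complex.re ((card_mul_classInner _ _).symm.trans (congrArg _ h5))
  have h8 := congrArg Complex.re ((card_mul_classInner _ _).symm.trans (congrArg _ h3))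
  rw [Complex.re_sum] at h7 h8
  calc (Nat.card N : ℝ) ≤ Nat.card N * n := le_mul_of_one_le_right (Nat.cast_nonneg _) (by exact_mod_cast h6)
    _ = _ := by
      simp only [Complex.mul_re, Complex.natCast_re, Complex.intCast_re, Complex.natCast_im,
        zero_mul, sub_zero, mul_zero, Complex.zero_re] at h7 h8
      rw [← h7, ← add_zero (∑ _, _), ← mul_zero 2, ← h8, mul_sum, ← sum_add_distrib]
      refine sum_congr rfl fun x _ => ?_
      simp [Complex.sq_norm, Complex.normSq_apply]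
      ring

variable (hab : ∀ a ∈ H, ∀ b ∈ H, a * b = b * a) (hZ : H ⊓ center G = ⊥)
  (hone : ∀ g : G, g ∉ center G → ∀ a b : G,
    centralizer ({g} : Set G) ⊓ H.map (MulAut.conj a).toMonoidHom ≠ ⊥ →
    centralizer ({g} : Set G) ⊓ H.map (MulAut.conj b).toMonoidHom ≠ ⊥ →
    H.map (MulAut.conj a).toMonoidHom = H.map (MulAut.conj b).toMonoidHom)
include hab hZ hone

theorem card_mul_fixDim_sq_lt (hχ : IsIrrCharacter G χ) (hker : ∃ h ∈ H, χ h ≠ χ 1) :
    Nat.card H * fixDim χ H ^ 2 < charDegree χ ^ 2 := by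
  classical
  let X := univ.filter fun x => x ∉ center G ∧ ∃ h ∈ H, h ≠ 1 ∧ h * x = x * h
  have h1 : ∀ a b g, a⁻¹ * g * a ∈ X → b⁻¹ * g * b ∈ X → b⁻¹ * a ∈ normalizer (H : Set G) :=
    fun a b g ha hb => by
      have h1 : ∀ a, a⁻¹ * g * a ∈ X → centralizer ({g} : Set G) ⊓
          H.map (MulAut.conj a).toMonoidHom ≠ ⊥ := fun a ha e => by
        obtain ⟨-, h, h1, h2, h3⟩ := (mem_filter.1 ha).2
        refine h2 ((MulAut.conj a).map_eq_one_iff.1 (mem_bot.1 (e.le ⟨mem_centralizer_singleton_iff.2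
          ?_, h, h1, rfl⟩)))
        rw [MulAut.conj_apply, show a * h * a⁻¹ * g = a * (h * (a⁻¹ * g * a)) * a⁻¹ by group, h3]
        group
      have h2 := hone g (fun e => (mem_filter.1 ha).2.1 (by
        rw [mul_assoc, ← mem_center_iff.1 e, inv_mul_cancel_left]; exact e)) a b (h1 a ha) (h1 b hb)
      refine mem_normalizer_fintype fun h hh => ?_
      obtain ⟨k, hk, e⟩ := h2.le ⟨h, hh, rfl⟩
      have : b * k * b⁻¹ = a * h * a⁻¹ := e
      rwa [show b⁻¹ * a * h * (b⁻¹ * a)⁻¹ = k by rw [mul_inv_rev, inv_inv, mul_assoc b⁻¹,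
        mul_assoc b⁻¹, ← mul_assoc _ a⁻¹, ← this]; group]
  have h2 := sum_le_of_ti (T := {1}ᶜ) (fun g => ‖χ g‖ ^ 2) (fun _ => sq_nonneg _) (fun a g => by
    rw [← hχ.isClassFunction.eq_of_isConj (isConj_iff.2 ⟨a⁻¹, by rw [inv_inv]⟩)])
    (fun a g h => mem_compl.2 fun e => (mem_filter.1 h).2.1 (by simp [mem_singleton.1 e])) h1
  have h3 := (sum_add_sum_compl {1} _).trans hχ.sum_norm_sq
  have h4 : ‖χ 1‖ = charDegree χ := by rw [hχ.apply_one_eq, Complex.norm_natCast]
  have h5 : (0 : ℝ) < charDegree χ := by exact_mod_cast hχ.charDegree_pos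
  have h6 : ∑ x ∈ X, ‖χ x‖ ^ 2 < Nat.card (normalizer (H : Set G)) := by
    rw [sum_singleton, h4] at h3
    have h6 : (0 : ℝ) < Nat.card (normalizer (H : Set G)) := by exact_mod_cast Nat.card_pos
    refine lt_of_mul_lt_mul_left (h2.trans_lt ?_) (Nat.cast_nonneg _)
    rw [mul_comm]
    exact mul_lt_mul_of_pos_right (by nlinarith) h6
  have h7 := card_le_sum hχ.isCharacter le_normalizer le_rfl hker
  let Z := univ.filter (· ∈ center G)
  have h8 : Disjoint X Z := disjoint_left.2 fun x hx hz => (mem_filter.1 hx).2.1 (mem_filter.1 hz).2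
  have h9 : ∀ z ∈ center G, ∀ g, ‖χ (g * z)‖ = ‖χ g‖ ∧ ‖avg χ H (g * z)‖ = ‖avg χ H g‖ :=
    fun z hz g => by
      obtain ⟨ω, h9, h10⟩ := exists_scalar_of_mem_center hχ hz
      have h11 := Complex.norm_eq_one_of_pow_eq_one h9 (orderOf_pos z).ne'
      have h12 : avg χ H (g * z) = ω * avg χ H g := mul_left_cancel₀ (card_ne_zero_complex H) (by
        rw [mul_left_comm, card_mul_avg, card_mul_avg, mul_sum]
        exact sum_congr rfl fun x _ => by rw [← mul_assoc, mem_center_iff.1 hz, h10])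
      rw [h12, mem_center_iff.1 hz, h10, norm_mul, norm_mul, h11, one_mul, one_mul]
      exact ⟨rfl, rfl⟩
  rw [← sum_subtype (univ.filter (· ∈ normalizer (H : Set G))) (by simp)
    fun x => ‖χ x‖ ^ 2 - ‖avg χ H x‖ ^ 2, ← sum_subset (s₁ := X ∪ Z) (fun x hx => ?_) fun x h10 hx => ?_,
    sum_sub_distrib, sum_union h8, sum_congr (s₁ := Z) rfl (g := fun _ => (charDegree χ : ℝ) ^ 2)
    fun z hz => by rw [← one_mul z, (h9 z (mem_filter.1 hz).2 1).1, h4], sum_const] at h7
  · have h10 : ∑ y : H × center G, ‖avg χ H (y.1 * y.2)‖ ^ 2 ≤ ∑ x ∈ X ∪ Z, ‖avg χ H x‖ ^ 2 := by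
      rw [← sum_image (f := fun x => ‖avg χ H x‖ ^ 2) (g := fun y : H × center G => y.1.1 * y.2.1)
        fun y _ y' _ e => ?_]
      · refine sum_le_sum_of_subset_of_nonneg (fun x hx => ?_) fun _ _ _ => sq_nonneg _
        obtain ⟨⟨h, z⟩, -, rfl⟩ := mem_image.1 hx
        by_cases e : h.1 * z.1 ∈ center G
        · exact mem_union_right _ (mem_filter.2 ⟨mem_univ _, e⟩)
        · refine mem_union_left _ (mem_filter.2 ⟨mem_univ _, e, h, h.2, fun e' => e ?_, ?_⟩)
          · rw [e', one_mul]; exact z.2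
          · rw [mul_assoc, mem_center_iff.1 z.2]
      · have h10 : y'.1.1⁻¹ * y.1 = y'.2 * y.2.1⁻¹ := by
          rw [inv_mul_eq_iff_eq_mul, ← mul_assoc, eq_mul_inv_iff_mul_eq]
          exact e
        have h11 := mem_bot.1 (hZ.le (mem_inf.2 ⟨mul_mem (inv_mem y'.1.2) y.1.2,
          h10 ▸ mul_mem y'.2.2 (inv_mem y.2.2)⟩))
        exact Prod.ext (Subtype.ext (inv_mul_eq_one.1 h11).symm)
          (Subtype.ext (mul_inv_eq_one.1 (h10 ▸ h11)).symm)
    rw [sum_congr rfl fun y _ => by rw [(h9 _ y.2.2 _).2, ← mul_one (y.1 : G), avg_mul y.1.2,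
      avg_one hχ.isCharacter, Complex.norm_natCast], sum_const, card_univ, Fintype.card_prod,
      Fintype.card_subtype (· ∈ center G), ← Nat.card_eq_fintype_card] at h10
    have h11 : (0 : ℝ) < #Z := by exact_mod_cast card_pos.2 ⟨1, by simp [Z]⟩
    simp only [nsmul_eq_mul, Nat.cast_mul] at h7 h10
    exact_mod_cast (lt_of_mul_lt_mul_left (a := (#Z : ℝ)) (by linarith) h11.le :
      (Nat.card H * fixDim χ H ^ 2 : ℝ) < charDegree χ ^ 2)
  · refine mem_filter.2 ⟨mem_univ _, (mem_union.1 hx).elim (fun hx => ?_) fun hx =>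
      center_le_normalizer _ (mem_filter.1 hx).2⟩
    simpa using h1 x 1 x (by simpa using hx) (by simpa using hx)
  · rw [avg_eq_of_fpf hχ.isClassFunction (mem_filter.1 h10).2 fun y hy e => ?_, sub_self]
    by_contra h11
    exact hx (mem_union.2 (or_iff_not_imp_right.2 fun h12 => mem_filter.2 ⟨mem_univ _,
      fun h13 => h12 (mem_filter.2 ⟨mem_univ _, h13⟩), y, hy, h11, e⟩))

theorem card_lt_sq (hχ : IsIrrCharacter G χ) (h1 : χ 1 ≠ 1)
    (hM : ∀ M : Subgroup G, M.Normal → H ≤ M → M = ⊤) : Nat.card H < (1 + charDegree χ) ^ 2 := by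
  by_contra! h
  have : IsMulCommutative H := ⟨⟨fun a b => Subtype.ext (hab a a.2 b b.2)⟩⟩
  have h2 := hχ.isCharacter.mul hχ.conj.isCharacter
  have h3 : classInner (χ * fun g => conj (χ g)) (fun _ => 1) = 1 :=
    (classInner_eq_inner_one χ χ).symm.trans hχ.inner_self
  have h4 := h2.sub_irr isIrrCharacter_one (h3.trans_ne one_ne_zero)
  have h5 := charDegree_le_fixDim_mul_conj (A := H) hχ.isCharacter
  have h6 := fixDim_add (A := H) h4 isCharacter_one
  obtain ⟨D, hD⟩ := Nat.exists_eq_succ_of_ne_zero (Nat.card_pos (α := G)).ne'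
  have h7 := mul_fixDim_le (A := H) h4 (r := (1 + charDegree χ) * (D + 1)) (s := D) fun ψ hψ h7 => by
    have h8 := card_mul_fixDim_sq_lt hab hZ hone hψ (by
      by_contra! h8
      refine h7 ?_
      rw [show ψ = fun _ => 1 from congrArg Subtype.val (eq_irrOne_of_forall_apply_eq ⟨ψ, hψ⟩
        fun g => hψ.isCharacter.mem_charKer_iff.1 ((hM _ hψ.isCharacter.charKer_normal fun h hh =>
          hψ.isCharacter.mem_charKer_iff.2 (h8 h hh)).ge (mem_top g))), classInner_sub_left, h3,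
        isIrrCharacter_one.inner_self, sub_self])
    have h9 := lt_of_pow_lt_pow_left₀ 2 (Nat.zero_le _) (((mul_pow ..).trans_le
      (Nat.mul_le_mul_right _ h)).trans_lt h8)
    have h10 := Nat.le_of_dvd Nat.card_pos hψ.charDegree_dvd_card
    nlinarith
  have h8 : charDegree ((χ * fun g => conj (χ g)) - fun _ => 1) + 1 = charDegree χ ^ 2 := by
    have := h4.apply_one_eq
    rw [Pi.sub_apply, Pi.mul_apply, hχ.apply_one_eq, map_natCast, sub_eq_iff_eq_add, ← sq] at this
    exact_mod_cast this.symm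
  have h9 : 2 ≤ charDegree χ := by
    have := hχ.charDegree_pos
    have : charDegree χ ≠ 1 := fun e => h1 (by rw [hχ.apply_one_eq, e, Nat.cast_one])
    omega
  rw [sub_add_cancel, fixDim_one] at h6
  obtain ⟨d, hd⟩ := Nat.exists_eq_add_of_le' h9
  rw [hd] at h5 h7 h8
  have h10 : d + 1 ≤ fixDim ((χ * fun g => conj (χ g)) - fun _ => 1) H := by omega
  nlinarith [Nat.mul_le_mul_left ((1 + (d + 2)) * (D + 1)) h10]

end Cfsg.Lib.CharDeg
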