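import Cfsg.Agent.Lib.Cyc.Half
import Cfsg.Agent.Lib.HH.ModB

/-!
# Ito's theorem on `p`-solvable linear groups of small degree
-/

set_option autoImplicit false

namespace Cfsg.Lib.CharDeg

open Subgroup Module Cfsg.Lib.Char Cfsg.Lib.Cyc Cfsg.Lib.Core Cfsg.Lib.Modular

universe u

variable {G : Type*} [Group G] [Finite G] {p : ℕ} [hp : Fact p.Prime] {g : G} {χ : G → ℂ}

theorem le_finrank_of_isPSolvable {k : Type*} [Field k] [CharP k p] (hs : IsPSolvable p G)
    (P : Sylow p G) (hg : g ∈ normalClosure ((P : Subgroup G) : Set G)) (n : ℕ) :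
    ∀ (V : Type u) [AddCommGroup V] [Module k V] [FiniteDimensional k V] (σ : Representation k G V),
      finrank k V ≤ n → (∀ a, σ (g ^ p ^ a) ≠ 1) → p ≤ n ∨ p ≤ n + 1 ∧ ∃ m, p = 2 ^ m + 1 := by
  induction n with
  | zero =>
    intro V _ _ _ σ h h1
    have := finrank_zero_iff.1 (Nat.le_zero.1 h)
    exact absurd (Subsingleton.elim _ _) (h1 0)
  | succ n ih =>
    intro V _ _ _ σ h h1
    by_cases h2 : ∃ W : Submodule k V, W ≠ ⊥ ∧ W ≠ ⊤ ∧ ∀ g, W ≤ W.comap (σ g)
    · obtain ⟨W, h2, h3, hW⟩ := h2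
      have h4 := Submodule.finrank_lt h3
      have h5 := W.finrank_quotient_add_finrank
      have h6 := Submodule.finrank_eq_zero.not.2 h2
      suffices p ≤ n ∨ p ≤ n + 1 ∧ ∃ m, p = 2 ^ m + 1 from .inl (by omega)
      by_cases h7 : ∀ a, σ.subrepresentation _ hW (g ^ p ^ a) ≠ 1
      · exact ih _ _ (by omega) h7
      obtain ⟨a, ha⟩ := not_forall_not.1 h7
      exact ih _ (σ.quotient _ hW) (by omega) fun b hb => h1 _ (exists_pow_of_sub_quot σ hW ha hb)
    have : Nontrivial V := not_subsingleton_iff_nontrivial.1 fun _ => h1 0 (Subsingleton.elim _ _)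
    let τ : Representation k (G ⧸ σ.ker) V := QuotientGroup.lift σ.ker σ le_rfl
    have h3 : Function.Injective τ := (injective_iff_map_eq_one τ).2 fun a =>
      a.inductionOn fun a ha => (QuotientGroup.eq_one_iff a).2 ha
    have h4 : pCore p (G ⧸ σ.ker) = ⊥ := by
      obtain ⟨v, -, h4, h5⟩ := Perm.exists_fixed_vector (pCore_isPGroup p _)
        (τ.comp (pCore p _).subtype) ⊤ (fun _ _ _ => trivial) top_ne_bot
      have h6 : Representation.invariants (τ.comp (pCore p _).subtype) = ⊤ := by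
        by_contra h6
        refine h2 ⟨_, fun e => h4 ((Submodule.mem_bot k).1 (e.le ((Representation.mem_invariants _ _).2 h5))), h6,
          fun a w hw b => ?_⟩
        have := congrArg (τ a) (hw ⟨_, (inferInstance : (pCore p (G ⧸ σ.ker)).Normal).conj_mem'
          b.1 b.2 a⟩)
        rwa [MonoidHom.comp_apply, ← End.mul_apply, ← map_mul, coe_subtype, ← mul_assoc,
          mul_inv_cancel_left, map_mul] at this
      exact eq_bot_iff.2 fun b hb => h3 ((LinearMap.ext fun w =>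
        h6.ge Submodule.mem_top ⟨b, hb⟩).trans τ.map_one.symm)
    obtain ⟨x, hx, h5⟩ : ∃ x ∈ (P : Subgroup G), σ x ≠ 1 := by
      by_contra! h5
      exact h1 0 (normalClosure_le_normal (N := σ.ker) h5 (pow_mem hg _))
    obtain ⟨j, hj⟩ := P.2 ⟨x, hx⟩
    replace hj : x ^ p ^ j = 1 := congrArg Subtype.val hj
    obtain ⟨i, -, hi⟩ := (Nat.dvd_prime_pow hp.out).1 (orderOf_dvd_of_pow_eq_one
      (show (x : G ⧸ σ.ker) ^ p ^ j = 1 by rw [← QuotientGroup.mk_pow, hj, QuotientGroup.mk_one]))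
    have h6 : i ≠ 0 := by
      rintro rfl
      exact h5 ((QuotientGroup.eq_one_iff x).1 (orderOf_eq_one_iff.1 hi))
    have h7 := hp.out.two_le
    rcases HH.ModB.thmB h3 (isPSolvable_quotient hs _) h4 hi (pow_finrank_eq_zero
      (isNilpotent_sub_one σ hj)) with h8 | ⟨l, q, m, h8, -, hq, h9, h10, -, h11⟩
    · exact .inl ((Nat.le_self_pow h6 p).trans (h8.trans h))
    have h12 := (Nat.le_mul_of_pos_left _ (pow_pos hp.out.pos _)).trans (h11.trans h)
    obtain ⟨l, rfl⟩ := Nat.exists_eq_add_of_le' h8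
    rcases l with _ | l
    · rw [zero_add, pow_one] at h10 h12
      refine .inr ⟨by omega, ?_⟩
      rcases hp.out.eq_two_or_odd with rfl | h13
      · exact ⟨0, rfl⟩
      obtain rfl : 2 = q := (Nat.prime_dvd_prime_iff_eq Nat.prime_two hq).1
        (Nat.prime_two.dvd_of_dvd_pow (n := m) (by omega))
      exact ⟨m, by omega⟩
    · have : p * 2 ≤ p ^ (l + 1) * p := Nat.mul_le_mul (Nat.le_self_pow l.succ_ne_zero p) h7
      rw [pow_succ] at h12
      exact .inl (by omega)

theorem eq_of_isPSolvable (hs : IsPSolvable p G) (P : Sylow p G) (hχ : IsCharacter G χ)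
    (hg : g ∈ normalClosure ((P : Subgroup G) : Set G)) (h1 : ¬ p ∣ orderOf g) (h2 : χ g ≠ χ 1)
    (hd : charDegree χ < p) : charDegree χ + 1 = p ∧ ∃ m, charDegree χ = 2 ^ m := by
  obtain ⟨n, ρ, rfl⟩ := hχ
  obtain ⟨k, _, _, _, σ, hσ⟩ := exists_reduction ρ p
  rw [charDegree_character] at hd ⊢
  rcases le_finrank_of_isPSolvable hs P hg _ _ σ (finrank_fin_fun k).le fun a ha => h2
    ((character_eq_character_one_iff ρ g).2 (zpowers_le.2 (show _ ∈ ρ.ker from hσ _
      (fun e => h1 (e.trans (orderOf_pow_dvd _))) ha) (mem_zpowers_pow_iff.2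
        ((hp.out.coprime_iff_not_dvd.2 h1).pow_left a)))) with h | ⟨h, m, hm⟩
  · omega
  · exact ⟨by omega, m, by omega⟩

/-- **Ito**: `p`-solvable linear groups of degree less than `p`. -/
theorem ito_of_isPSolvable (hs : IsPSolvable p G) (P : Sylow p G) (hχ : IsCharacter G χ)
    (hf : ∀ g, χ g = χ 1 → g = 1) (hn : ¬ (P : Subgroup G).Normal) (hd : charDegree χ < p) :
    charDegree χ + 1 = p ∧ (∃ m, charDegree χ = 2 ^ m) ∧ IsIrrCharacter G χ := by
  have := Fintype.ofFinite G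
  obtain ⟨g, hg, h1, h2⟩ : ∃ g ∈ normalClosure ((P : Subgroup G) : Set G),
      ¬ p ∣ orderOf g ∧ g ≠ 1 := by
    by_contra! h
    refine hn (P.is_maximal' (Q := normalClosure _) (fun g => ?_) le_normalClosure ▸ inferInstance)
    obtain ⟨a, ha⟩ := (regPart_eq_one_iff hp.out).1 (h _ (regPart_mem p g.2)
      (not_dvd_orderOf_regPart hp.out _))
    exact ⟨a, Subtype.ext (ha ▸ pow_orderOf_eq_one _)⟩
  have h3 := mt (hf g) h2
  obtain ⟨h4, h5⟩ := eq_of_isPSolvable hs P hχ hg h1 h3 hd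
  obtain ⟨ψ, h6, h7⟩ := hχ.isClassFunction.exists_irr_inner_ne_zero fun e => h3 (by simp [e])
  have h8 := hχ.sub_irr h6 h7
  have h9 : charDegree (χ - ψ) + charDegree ψ = charDegree χ := by
    have := h8.apply_one_eq
    rw [Pi.sub_apply, hχ.apply_one_eq, h6.apply_one_eq, sub_eq_iff_eq_add] at this
    exact_mod_cast this.symm
  have h10 := h6.charDegree_pos
  refine ⟨h4, h5, Induce.eq_of_constituent_of_apply_one_eq hχ h6 h7 ?_ ▸ h6⟩
  by_cases h11 : ψ g = ψ 1
  · have := (eq_of_isPSolvable hs P h8 hg h1 (by simpa [h11] using h3) (by omega)).1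
    omega
  · have := (eq_of_isPSolvable hs P h6.isCharacter hg h1 h11 (by omega)).1
    rw [hχ.apply_one_eq, h6.apply_one_eq, Nat.cast_inj]
    omega

end Cfsg.Lib.CharDeg
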