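import Cfsg.Agent.Lib.CharDeg.FTLin
import Cfsg.Agent.Lib.CharDeg.ItoLin
import Cfsg.Agent.Lib.CharDeg.Blichfeldt
import Cfsg.Agent.Lib.Transfer.Fusion

/-!
# The Feit-Thompson reduction for normal Sylow subgroups of linear groups
-/

set_option autoImplicit false

namespace Cfsg.Lib.CharDeg

open Subgroup Module Cfsg.Lib.Char Cfsg.Lib.Cyc Cfsg.Lib.Core

universe u

variable {p : ℕ} [hp : Fact p.Prime]

omit hp in
theorem isPGroup_sup_of_normal_sylow {G : Type*} [Group G] {K A B : Subgroup G}
    (hK : ∀ Q : Sylow p K, (Q : Subgroup K).Normal) (hA : IsPGroup p A) (hB : IsPGroup p B)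
    (h1 : A ≤ K) (h2 : B ≤ K) : IsPGroup p ↥(A ⊔ B) := by
  obtain ⟨Q⟩ : Nonempty (Sylow p K) := inferInstance
  have := hK Q
  have h3 : ∀ {A : Subgroup G}, IsPGroup p A → A ≤ K → A ≤ (Q : Subgroup K).map K.subtype :=
    fun {A} hA h1 => by
      rw [← inf_eq_left.2 h1, ← subgroupOf_map_subtype]
      exact map_mono (le_sup_left.trans (Q.is_maximal' ((hA.comap_of_injective _
        K.subtype_injective).to_sup_of_normal_right Q.2) le_sup_right).le)
  exact (Q.2.map _).to_le (sup_le (h3 hA h1) (h3 hB h2))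

theorem normal_sylow_of_forall (m : ℕ) : ∀ (G : Type u) [Group G] [Finite G] (χ : G → ℂ),
    Nat.card G = m → IsCharacter G χ → (∀ g, χ g = χ 1 → g = 1) → charDegree χ + 1 < p →
    (∀ K : Subgroup G, ¬ p ^ 2 ∣ Nat.card K → ∀ Q : Sylow p K, (Q : Subgroup K).Normal) →
    ∀ P : Sylow p G, (P : Subgroup G).Normal := by
  induction m using Nat.strong_induction_on with | _ m ih => ?_
  intro G _ _ χ hm hχ hf hd h P
  have := Fintype.ofFinite G
  have h0 : ∀ {K L : Type u} [Group K] [Group L] (e : K ≃* L) (h : ∀ Q : Sylow p K,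
      (Q : Subgroup K).Normal) (Q : Sylow p L), (Q : Subgroup L).Normal := fun e h Q => by
    have := (h (Q.comapOfInjective e.toMonoidHom e.injective (by simp))).map e.toMonoidHom e.surjective
    exact map_comap_eq_self_of_surjective (f := e.toMonoidHom) e.surjective Q.1 ▸ this
  by_cases h1 : ¬ p ^ 2 ∣ Nat.card G
  · exact h0 topEquiv (h ⊤ (by rwa [card_top])) P
  have h2 : ∀ K : Subgroup G, K ≠ ⊤ → ∀ Q : Sylow p K, (Q : Subgroup K).Normal := fun K hK =>
    ih _ (hm ▸ card_lt_of_ne_top hK) K _ rfl (hχ.comp K.subtype) (fun g hg => Subtype.ext (hf g hg))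
      hd fun L hL => h0 (L.equivMapOfInjective _ K.subtype_injective).symm
        (h _ (by rwa [card_map_of_injective K.subtype_injective]))
  by_contra hn
  have h3 : commutator G = ⊤ := by
    by_contra h3
    obtain ⟨Q⟩ : Nonempty (Sylow p (commutator G)) := inferInstance
    have := h2 _ h3 Q
    have := (ito_of_isPSolvable (isPSolvable_of_normal_quotient _ (isPSolvable_of_normal_quotient
      (Q : Subgroup (commutator G)) (isPSolvable_of_isPGroup Q.2) (isPSolvable_of_coprime
        (hp.out.coprime_iff_not_dvd.2 Q.not_dvd_index).symm)) (isPSolvable_of_isSolvable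
          (inferInstanceAs (Group.IsSolvable (Abelianization G))))) P hχ hf hn (by omega)).1
    omega
  have h4 : ∀ S : Sylow p G, ∀ a ∈ (S : Subgroup G), ∀ b ∈ (S : Subgroup G), a * b = b * a :=
    fun S a ha b hb => congrArg Subtype.val (((linDeg_of_faithful hχ hf).subgroup S).comm
      (fun q hq h4 => by
        obtain ⟨k, hk⟩ := S.2.exists_card_eq
        rw [(Nat.prime_dvd_prime_iff_eq hq hp.out).1 (hq.dvd_of_dvd_pow (hk ▸ h4))]
        omega) ⟨a, ha⟩ ⟨b, hb⟩)
  have h5 : ∀ S : Sylow p G, (S : Subgroup G) ⊓ center G = ⊥ := fun S => by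
    have := Transfer.center_inf_commutator_inf_sylow_le S
    rwa [h3, inf_top_eq, commutator_eq_bot_iff_le_centralizer.2 fun a ha b hb => h4 S b hb a ha,
      le_bot_iff, inf_comm] at this
  have h6 : ∀ {g : G}, g ∉ center G → centralizer {g} ≠ ⊤ := fun hg e => hg
    (centralizer_eq_top_iff_subset.1 e rfl)
  have h7 : ∀ S T : Sylow p G, (S : Subgroup G) ⊓ T ≠ ⊥ → S = T := fun S T h7 => by
    obtain ⟨x, ⟨hx, hx'⟩, h7⟩ := (bot_or_exists_ne_one _).resolve_left h7
    have := isPGroup_sup_of_normal_sylow (h2 _ (h6 fun e => h7 (mem_bot.1 ((h5 S).le ⟨hx, e⟩))))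
      S.2 T.2 (fun a ha => mem_centralizer_singleton_iff.2 (h4 S a ha x hx))
      fun a ha => mem_centralizer_singleton_iff.2 (h4 T a ha x hx')
    exact Sylow.ext ((S.is_maximal' this le_sup_left).symm.trans (T.is_maximal' this le_sup_right))
  have : Nontrivial G := not_subsingleton_iff_nontrivial.1 fun _ => hn (by
    rw [Subsingleton.elim (P : Subgroup G) ⊥]; infer_instance)
  obtain ⟨g, hg⟩ := exists_ne (1 : G)
  obtain ⟨ψ, h8, h9, h10⟩ := linDeg_of_faithful hχ hf g hg
  have h11 := card_lt_sq (h4 P) (h5 P) (fun g hg a b ha hb => by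
    obtain ⟨S, hS⟩ := (isPGroup_sup_of_normal_sylow (h2 _ (h6 hg)) (a • P).2.to_inf_right
      (b • P).2.to_inf_right inf_le_left inf_le_left).exists_le_sylow
    exact congrArg (fun S : Sylow p G => (S : Subgroup G)) ((h7 (a • P) S fun e => ha (eq_bot_iff.2
      ((le_inf inf_le_right (le_sup_left.trans hS)).trans e.le))).trans (h7 (b • P) S fun e => hb
        (eq_bot_iff.2 ((le_inf inf_le_right (le_sup_right.trans hS)).trans e.le))).symm)) h8
    (fun e => ?_) fun M _ hM => ?_
  · have h12 : p ^ 2 ∣ Nat.card P := P.pow_dvd_card_of_pow_dvd_card (not_not.1 h1)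
    have h13 := Nat.le_of_dvd Nat.card_pos h12
    have h14 : (1 + charDegree ψ) ^ 2 ≤ p ^ 2 := Nat.pow_le_pow_left (by omega) 2
    omega
  · obtain ⟨lam, rfl⟩ := h8.isCharacter.exists_hom_of_apply_one e
    exact h10 (congrArg Units.val ((Abelianization.commutator_subset_ker lam
      (h3.ge (mem_top g))).trans lam.map_one.symm))
  · by_contra h12
    have := h2 M h12 (P.subtype hM)
    have := Sylow.characteristic_of_normal (P.subtype hM) this
    have := ConjAct.normal_of_characteristic_of_normal (H := M) (K := P.subtype hM)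
    rw [Sylow.coe_subtype, subgroupOf_map_subtype, inf_eq_left.2 hM] at this
    exact hn this

/-- **Feit-Thompson**: normal Sylow subgroups in linear groups of small degree. -/
theorem normal_sylow_of_sq_le {G V : Type*} [Group G] [Finite G] [AddCommGroup V] [Module ℂ V]
    [FiniteDimensional ℂ V] (ρ : Representation ℂ G V) (hρ : Function.Injective ρ)
    (h : 2 * finrank ℂ V + 1 < p) (hsq : ¬ p ^ 2 ∣ Nat.card G) (Q : Sylow p G) :
    (Q : Subgroup G).Normal := by
  rcases (Q : Subgroup G).bot_or_exists_ne_one with e | ⟨x, hx, h1⟩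
  · rw [e]; infer_instance
  have h2 : orderOf x = p := by
    obtain ⟨k, hk⟩ := IsPGroup.iff_orderOf.1 Q.2 ⟨x, hx⟩
    rw [orderOf_mk] at hk
    rcases k with _ | _ | k
    · exact absurd (orderOf_eq_one_iff.1 hk) h1
    · rw [hk, zero_add, pow_one]
    · exact absurd ((pow_dvd_pow p (by omega)).trans (hk ▸ orderOf_dvd_natCard x)) hsq
  have h3 : zpowers x = Q := by
    obtain ⟨k, hk⟩ := Q.2.exists_card_eq
    refine eq_of_le_of_card_ge (zpowers_le.2 hx) ?_
    rw [Nat.card_zpowers, h2, hk]
    rcases k with _ | _ | k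
    · exact hp.out.pos
    · rw [zero_add, pow_one]
    · exact absurd ((pow_dvd_pow p (by omega)).trans (hk ▸ card_subgroup_dvd_card _)) hsq
  by_contra hn
  have := le_two_mul_finrank ρ hρ h2 hsq (h3 ▸ hn)
  omega

end Cfsg.Lib.CharDeg
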