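import Cfsg.Agent.Lib.CharDeg.FlagComb
import Cfsg.Prelude.Def_LinearParabolics

/-! Bruhat decomposition of `GL_n` and double cosets of parabolic and Young subgroups. -/

namespace Cfsg.Lib.GLFlag

open Finset Matrix

/-- The inner product of two permutation characters counts double cosets. -/
theorem sum_fix_mul_fix {G T : Type*} [Group G] [Fintype G] (H K : Subgroup G) (Φ : G → T)
    (hΦ : ∀ g g', Φ g = Φ g' ↔ ∃ h ∈ H, ∃ k ∈ K, g' = h * g * k) :
    ∑ g, fixedPointCharacter H g * fixedPointCharacter K g =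
      (Nat.card G : ℂ) * Nat.card (Set.range Φ) := by
  classical
  let Ψ : (G ⧸ H) × (G ⧸ K) → T := fun p => Φ (p.1.out⁻¹ * p.2.out)
  have h1 : ∀ x y : G, Ψ (x, y) = Φ (x⁻¹ * y) := fun x y => by
    obtain ⟨h, hh⟩ := QuotientGroup.mk_out_eq_mul H x
    obtain ⟨k, hk⟩ := QuotientGroup.mk_out_eq_mul K y
    refine ((hΦ _ _).2 ⟨h⁻¹, H.inv_mem h.2, k, k.2, ?_⟩).symm
    simp only [hh, hk]
    group
  have h2 : MulAction.orbitRel G ((G ⧸ H) × (G ⧸ K)) = Setoid.ker Ψ := by
    ext ⟨x, y⟩ ⟨x', y'⟩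
    obtain ⟨x, rfl⟩ := QuotientGroup.mk_surjective x
    obtain ⟨y, rfl⟩ := QuotientGroup.mk_surjective y
    obtain ⟨x', rfl⟩ := QuotientGroup.mk_surjective x'
    obtain ⟨y', rfl⟩ := QuotientGroup.mk_surjective y'
    rw [MulAction.orbitRel_apply, Setoid.ker_def, h1, h1, hΦ]
    constructor
    · rintro ⟨g, hg⟩
      have e1 : ((g * x' : G) : G ⧸ H) = x := congrArg Prod.fst hg
      have e2 : ((g * y' : G) : G ⧸ K) = y := congrArg Prod.snd hg
      refine ⟨_, QuotientGroup.eq.1 e1, _, QuotientGroup.eq.1 e2.symm, by group⟩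
    · rintro ⟨h, hh, k, hk, e⟩
      refine ⟨x * h⁻¹ * x'⁻¹, Prod.ext ?_ ?_⟩
      · change ((x * h⁻¹ * x'⁻¹ * x' : G) : G ⧸ H) = x
        exact QuotientGroup.eq.2 (by simpa using hh)
      · change ((x * h⁻¹ * x'⁻¹ * y' : G) : G ⧸ K) = y
        refine QuotientGroup.eq.2 ?_
        rw [mul_assoc _ x'⁻¹, e]
        simpa [mul_assoc] using hk
  have h3 : Set.range Ψ = Set.range Φ := by
    ext t
    exact ⟨fun ⟨p, hp⟩ => ⟨_, hp⟩, fun ⟨g, hg⟩ => ⟨((1 : G), g), by rw [h1, ← hg]; simp⟩⟩
  have h4 := MulAction.sum_card_fixedBy_eq_card_orbits_mul_card_group G ((G ⧸ H) × (G ⧸ K))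
  rw [← Nat.card_eq_fintype_card, ← Nat.card_eq_fintype_card] at h4
  have h5 : Nat.card (Quotient (MulAction.orbitRel G ((G ⧸ H) × (G ⧸ K)))) =
      Nat.card (Set.range Φ) := by
    rw [h2, Nat.card_congr (Setoid.quotientKerEquivRange Ψ), h3]
  rw [← h5, mul_comm, ← Nat.cast_mul, ← h4, Nat.cast_sum]
  refine sum_congr rfl fun g _ => ?_
  change (Nat.card (MulAction.fixedBy (G ⧸ H) g) : ℂ) * Nat.card (MulAction.fixedBy (G ⧸ K) g) = _
  rw [← Nat.cast_mul, ← Nat.card_prod, ← Nat.card_eq_fintype_card]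
  congr 1
  exact Nat.card_congr ⟨fun p => ⟨(p.1.1, p.2.1), Prod.ext p.1.2 p.2.2⟩,
    fun p => (⟨p.1.1, congrArg Prod.fst p.2⟩, ⟨p.1.2, congrArg Prod.snd p.2⟩),
    fun _ => rfl, fun _ => rfl⟩

variable {n : ℕ} {F : Type*} [Field F]

variable (F) in
/-- Permutation matrices. -/
def pm : Equiv.Perm (Fin n) →* GL (Fin n) F := (permMatrixHom (R := F)).toHomUnits

theorem pm_apply (σ : Equiv.Perm (Fin n)) (i j : Fin n) :
    (pm F σ : Matrix (Fin n) (Fin n) F) i j = if σ j = i then 1 else 0 := by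
  change (σ⁻¹).permMatrix F i j = _
  simp only [PEquiv.toMatrix_apply, Equiv.toPEquiv_apply, Option.mem_def, Option.some.injEq]
  congr 1
  exact propext ⟨fun h => by rw [← h]; simp, fun h => by rw [← h]; simp⟩

theorem mul_pm_apply (A : Matrix (Fin n) (Fin n) F) (σ : Equiv.Perm (Fin n)) (i j : Fin n) :
    (A * (pm F σ : Matrix (Fin n) (Fin n) F)) i j = A i (σ j) := by
  simp [mul_apply, pm_apply]

theorem exists_bruhat_aux (m : ℕ) : ∀ (g : GL (Fin n) F) (f : Fin n → ℕ), ∑ j, f j = m →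
    (∀ i j : Fin n, f j ≤ i → g i j = 0) → ∃ b ∈ upperTriangularGL n F, ∃ σ,
      ∃ b' ∈ upperTriangularGL n F, g = b * pm F σ * b' := by
  induction m using Nat.strong_induction_on with
  | _ m ih =>
  intro g f hm hf
  by_cases h : ∃ j, ∃ k ∈ upperTriangularGL n F, 0 < f j ∧
      ∀ i l : Fin n, Function.update f j (f j - 1) l ≤ i → (g * k) i l = 0
  · obtain ⟨j, k, hk, h0, h1⟩ := h
    obtain ⟨b, hb, σ, b', hb', e⟩ := ih _ (by
      rw [← hm, sum_update_of_mem (mem_univ j), ← sum_sdiff (subset_univ {j}), sum_singleton]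
      omega) (g * k) _ rfl h1
    exact ⟨b, hb, σ, b' * k⁻¹, mul_mem hb' (inv_mem hk), by rw [← mul_assoc, ← e]; simp⟩
  have h0 : ∀ j, 0 < f j := fun j => Nat.pos_of_ne_zero fun e =>
    (Matrix.isUnits_det_units g).ne_zero
      (det_eq_zero_of_column_eq_zero j fun i => hf i j (by omega))
  have h1 : ∀ j, ∃ i : Fin n, (i : ℕ) + 1 = f j ∧ g i j ≠ 0 := fun j => by
    by_contra hn
    push Not at hn
    refine h ⟨j, 1, one_mem _, h0 j, fun i l hl => ?_⟩
    rw [mul_one]
    by_cases e : l = j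
    · subst e
      rw [Function.update_self] at hl
      by_cases e' : f l ≤ i
      · exact hf i l e'
      · exact hn i (by omega)
    · exact hf i l (by rwa [Function.update_of_ne e] at hl)
  choose s hs hs' using h1
  have h2 : ∀ l j, l < j → s l ≠ s j := fun l j hlj e => by
    refine h ⟨j, GeneralLinearGroup.mkOfDetNeZero (transvection l j (-(g (s j) j / g (s l) l)))
      (by rw [det_transvection_of_ne _ _ hlj.ne]; exact one_ne_zero), ?_, h0 j, fun i t ht => ?_⟩
    · exact blockTriangular_transvection hlj.le _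
    · change ((g : Matrix (Fin n) (Fin n) F) *
        transvection l j (-(g (s j) j / g (s l) l)) : Matrix (Fin n) (Fin n) F) i t = 0
      by_cases e1 : t = j
      · subst e1
        rw [Function.update_self] at ht
        rw [mul_transvection_apply_same]
        have e2 : f l = f t := by rw [← hs, ← hs, e]
        by_cases e' : f t ≤ i
        · rw [hf i t e', hf i l (e2 ▸ e'), mul_zero, add_zero]
        · have e3 : i = s l := Fin.ext (by have := hs l; omega)
          rw [e3, neg_mul, div_mul_cancel₀ _ (hs' l), e, add_neg_cancel]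
      · rw [mul_transvection_apply_of_ne _ _ _ _ e1]
        exact hf i t (by rwa [Function.update_of_ne e1] at ht)
  have h3 : Function.Injective s := fun l j e => by
    rcases lt_trichotomy l j with h | h | h
    · exact (h2 l j h e).elim
    · exact h
    · exact (h2 j l h e.symm).elim
  let σ : Equiv.Perm (Fin n) := Equiv.ofBijective s h3.bijective_of_finite
  refine ⟨g * pm F σ⁻¹, fun i j hij => ?_, σ, 1, one_mem _, by simp⟩
  change ((g : Matrix (Fin n) (Fin n) F) * (pm F σ⁻¹ : Matrix (Fin n) (Fin n) F)) i j = 0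
  rw [mul_pm_apply]
  refine hf _ _ ?_
  rw [← hs]
  have : s (σ⁻¹ j) = j := σ.apply_symm_apply j
  rw [this]
  exact hij

/-- The Bruhat decomposition of `GL_n`. -/
theorem exists_bruhat (g : GL (Fin n) F) : ∃ b ∈ upperTriangularGL n F, ∃ σ,
    ∃ b' ∈ upperTriangularGL n F, g = b * pm F σ * b' :=
  exists_bruhat_aux _ g (fun _ => n) rfl fun i _ h => (i.2.not_ge h).elim

/-- Ranks of the lower left corners. -/
noncomputable def rk (a b : Fin n → ℕ) (g : Matrix (Fin n) (Fin n) F) (p : ℕ × ℕ) : ℕ :=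
  (diagonal (fun i => if p.1 ≤ a i then (1 : F) else 0) * g *
    diagonal (fun j => if b j < p.2 then (1 : F) else 0)).rank

theorem rk_mul_le {a b : Fin n → ℕ} {h k : Matrix (Fin n) (Fin n) F} (hh : h.BlockTriangular a)
    (hk : k.BlockTriangular b) (g : Matrix (Fin n) (Fin n) F) (p : ℕ × ℕ) :
    rk a b (h * g * k) p ≤ rk a b g p := by
  set E := diagonal (fun i => if p.1 ≤ a i then (1 : F) else 0)
  set D := diagonal (fun j => if b j < p.2 then (1 : F) else 0)
  have e1 : E * h = E * h * E := by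
    ext i j
    simp only [E, diagonal_mul, mul_diagonal]
    split_ifs with h1 h2
    · simp
    · rw [hh (by omega), mul_zero, zero_mul]
    · simp
    · simp
  have e2 : k * D = D * (k * D) := by
    ext i j
    simp only [D, diagonal_mul, mul_diagonal]
    split_ifs with h1 h2
    · simp
    · rw [hk (by omega), zero_mul, mul_zero]
    · simp
    · simp
  have e : E * (h * g * k) * D = E * h * (E * g * D) * (k * D) := by
    calc E * (h * g * k) * D = (E * h) * g * (k * D) := by simp only [mul_assoc]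
      _ = (E * h * E) * g * (D * (k * D)) := by rw [← e1, ← e2]
      _ = _ := by simp only [mul_assoc]
  rw [rk, e]
  exact (rank_mul_le_left _ _).trans (rank_mul_le_right _ _)

/-- The counting invariant of a permutation. -/
def cnt (a b : Fin n → ℕ) (σ : Equiv.Perm (Fin n)) (p : ℕ × ℕ) : ℕ :=
  #{j | p.1 ≤ a (σ j) ∧ b j < p.2}

theorem rk_pm (a b : Fin n → ℕ) (σ : Equiv.Perm (Fin n)) :
    rk a b (pm F σ : Matrix (Fin n) (Fin n) F) = cnt a b σ := by
  classical
  ext p
  have e : diagonal (fun i => if p.1 ≤ a i then (1 : F) else 0) * (pm F σ : Matrix _ _ F) *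
      diagonal (fun j => if b j < p.2 then (1 : F) else 0) = (pm F σ : Matrix _ _ F) *
      diagonal (fun j => if p.1 ≤ a (σ j) ∧ b j < p.2 then (1 : F) else 0) := by
    ext i j
    simp only [diagonal_mul, mul_diagonal, pm_apply]
    by_cases h : σ j = i
    · subst h
      by_cases h1 : p.1 ≤ a (σ j) <;> simp [h1]
    · simp [h]
  rw [rk, e, rank_mul_eq_right_of_isUnit_det _ _ (Matrix.isUnits_det_units _), rank_diagonal, cnt,
    Fintype.card_subtype]
  congr 1
  ext j
  simp

theorem card_fiber_eq_of_cnt {a b : Fin n → ℕ} {σ σ' : Equiv.Perm (Fin n)}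
    (h : cnt a b σ = cnt a b σ') (r t : ℕ) :
    #{j | a (σ j) = r ∧ b j = t} = #{j | a (σ' j) = r ∧ b j = t} := by
  have key : ∀ σ : Equiv.Perm (Fin n), #{j | a (σ j) = r ∧ b j = t} + cnt a b σ (r + 1, t + 1) +
      cnt a b σ (r, t) = cnt a b σ (r, t + 1) + cnt a b σ (r + 1, t) := fun σ => by
    simp only [cnt, card_filter, ← sum_add_distrib]
    refine sum_congr rfl fun j _ => ?_
    split_ifs <;> omega
  have h1 := key σ
  have h2 := key σ'
  rw [h] at h1
  omega

theorem cnt_eq_iff {a b : Fin n → ℕ} {σ σ' : Equiv.Perm (Fin n)} : cnt a b σ = cnt a b σ' ↔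
    ∃ h : Equiv.Perm (Fin n), (∀ i, a (h i) = a i) ∧ ∃ k : Equiv.Perm (Fin n),
      (∀ i, b (k i) = b i) ∧ σ' = h * σ * k := by
  constructor
  · intro h
    have e : ∀ c : ℕ × ℕ, {j // (a (σ' j), b j) = c} ≃ {j // (a (σ j), b j) = c} := fun c =>
      Fintype.equivOfCardEq (by
        simp only [Fintype.card_subtype, Prod.ext_iff]
        exact (card_fiber_eq_of_cnt h c.1 c.2).symm)
    have h1 := Equiv.ofFiberEquiv_map e
    set k : Equiv.Perm (Fin n) := Equiv.ofFiberEquiv e
    refine ⟨σ' * k⁻¹ * σ⁻¹, fun i => ?_, k, fun i => congrArg Prod.snd (h1 i), by group⟩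
    have := congrArg Prod.fst (h1 (k⁻¹ (σ⁻¹ i)))
    simpa using this.symm
  · rintro ⟨h, hh, k, hk, rfl⟩
    ext p
    refine (card_equiv k fun j => ?_).symm
    simp [hh, hk]

theorem blockTriangular_pm {a : Fin n → ℕ} {σ : Equiv.Perm (Fin n)} (h : ∀ i, a (σ i) = a i) :
    (pm F σ : Matrix (Fin n) (Fin n) F).BlockTriangular a := fun i j hij => by
  rw [pm_apply, if_neg]
  rintro rfl
  exact hij.ne (h j).symm

theorem mem_parabolicGL {μ : Fin n → ℕ} {g : GL (Fin n) F} :
    g ∈ parabolicGL n F μ ↔ (g : Matrix (Fin n) (Fin n) F).BlockTriangular (compLabel μ) := Iff.rfl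

theorem monotone_compLabel (μ : Fin n → ℕ) : Monotone (compLabel μ) := fun i j h =>
  card_le_card fun l hl => mem_filter.2 ⟨mem_univ _, (mem_filter.1 hl).2.trans h⟩

theorem upper_le_parabolicGL (μ : Fin n → ℕ) : upperTriangularGL n F ≤ parabolicGL n F μ :=
  fun _ hg _ _ h => hg ((monotone_compLabel μ).reflect_lt h)

theorem rk_mul {α β : Fin n → ℕ} {h k : GL (Fin n) F} (hh : h ∈ parabolicGL n F α)
    (hk : k ∈ parabolicGL n F β) (g : GL (Fin n) F) :
    rk (compLabel α) (compLabel β) ((h * g * k : GL (Fin n) F) : Matrix (Fin n) (Fin n) F) =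
      rk (compLabel α) (compLabel β) (g : Matrix (Fin n) (Fin n) F) := by
  ext p
  refine le_antisymm (rk_mul_le hh hk _ p) ?_
  have := rk_mul_le (inv_mem hh) (inv_mem hk)
    ((h * g * k : GL (Fin n) F) : Matrix (Fin n) (Fin n) F) p
  rwa [← Units.val_mul, ← Units.val_mul, show h⁻¹ * (h * g * k) * k⁻¹ = g by group] at this

theorem exists_rk_eq (α β : Fin n → ℕ) (g : GL (Fin n) F) : ∃ σ, ∃ h ∈ parabolicGL n F α,
    ∃ k ∈ parabolicGL n F β, g = h * pm F σ * k ∧ rk (compLabel α) (compLabel β)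
      (g : Matrix (Fin n) (Fin n) F) = cnt (compLabel α) (compLabel β) σ := by
  obtain ⟨b, hb, σ, b', hb', rfl⟩ := exists_bruhat g
  exact ⟨σ, b, upper_le_parabolicGL α hb, b', upper_le_parabolicGL β hb', rfl, by
    rw [rk_mul (upper_le_parabolicGL α hb) (upper_le_parabolicGL β hb'), rk_pm]⟩

theorem sum_fix_young (α β : Fin n → ℕ) :
    ∑ σ, fixedPointCharacter (youngSubgroup α) σ * fixedPointCharacter (youngSubgroup β) σ =
      (Nat.card (Equiv.Perm (Fin n)) : ℂ) *
        Nat.card (Set.range (cnt (compLabel α) (compLabel β))) :=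
  sum_fix_mul_fix _ _ _ fun _ _ => cnt_eq_iff

theorem sum_fix_parabolic [Fintype (GL (Fin n) F)] (α β : Fin n → ℕ) :
    ∑ g, fixedPointCharacter (parabolicGL n F α) g * fixedPointCharacter (parabolicGL n F β) g =
      (Nat.card (GL (Fin n) F) : ℂ) * Nat.card (Set.range (cnt (compLabel α) (compLabel β))) := by
  rw [sum_fix_mul_fix _ _ (fun g : GL (Fin n) F =>
    rk (compLabel α) (compLabel β) (g : Matrix (Fin n) (Fin n) F))]
  · suffices e : Set.range (fun g : GL (Fin n) F => rk (compLabel α) (compLabel β)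
      (g : Matrix (Fin n) (Fin n) F)) = Set.range (cnt (compLabel α) (compLabel β)) by rw [e]
    ext t
    constructor
    · rintro ⟨g, rfl⟩
      obtain ⟨σ, -, -, -, -, -, e⟩ := exists_rk_eq α β g
      exact ⟨σ, e.symm⟩
    · rintro ⟨σ, rfl⟩
      exact ⟨pm F σ, rk_pm _ _ σ⟩
  · intro g g'
    refine ⟨fun e => ?_, by rintro ⟨h, hh, k, hk, rfl⟩; exact (rk_mul hh hk g).symm⟩
    obtain ⟨σ, h, hh, k, hk, rfl, e1⟩ := exists_rk_eq α β g
    obtain ⟨σ', h', hh', k', hk', rfl, e2⟩ := exists_rk_eq α β g'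
    obtain ⟨u, hu, v, hv, rfl⟩ := cnt_eq_iff.1 (e1.symm.trans (e.trans e2))
    refine ⟨h' * pm F u * h⁻¹, mul_mem (mul_mem hh' (blockTriangular_pm hu)) (inv_mem hh),
      k⁻¹ * pm F v * k', mul_mem (mul_mem (inv_mem hk) (blockTriangular_pm hv)) hk', ?_⟩
    simp only [map_mul]
    group

section Label

variable {μ : Fin n → ℕ}

/-- The positions of a composition, block by block. -/
def blk (h : ∑ i, μ i = n) : (Σ i, Fin (μ i)) ≃ Fin n := finSigmaFinEquiv.trans (finCongr h)

theorem blk_val (h : ∑ i, μ i = n) (k : Σ i, Fin (μ i)) :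
    (blk h k : ℕ) = ∑ i ∈ univ.filter (· < k.1), μ i + k.2 := by
  rw [blk, Equiv.trans_apply, finCongr_apply, Fin.val_cast, finSigmaFinEquiv_apply]
  congr 1
  refine sum_bij (fun i _ => Fin.castLE k.1.2.le i) (fun i _ => ?_) (fun i _ j _ e => ?_)
    (fun i hi => ?_) fun _ _ => rfl
  · exact mem_filter.2 ⟨mem_univ _, i.2⟩
  · exact Fin.castLE_injective _ e
  · exact ⟨⟨i, (mem_filter.1 hi).2⟩, mem_univ _, rfl⟩

theorem sum_le_eq (μ : Fin n → ℕ) (i : Fin n) :
    ∑ k ∈ univ.filter (· ≤ i), μ k = ∑ k ∈ univ.filter (· < i), μ k + μ i := by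
  have : univ.filter (· ≤ i) = insert i (univ.filter (· < i)) := by
    ext k; simp [le_iff_eq_or_lt]
  rw [this, sum_insert (by simp), add_comm]

theorem compLabel_blk (h : ∑ i, μ i = n) (k : Σ i, Fin (μ i)) : compLabel μ (blk h k) = k.1 := by
  change #{j : Fin n | ∑ l ∈ univ.filter (· ≤ j), μ l ≤ (blk h k : ℕ)} = _
  rw [blk_val, ← Fin.card_Iio k.1]
  congr 1
  ext l
  simp only [mem_filter, mem_univ, true_and, mem_Iio]
  constructor
  · intro e
    by_contra hn
    have h1 := sum_le_sum_of_subset (f := μ) (s := univ.filter (· ≤ k.1))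
      (t := univ.filter (· ≤ l)) fun x hx => by
        simp only [mem_filter, mem_univ, true_and] at hx ⊢
        exact hx.trans (not_lt.1 hn)
    rw [sum_le_eq] at h1
    have := k.2.2
    omega
  · intro e
    refine (sum_le_sum_of_subset fun x hx => ?_).trans (Nat.le_add_right _ _)
    simp only [mem_filter, mem_univ, true_and] at hx ⊢
    exact hx.trans_lt e

/-- The block label as an element of `Fin n`. -/
def lab (h : ∑ i, μ i = n) (j : Fin n) : Fin n := ((blk h).symm j).1

theorem compLabel_eq (h : ∑ i, μ i = n) (j : Fin n) : compLabel μ j = lab h j := by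
  rw [lab, ← compLabel_blk h, Equiv.apply_symm_apply]

theorem lab_blk (h : ∑ i, μ i = n) (k : Σ i, Fin (μ i)) : lab h (blk h k) = k.1 := by
  rw [lab, Equiv.symm_apply_apply]

theorem card_sigma_fiber {ι : Type*} [Fintype ι] [DecidableEq ι] (m : ι → ℕ) (P : ι → Prop)
    [DecidablePred P] : #{k : Σ i, Fin (m i) | P k.1} = ∑ i with P i, m i := by
  rw [card_filter, sum_filter, Fintype.sum_sigma]
  refine sum_congr rfl fun i _ => ?_
  split_ifs <;> simp

theorem card_lab (h : ∑ i, μ i = n) (r : Fin n) : #{j | lab h j = r} = μ r := by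
  rw [← card_equiv (s := {k : Σ i, Fin (μ i) | k.1 = r}) (blk h) fun k => by simp [lab_blk],
    card_sigma_fiber μ (· = r)]
  simp [filter_eq']

end Label

theorem card_range_cnt {α β : Fin n → ℕ} (hα : ∑ i, α i = n) (hβ : ∑ i, β i = n) :
    Nat.card (Set.range (cnt (compLabel α) (compLabel β))) = nMat α β := by
  let M : Equiv.Perm (Fin n) → Fin n → Fin n → ℕ := fun σ r t =>
    #{j | lab hα (σ j) = r ∧ lab hβ j = t}
  have h1 : Setoid.ker (cnt (compLabel α) (compLabel β)) = Setoid.ker M := by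
    ext σ σ'
    rw [Setoid.ker_def, Setoid.ker_def]
    constructor
    · intro h
      ext r t
      have := card_fiber_eq_of_cnt h r t
      simpa only [compLabel_eq hα, compLabel_eq hβ, Fin.val_inj] using this
    · intro h
      ext p
      have key : ∀ σ : Equiv.Perm (Fin n), cnt (compLabel α) (compLabel β) σ p =
          ∑ c : Fin n × Fin n with p.1 ≤ c.1 ∧ c.2 < p.2, M σ c.1 c.2 := fun σ => by
        rw [cnt, card_eq_sum_card_fiberwise (f := fun j => (lab hα (σ j), lab hβ j))
          (t := {c : Fin n × Fin n | p.1 ≤ c.1 ∧ c.2 < p.2})]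
        · refine sum_congr rfl fun c hc => ?_
          rw [filter_filter]
          congr 1
          ext j
          simp only [mem_filter, mem_univ, true_and, compLabel_eq hα, compLabel_eq hβ] at hc ⊢
          exact ⟨fun e => Prod.ext_iff.1 e.2, fun e => ⟨by rw [e.1, e.2]; exact hc, Prod.ext e.1 e.2⟩⟩
        · intro j hj
          simpa [compLabel_eq hα, compLabel_eq hβ] using hj
      rw [key, key, h]
  rw [← Nat.card_congr (Setoid.quotientKerEquivRange _), h1,
    Nat.card_congr (Setoid.quotientKerEquivRange _), nMat]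
  refine Nat.card_congr (Equiv.subtypeEquivRight fun N => ⟨?_, fun ⟨h2, h3⟩ => ?_⟩)
  · rintro ⟨σ, rfl⟩
    refine ⟨fun r => ?_, fun t => ?_⟩
    · rw [← card_lab hα r, ← card_equiv (s := {j | lab hα (σ j) = r}) σ fun j => by simp,
        card_eq_sum_card_fiberwise (f := lab hβ) (t := univ) fun _ _ => mem_univ _]
      exact sum_congr rfl fun t _ => by rw [filter_filter]
    · rw [← card_lab hβ t,
        card_eq_sum_card_fiberwise (f := fun j => lab hα (σ j)) (t := univ) fun _ _ => mem_univ _]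
      exact sum_congr rfl fun r _ => by simp only [M, filter_filter, and_comm]
  · have e1 : ∀ r, {k : Σ c : Fin n × Fin n, Fin (N c.1 c.2) // k.1.1 = r} ≃ {j // lab hα j = r} :=
      fun r => Fintype.equivOfCardEq (by
        rw [Fintype.card_subtype, Fintype.card_subtype, card_lab,
          card_sigma_fiber (fun c : Fin n × Fin n => N c.1 c.2) (·.1 = r), sum_filter,
          Fintype.sum_prod_type, ← h2]
        simp)
    have e2 : ∀ t, {k : Σ c : Fin n × Fin n, Fin (N c.1 c.2) // k.1.2 = t} ≃ {j // lab hβ j = t} :=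
      fun t => Fintype.equivOfCardEq (by
        rw [Fintype.card_subtype, Fintype.card_subtype, card_lab,
          card_sigma_fiber (fun c : Fin n × Fin n => N c.1 c.2) (·.2 = t), sum_filter,
          Fintype.sum_prod_type, ← h3]
        simp)
    have f1 := Equiv.ofFiberEquiv_map e1
    have f2 := Equiv.ofFiberEquiv_map e2
    generalize Equiv.ofFiberEquiv e1 = u at f1
    generalize Equiv.ofFiberEquiv e2 = v at f2
    refine ⟨v.symm.trans u, funext₂ fun r t => ?_⟩
    simp only [M]
    rw [← card_equiv (s := {k : Σ c : Fin n × Fin n, Fin (N c.1 c.2) | k.1 = (r, t)})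
      v fun k => by simp [f1, f2, Prod.ext_iff],
      card_sigma_fiber (fun c : Fin n × Fin n => N c.1 c.2) (· = (r, t))]
    simp [filter_eq']

end Cfsg.Lib.GLFlag
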