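import Cfsg.Agent.Lib.CharDeg.FlagBruhat
import Cfsg.Agent.Lib.Induce.Character
import Cfsg.Agent.Lib.Char.Column

/-! The characters of `GL_n` attached to partitions: orthogonality and degrees. -/

namespace Cfsg.Lib.GLFlag

open Finset Matrix Cfsg.Lib.Char Cfsg.Lib.Induce

theorem card_linearIndependent_mem {K V : Type*} [Field K] [Fintype K] [AddCommGroup V]
    [Module K V] [Finite V] {k : ℕ} (W : Fin k → Submodule K V) (hW : Monotone W) :
    Nat.card {s : Fin k → V // LinearIndependent K s ∧ ∀ j, s j ∈ W j} =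
      ∏ j : Fin k, (Nat.card (W j) - Fintype.card K ^ (j : ℕ)) := by
  induction k with
  | zero =>
    rw [Nat.card_congr (Equiv.subtypeUnivEquiv fun s =>
      ⟨linearIndependent_empty_type, fun j => j.elim0⟩)]
    simp
  | succ k ih =>
    haveI := Fintype.ofFinite V
    let e : {s : Fin (k + 1) → V // LinearIndependent K s ∧ ∀ j, s j ∈ W j} ≃
        Σ s : {s : Fin k → V // LinearIndependent K s ∧ ∀ j, s j ∈ W j.castSucc},
          {x // x ∈ (W (Fin.last k) : Set V) \ (Submodule.span K (Set.range s.1) : Set V)} :=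
      { toFun := fun s => ⟨⟨Fin.init s.1, (linearIndependent_finSucc'.1 s.2.1).1, fun j => s.2.2 _⟩,
          ⟨s.1 (Fin.last k), s.2.2 _, (linearIndependent_finSucc'.1 s.2.1).2⟩⟩
        invFun := fun s => ⟨Fin.snoc s.1.1 s.2.1, linearIndependent_finSnoc.2 ⟨s.1.2.1, s.2.2.2⟩,
          fun j => Fin.lastCases (by rw [Fin.snoc_last]; exact s.2.2.1)
            (fun j => by rw [Fin.snoc_castSucc]; exact s.1.2.2 j) j⟩
        left_inv := fun s => Subtype.ext (Fin.snoc_init_self _)
        right_inv := fun ⟨⟨s, hs⟩, x, hx⟩ => by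
          refine Sigma.ext (Subtype.ext (by simp)) ?_
          refine (Subtype.heq_iff_coe_eq fun y => ?_).2 (by simp)
          simp only [Fin.init_snoc] }
    have key : ∀ s : {s : Fin k → V // LinearIndependent K s ∧ ∀ j, s j ∈ W j.castSucc},
        Nat.card {x // x ∈ (W (Fin.last k) : Set V) \ (Submodule.span K (Set.range s.1) : Set V)} =
          Nat.card (W (Fin.last k)) - Fintype.card K ^ k := by
      intro s
      have h1 : Submodule.span K (Set.range s.1) ≤ W (Fin.last k) := Submodule.span_le.2 (by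
        rintro _ ⟨j, rfl⟩
        exact hW (Fin.le_last _) (s.2.2 j))
      have h2 : Nat.card (Submodule.span K (Set.range s.1)) = Fintype.card K ^ k := by
        rw [Module.natCard_eq_pow_finrank (K := K), finrank_span_eq_card s.2.1, Fintype.card_fin,
          Nat.card_eq_fintype_card]
      rw [← h2]
      exact Set.ncard_diff h1
    haveI := Fintype.ofFinite
      {s : Fin k → V // LinearIndependent K s ∧ ∀ j, s j ∈ W j.castSucc}
    rw [Nat.card_congr e, Nat.card_sigma, sum_congr rfl fun s _ => key s, sum_const, card_univ,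
      ← Nat.card_eq_fintype_card, ih (fun j => W j.castSucc) fun _ _ h => hW (by simpa using h),
      Fin.prod_univ_castSucc]
    rfl

/-- The `q`-integers. -/
def qi (q r : ℕ) : ℕ := ∑ l ∈ range r, q ^ l

/-- The `q`-factorials. -/
def qf (q r : ℕ) : ℕ := ∏ j ∈ range r, qi q (j + 1)

theorem qi_add (q a b : ℕ) : qi q (a + b) = qi q a + q ^ a * qi q b := by
  simp only [qi, sum_range_add, mul_sum, pow_add]

theorem qi_pos (q r : ℕ) : 0 < qi q (r + 1) := by
  rw [qi, sum_range_succ']; simp

theorem qf_pos (q r : ℕ) : 0 < qf q r := prod_pos fun j _ => qi_pos q j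

theorem qi_lt {q : ℕ} (hq : 0 < q) {a b : ℕ} (h : a < b) : qi q a < qi q b := by
  obtain ⟨c, rfl⟩ := Nat.exists_eq_add_of_lt h
  rw [add_assoc, qi_add]
  exact Nat.lt_add_of_pos_right (Nat.mul_pos (pow_pos hq a) (qi_pos q c))

theorem pow_add_sub_pow {q : ℕ} (hq : 1 ≤ q) (a b : ℕ) :
    q ^ (a + b) - q ^ a = q ^ a * (q - 1) * qi q b := by
  rw [mul_assoc, mul_comm (q - 1), qi, geom_sum_mul_of_one_le hq, Nat.mul_sub, pow_add, mul_one]

theorem prod_pow_sub_pow {q : ℕ} (hq : 1 ≤ q) (a m : ℕ) :
    ∏ t : Fin m, (q ^ (a + m) - q ^ (a + t)) = (∏ t : Fin m, q ^ (a + t) * (q - 1)) * qf q m := by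
  rw [qf, ← prod_range_reflect, ← Fin.prod_univ_eq_prod_range (fun j => qi q (m - 1 - j + 1)),
    ← prod_mul_distrib]
  refine prod_congr rfl fun t _ => ?_
  rw [← pow_add_sub_pow hq]
  congr 2
  have := t.2
  omega

theorem qf_mul_prod (q : ℕ) {a k : ℕ} (h : k ≤ a) :
    (qf q a : ℂ) * ∏ j ∈ range k, (q : ℂ) ^ j =
      qf q (a - k) * ∏ j ∈ range k, ((qi q a : ℂ) - qi q j) := by
  induction k with
  | zero => simp
  | succ k ih =>
    obtain ⟨c, rfl⟩ := Nat.exists_eq_add_of_lt h
    have e1 : (qi q (k + c + 1) : ℂ) - qi q k = q ^ k * qi q (c + 1) := by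
      rw [add_assoc, qi_add]; push_cast; ring
    have e2 : (qf q (c + 1) : ℂ) = qf q c * qi q (c + 1) := by
      rw [qf, prod_range_succ, ← qf]; push_cast; ring
    rw [prod_range_succ, prod_range_succ, ← mul_assoc, ih (by omega),
      show k + c + 1 - k = c + 1 by omega, show k + c + 1 - (k + 1) = c by omega, e1, e2]
    ring

theorem sum_sum_range (n : ℕ) : ∑ k ∈ range n, ∑ j ∈ range k, j = n * (n - 1) * (n - 2) / 6 := by
  have h1 : ∀ n, ∑ k ∈ range n, ∑ j ∈ range k, j = n.choose 3 := fun n => by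
    induction n with
    | zero => rfl
    | succ n ih => rw [sum_range_succ, ih, sum_range_id, Nat.choose_succ_succ' n 2,
        Nat.choose_two_right, add_comm]
  rw [h1, Nat.choose_eq_descFactorial_div_factorial]
  simp [Nat.descFactorial, Nat.factorial, mul_comm, mul_left_comm]

variable {n : ℕ} {F : Type*} [Field F]

theorem isCharacter_fix {G : Type*} [Group G] [Finite G] (H : Subgroup G) :
    IsCharacter G (fixedPointCharacter H) := by
  haveI := Fintype.ofFinite G
  have : fixedPointCharacter H = indFun H fun _ => 1 :=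
    funext fun g => (indFun_one_eq_card_fixedBy H g).symm
  rw [this]
  exact isCharacter_indFun H isCharacter_one

theorem fix_def {G : Type*} [Group G] (H : Subgroup G) (g : G) :
    fixedPointCharacter H g = Nat.card (MulAction.fixedBy (G ⧸ H) g) := rfl

theorem fix_apply_one {G : Type*} [Group G] (H : Subgroup G) :
    fixedPointCharacter H 1 = Nat.card (G ⧸ H) := by
  rw [fix_def]; simp

theorem fix_apply_of_central {G : Type*} [Group G] {H : Subgroup G} {z : G} (hz : z ∈ H)
    (hc : z ∈ Subgroup.center G) : fixedPointCharacter H z = fixedPointCharacter H 1 := by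
  have : MulAction.fixedBy (G ⧸ H) z = Set.univ := Set.eq_univ_of_forall fun x => by
    obtain ⟨x, rfl⟩ := QuotientGroup.mk_surjective x
    exact QuotientGroup.eq.2 (by
      change (z * x)⁻¹ * x ∈ H
      rw [← Subgroup.mem_center_iff.1 hc x]
      simpa using hz)
  rw [fix_def, fix_def, this]; simp

theorem unipotent_def (ν : Fin n → ℕ) (g : GL (Fin n) F) : unipotentCharacterGL n F ν g =
    ∑ κ : Equiv.Perm (Fin n), if ∀ i : Fin n, (κ i : ℕ) ≤ ν i + i then
      ((Equiv.Perm.sign κ : ℤ) : ℂ) *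
        fixedPointCharacter (parabolicGL n F fun i => ν i + i - κ i) g else 0 := rfl

theorem unipotent_eq (ν : Fin n → ℕ) : unipotentCharacterGL n F ν = ∑ κ : Equiv.Perm (Fin n),
    if ∀ i : Fin n, (κ i : ℕ) ≤ ν i + i then ((Equiv.Perm.sign κ : ℤ) : ℂ) •
      fixedPointCharacter (parabolicGL n F fun i => ν i + i - κ i) else 0 := by
  ext g
  simp only [Finset.sum_apply, ite_apply, Pi.smul_apply, smul_eq_mul, Pi.zero_apply]
  rfl

theorem sum_sub_eq {ν : Fin n → ℕ} (h : ∑ i, ν i = n) {κ : Equiv.Perm (Fin n)}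
    (hκ : ∀ i : Fin n, (κ i : ℕ) ≤ ν i + i) : ∑ i : Fin n, (ν i + i - κ i) = n := by
  rw [sum_tsub_distrib _ fun i _ => hκ i, sum_add_distrib, h, Equiv.sum_comp κ fun i => (i : ℕ),
    Nat.add_sub_cancel]

theorem strictMono_add {ν : Fin n → ℕ} (h : Monotone ν) : StrictMono fun i : Fin n => ν i + i :=
  fun _ _ e => add_lt_add_of_le_of_lt (h e.le) e

variable [Fintype F]

theorem card_parabolicGL {μ : Fin n → ℕ} (h : ∑ i, μ i = n) :
    Nat.card (parabolicGL n F μ) =
      (∏ j : Fin n, Fintype.card F ^ (j : ℕ) * (Fintype.card F - 1)) *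
        ∏ i, qf (Fintype.card F) (μ i) := by
  let W : Fin n → Submodule F (Fin n → F) := fun j =>
    Submodule.pi {i | compLabel μ j < compLabel μ i} fun _ => ⊥
  have hW : Monotone W := fun i j e v hv l hl =>
    hv l (lt_of_le_of_lt (monotone_compLabel μ e) hl)
  have h1 : Nat.card (parabolicGL n F μ) =
      Nat.card {s : Fin n → Fin n → F // LinearIndependent F s ∧ ∀ j, s j ∈ W j} :=
    Nat.card_congr (((equiv_GL_linearindependent n).subtypeEquiv
      (q := fun s => ∀ j, s.1 j ∈ W j) fun g =>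
        ⟨fun hg j i hi => mem_parabolicGL.1 hg hi,
          fun hg => mem_parabolicGL.2 fun i j hi => hg j i hi⟩).trans
      (Equiv.subtypeSubtypeEquivSubtypeInter _ (fun s : Fin n → Fin n → F => ∀ j, s j ∈ W j)))
  have h2 : ∀ k : Σ i, Fin (μ i), Nat.card (W (blk h k)) =
      Fintype.card F ^ (∑ i ∈ univ.filter (· < k.1), μ i + μ k.1) := by
    intro k
    have e : W (blk h k) ≃ ({i // lab h i ≤ k.1} → F) :=
      { toFun := fun v i => v.1 i
        invFun := fun u => ⟨fun i => if e : lab h i ≤ k.1 then u ⟨i, e⟩ else 0, fun i hi =>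
          dif_neg (by
            simp only [Set.mem_setOf_eq, compLabel_eq h, lab_blk] at hi
            exact not_le.2 hi)⟩
        left_inv := fun v => Subtype.ext (funext fun i => by
          dsimp only
          split_ifs with e
          · rfl
          · exact (v.2 i (by
              simp only [Set.mem_setOf_eq, compLabel_eq h, lab_blk]
              exact not_le.1 e)).symm)
        right_inv := fun u => funext fun i => dif_pos i.2 }
    rw [Nat.card_congr e, Nat.card_fun, Nat.card_eq_fintype_card, Nat.card_eq_fintype_card,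
      Fintype.card_subtype, ← card_equiv (s := {l : Σ i, Fin (μ i) | l.1 ≤ k.1}) (blk h)
        fun l => by simp [lab_blk], card_sigma_fiber μ (· ≤ k.1), sum_le_eq]
  rw [h1, card_linearIndependent_mem W hW, ← (blk h).prod_comp, ← (blk h).prod_comp,
    Fintype.prod_sigma, Fintype.prod_sigma, ← prod_mul_distrib]
  refine prod_congr rfl fun r _ => ?_
  simp only [h2, blk_val]
  exact prod_pow_sub_pow Fintype.card_pos _ _

theorem card_GL_eq : Nat.card (GL (Fin n) F) =
    (∏ j : Fin n, Fintype.card F ^ (j : ℕ) * (Fintype.card F - 1)) * qf (Fintype.card F) n := by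
  have := prod_pow_sub_pow (Fintype.card_pos (α := F)) 0 n
  simp only [zero_add] at this
  rw [card_GL_field, this]

theorem card_quotient_mul {μ : Fin n → ℕ} (h : ∑ i, μ i = n) :
    Nat.card (GL (Fin n) F ⧸ parabolicGL n F μ) * ∏ i, qf (Fintype.card F) (μ i) =
      qf (Fintype.card F) n := by
  have h1 := Subgroup.card_eq_card_quotient_mul_card_subgroup (parabolicGL n F μ)
  rw [card_parabolicGL h, card_GL_eq, mul_left_comm] at h1
  refine (Nat.eq_of_mul_eq_mul_left (prod_pos fun j _ => Nat.mul_pos (pow_pos Fintype.card_pos _)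
    (Nat.sub_pos_of_lt Fintype.one_lt_card)) h1).symm

theorem unipotent_apply_one {ν : Fin n → ℕ} (h : ∑ i, ν i = n) :
    unipotentCharacterGL n F ν 1 * (Fintype.card F : ℂ) ^ (n * (n - 1) * (n - 2) / 6) *
      ∏ i : Fin n, (qf (Fintype.card F) (ν i + i) : ℂ) =
      qf (Fintype.card F) n * ∏ i : Fin n, ∏ j ∈ Ioi i,
        ((qi (Fintype.card F) (ν j + j) : ℂ) - qi (Fintype.card F) (ν i + i)) := by
  set q := Fintype.card F
  let p : Fin n → Polynomial ℂ := fun k =>
    ∏ j ∈ range k, (Polynomial.X - Polynomial.C (qi q j : ℂ))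
  rw [← det_vandermonde fun i : Fin n => (qi q (ν i + i) : ℂ),
    det_eval_matrixOfPolynomials_eq_det_vandermonde _ p
      (fun k => by
        simp only [p]
        rw [Polynomial.natDegree_prod_of_monic _ _ fun j _ => Polynomial.monic_X_sub_C _]
        simp only [Polynomial.natDegree_X_sub_C, sum_const, card_range, smul_eq_mul, mul_one])
      (fun k => Polynomial.monic_prod_of_monic _ _ fun j _ => Polynomial.monic_X_sub_C _),
    ← det_transpose, det_apply', unipotent_def, sum_mul, sum_mul, mul_sum]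
  refine sum_congr rfl fun κ _ => ?_
  simp only [transpose_apply, of_apply, p, Polynomial.eval_prod, Polynomial.eval_sub,
    Polynomial.eval_X, Polynomial.eval_C]
  split_ifs with hκ
  · have h1 := card_quotient_mul (F := F) (sum_sub_eq h hκ)
    have h2 : (q : ℂ) ^ (n * (n - 1) * (n - 2) / 6) = ∏ i, ∏ j ∈ range (κ i), (q : ℂ) ^ j := by
      rw [prod_congr rfl fun i _ => prod_pow_eq_pow_sum _ _ _, prod_pow_eq_pow_sum,
        Equiv.sum_comp κ fun k => ∑ j ∈ range (k : ℕ), j, ← sum_sum_range,
        Fin.sum_univ_eq_sum_range fun k => ∑ j ∈ range k, j]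
    rw [fix_apply_one, ← h1, h2, mul_assoc, ← prod_mul_distrib,
      prod_congr rfl fun i _ => (mul_comm _ _).trans (qf_mul_prod q (hκ i)), prod_mul_distrib]
    push_cast
    ring
  · obtain ⟨i, hi⟩ := not_forall.1 hκ
    rw [prod_eq_zero (f := fun i => ∏ j ∈ range (κ i), ((qi q (ν i + i) : ℂ) - qi q j)) (mem_univ i)
      (prod_eq_zero (mem_range.2 (not_le.1 hi)) (sub_self _))]
    simp

theorem isGen_unipotent (ν : Fin n → ℕ) :
    IsGeneralizedCharacter (GL (Fin n) F) (unipotentCharacterGL n F ν) := by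
  rw [unipotent_eq]
  refine isGeneralizedCharacter_sum _ _ fun κ _ => ?_
  split_ifs
  · exact (isCharacter_fix _).isGeneralizedCharacter.intCast_smul _
  · exact isGeneralizedCharacter_zero

theorem inner_fix_fix [Fintype (GL (Fin n) F)] {α β : Fin n → ℕ} (hα : ∑ i, α i = n)
    (hβ : ∑ i, β i = n) : classInner (fixedPointCharacter (parabolicGL n F α))
      (fixedPointCharacter (parabolicGL n F β)) = nMat α β := by
  have := sum_fix_parabolic (F := F) α β
  rw [card_range_cnt hα hβ] at this
  have e : ∀ g, starRingEnd ℂ (fixedPointCharacter (parabolicGL n F β) g) =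
      fixedPointCharacter (parabolicGL n F β) g := fun g => map_natCast _ _
  rw [classInner_def]
  simp only [e]
  rw [this, inv_mul_cancel_left₀ (Nat.cast_ne_zero.2 Nat.card_pos.ne')]

theorem inner_unipotent [Fintype (GL (Fin n) F)] {ν ν' : Fin n → ℕ} (hm : Monotone ν)
    (h : ∑ i, ν i = n) (hm' : Monotone ν') (h' : ∑ i, ν' i = n) :
    classInner (unipotentCharacterGL n F ν) (unipotentCharacterGL n F ν') =
      if ν = ν' then 1 else 0 := by
  have key := congrArg (Int.cast : ℤ → ℂ) (sum_sign_nMat (strictMono_add hm) (strictMono_add hm'))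
  have e : ((fun i : Fin n => ν i + i) = fun i : Fin n => ν' i + i) ↔ ν = ν' := by
    simp [funext_iff]
  simp only [e] at key
  push_cast at key
  rw [← key, unipotent_eq, unipotent_eq, classInner_sum_left]
  refine sum_congr rfl fun κ _ => ?_
  rw [classInner_sum_right]
  refine sum_congr rfl fun κ' _ => ?_
  by_cases h1 : ∀ i : Fin n, (κ i : ℕ) ≤ ν i + i
  · by_cases h2 : ∀ i : Fin n, (κ' i : ℕ) ≤ ν' i + i
    · rw [if_pos h1, if_pos h2, if_pos ⟨h1, h2⟩, classInner_smul_left, classInner_smul_right,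
        inner_fix_fix (sum_sub_eq h h1) (sum_sub_eq h' h2), map_intCast, mul_assoc]
    · rw [if_neg h2, classInner_zero_right, if_neg fun e => h2 e.2]
  · rw [if_neg h1, classInner_zero_left, if_neg fun e => h1 e.1]

theorem isIrr_unipotent {ν : Fin n → ℕ} (hm : Monotone ν) (h : ∑ i, ν i = n) :
    IsIrrCharacter (GL (Fin n) F) (unipotentCharacterGL n F ν) := by
  haveI := Fintype.ofFinite (GL (Fin n) F)
  refine (isGen_unipotent ν).isIrrCharacter_of_inner_self (by rw [inner_unipotent hm h hm h]; simp) ?_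
  obtain ⟨m, hm1⟩ := (isGen_unipotent (F := F) ν).exists_apply_one
  have h1 := unipotent_apply_one (F := F) h
  rw [hm1] at h1 ⊢
  have h2 : m * (Fintype.card F : ℤ) ^ (n * (n - 1) * (n - 2) / 6) *
      ∏ i : Fin n, (qf (Fintype.card F) (ν i + i) : ℤ) =
      qf (Fintype.card F) n * ∏ i : Fin n, ∏ j ∈ Ioi i,
        ((qi (Fintype.card F) (ν j + j) : ℤ) - qi (Fintype.card F) (ν i + i)) := by
    exact_mod_cast h1
  have h3 : 0 < m * (Fintype.card F : ℤ) ^ (n * (n - 1) * (n - 2) / 6) *
      ∏ i : Fin n, (qf (Fintype.card F) (ν i + i) : ℤ) := by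
    rw [h2]
    refine mul_pos (by exact_mod_cast qf_pos _ _) (prod_pos fun i _ => prod_pos fun j hj => ?_)
    exact sub_pos.2 (by exact_mod_cast qi_lt Fintype.card_pos (strictMono_add hm (mem_Ioi.1 hj)))
  have h4 := pos_of_mul_pos_left (pos_of_mul_pos_left h3 (by positivity)) (by positivity)
  simpa using h4.le

end Cfsg.Lib.GLFlag
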