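import Mathlib

/-! The Jacobi–Trudi identity and the orthogonality of Schur functions, in the form needed for the
permutation characters on flags. -/

namespace Cfsg.Lib.GLFlag

open Finset Matrix

variable {n : ℕ}

/-- The number of matrices of natural numbers with row sums `α` and column sums `β`. -/
noncomputable def nMat (α β : Fin n → ℕ) : ℕ :=
  Nat.card {M : Fin n → Fin n → ℕ // (∀ r, ∑ t, M r t = α r) ∧ ∀ t, ∑ r, M r t = β t}

section JT

variable {R : Type*} [CommRing R] (x : Fin n → R)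

/-- Complete homogeneous symmetric functions. -/
noncomputable def hh (b : ℕ) : R :=
  PowerSeries.coeff b (∏ i, PowerSeries.mk fun k => x i ^ k)

/-- Signed elementary symmetric functions in all variables but one. -/
noncomputable def ee (i : Fin n) : Polynomial R :=
  ∏ l ∈ univ.erase i, (1 - Polynomial.C (x l) * Polynomial.X)

theorem geo_mul (a : R) :
    (PowerSeries.mk fun k => a ^ k) * (1 - PowerSeries.C a * PowerSeries.X) = 1 := by
  have := congrArg (PowerSeries.rescale a) (PowerSeries.mk_one_mul_one_sub_eq_one R)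
  rw [map_mul, map_sub, map_one, PowerSeries.rescale_X, PowerSeries.rescale_mk] at this
  simpa using this

theorem ee_mul (i : Fin n) : (ee x i : PowerSeries R) * ∏ l, (PowerSeries.mk fun k => x l ^ k) =
    PowerSeries.mk fun k => x i ^ k := by
  have : (ee x i : PowerSeries R) =
      ∏ l ∈ univ.erase i, (1 - PowerSeries.C (x l) * PowerSeries.X) := by
    rw [ee, ← Polynomial.coeToPowerSeries.ringHom_apply, map_prod]
    simp
  rw [this, ← mul_prod_erase _ _ (mem_univ i), mul_left_comm, ← prod_mul_distrib,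
    prod_eq_one fun l _ => by rw [mul_comm, geo_mul], mul_one]

theorem coeff_ee (i : Fin n) {r : ℕ} (h : n ≤ r) : (ee x i).coeff r = 0 := by
  refine Polynomial.coeff_eq_zero_of_natDegree_lt (lt_of_le_of_lt
    (Polynomial.natDegree_prod_le _ _) ?_)
  have h1 : ∀ l ∈ univ.erase i,
      (1 - Polynomial.C (x l) * Polynomial.X : Polynomial R).natDegree ≤ 1 := fun l _ => by
    compute_degree
  have h2 := sum_le_card_nsmul _ _ _ h1
  rw [card_erase_of_mem (mem_univ i), card_univ, Fintype.card_fin, smul_eq_mul, mul_one] at h2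
  have := i.pos
  omega

theorem sum_ee_mul_hh (i : Fin n) (a : ℕ) :
    ∑ r : Fin n, (ee x i).coeff r * (if (r : ℕ) ≤ a then hh x (a - r) else 0) = x i ^ a := by
  have h := congrArg (PowerSeries.coeff a) (ee_mul x i)
  rw [PowerSeries.coeff_mk, PowerSeries.coeff_mul, Finset.Nat.sum_antidiagonal_eq_sum_range_succ
    (fun p q => PowerSeries.coeff p (ee x i : PowerSeries R) *
      PowerSeries.coeff q (∏ l, PowerSeries.mk fun k => x l ^ k))] at h
  rw [← h, Fin.sum_univ_eq_sum_range
    (fun r => (ee x i).coeff r * (if r ≤ a then hh x (a - r) else 0)) n]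
  rw [sum_subset (range_subset_range.2 (Nat.le_add_right n (a + 1))),
    ← sum_subset (range_subset_range.2 (Nat.le_add_left (a + 1) n))]
  · refine sum_congr rfl fun r hr => ?_
    rw [if_pos (Nat.lt_succ_iff.1 (mem_range.1 hr)), Polynomial.coeff_coe, hh]
  · intro r _ hr
    rw [if_neg fun h => hr (mem_range.2 (Nat.lt_succ_iff.2 h)), mul_zero]
  · intro r _ hr
    rw [coeff_ee x i (not_lt.1 fun h => hr (mem_range.2 h)), zero_mul]

theorem hh_zero : hh x 0 = 1 := by
  simp [hh, map_prod]

/-- The Jacobi–Trudi matrix. -/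
noncomputable def jt (l : Fin n → ℕ) : Matrix (Fin n) (Fin n) R :=
  of fun r j => if (r : ℕ) ≤ l j then hh x (l j - r) else 0

/-- The Jacobi–Trudi identity. -/
theorem det_mul_det_jt (l : Fin n → ℕ) :
    (of fun i j : Fin n => x i ^ (j : ℕ)).det * (jt x l).det = (of fun i j => x i ^ l j).det := by
  have key : ∀ l : Fin n → ℕ, (of fun i r : Fin n => (ee x i).coeff r) * jt x l =
      of fun i j => x i ^ l j := fun l => by
    ext i j
    exact sum_ee_mul_hh x i (l j)
  have h1 : (jt x fun j => (j : ℕ)).det = 1 := by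
    rw [det_of_upperTriangular]
    · exact prod_eq_one fun i _ => by simp [jt, hh_zero]
    · intro i j h
      exact if_neg (not_le.2 h)
  rw [← key, ← key, det_mul, det_mul, h1, mul_one]

end JT

open MvPolynomial

theorem prod_X_pow (m : Fin n → ℕ) : ∏ i, (X i : MvPolynomial (Fin n) ℤ) ^ m i =
    monomial (Finsupp.equivFunOnFinite.symm m) 1 := by
  rw [monomial_eq, C_1, one_mul, Finsupp.prod_fintype _ _ fun _ => pow_zero _]
  rfl

theorem hh_X (b : ℕ) : hh (X : Fin n → MvPolynomial (Fin n) ℤ) b =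
    ∑ l ∈ finsuppAntidiag univ b, monomial l 1 := by
  rw [hh, PowerSeries.coeff_prod]
  refine sum_congr rfl fun l _ => ?_
  simp only [PowerSeries.coeff_mk]
  rw [prod_X_pow]
  simp

theorem coeff_prod_hh (α β : Fin n → ℕ) :
    coeff (Finsupp.equivFunOnFinite.symm α) (∏ j, hh (X : Fin n → MvPolynomial (Fin n) ℤ) (β j)) =
      nMat α β := by
  simp only [hh_X]
  rw [prod_univ_sum, coeff_sum]
  have : ∀ M : Fin n → (Fin n →₀ ℕ), ∏ j, (monomial (M j) 1 : MvPolynomial (Fin n) ℤ) =
      monomial (∑ j, M j) 1 := fun M => by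
    rw [monomial_sum_one]
  simp only [this, coeff_monomial]
  rw [sum_boole, nMat, ← Nat.card_eq_finsetCard]
  congr 1
  refine Nat.card_congr ⟨fun M => ⟨fun r t => M.1 t r, ?_, ?_⟩,
    fun M => ⟨fun t => Finsupp.equivFunOnFinite.symm fun r => M.1 r t, ?_⟩, fun M => ?_, fun M => ?_⟩
  · intro r
    have := DFunLike.congr_fun (mem_filter.1 M.2).2 r
    simpa [Finsupp.finset_sum_apply] using this
  · intro t
    exact (mem_finsuppAntidiag.1 (Fintype.mem_piFinset.1 (mem_filter.1 M.2).1 t)).1
  · refine mem_filter.2 ⟨Fintype.mem_piFinset.2 fun t => mem_finsuppAntidiag.2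
      ⟨M.2.2 t, subset_univ _⟩, ?_⟩
    ext r
    simpa [Finsupp.finset_sum_apply] using M.2.1 r
  · ext t r; rfl
  · rfl

/-- Orthogonality of Schur functions. -/
theorem sum_sign_nMat {l l' : Fin n → ℕ} (hl : StrictMono l) (hl' : StrictMono l') :
    ∑ κ : Equiv.Perm (Fin n), ∑ κ' : Equiv.Perm (Fin n),
      (if (∀ i, (κ i : ℕ) ≤ l i) ∧ ∀ i, (κ' i : ℕ) ≤ l' i then
        (Equiv.Perm.sign κ : ℤ) * (Equiv.Perm.sign κ' : ℤ) *
          nMat (fun i => l i - κ i) (fun i => l' i - κ' i) else 0) = if l = l' then 1 else 0 := by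
  have h := congrArg (coeff (Finsupp.equivFunOnFinite.symm l))
    (det_mul_det_jt (X : Fin n → MvPolynomial (Fin n) ℤ) l')
  rw [← det_transpose (of fun i j : Fin n => (X i : MvPolynomial (Fin n) ℤ) ^ (j : ℕ)),
    det_apply', det_apply', sum_mul_sum, coeff_sum] at h
  have e1 : coeff (Finsupp.equivFunOnFinite.symm l)
      (of fun i j => (X i : MvPolynomial (Fin n) ℤ) ^ l' j).det = if l = l' then 1 else 0 := by
    rw [← det_transpose, det_apply', coeff_sum, sum_eq_single 1]
    · simp only [transpose_apply, of_apply, Equiv.Perm.sign_one, Units.val_one, Int.cast_one,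
        one_mul, Equiv.Perm.coe_one, id_eq, prod_X_pow, coeff_monomial,
        EmbeddingLike.apply_eq_iff_eq, eq_comm]
    · intro σ _ hσ
      simp only [transpose_apply, of_apply, prod_X_pow]
      rw [← eq_intCast (C : ℤ →+* MvPolynomial (Fin n) ℤ), coeff_C_mul, coeff_monomial, if_neg,
        mul_zero]
      intro e
      have e2 : l' ∘ σ = l := Finsupp.equivFunOnFinite.symm.injective e
      have e3 : l = l' := (hl.range_inj hl').1 (by rw [← e2, σ.surjective.range_comp])
      exact hσ (Equiv.ext fun i => hl'.injective (congrFun (e2.trans e3) i))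
    · simp
  rw [← e1, ← h]
  refine sum_congr rfl fun κ _ => ?_
  rw [coeff_sum]
  refine sum_congr rfl fun κ' _ => ?_
  simp only [transpose_apply, of_apply, prod_X_pow, jt]
  rw [mul_mul_mul_comm, ← Int.cast_mul, ← eq_intCast (C : ℤ →+* MvPolynomial (Fin n) ℤ),
    coeff_C_mul, coeff_monomial_mul', one_mul]
  have hle : (Finsupp.equivFunOnFinite.symm fun i => (κ i : ℕ)) ≤ Finsupp.equivFunOnFinite.symm l ↔
      ∀ i, (κ i : ℕ) ≤ l i := Iff.rfl
  by_cases h1 : ∀ i, (κ i : ℕ) ≤ l i
  · rw [if_pos (hle.2 h1)]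
    by_cases h2 : ∀ i, (κ' i : ℕ) ≤ l' i
    · rw [if_pos ⟨h1, h2⟩, prod_congr rfl fun i _ => if_pos (h2 i), ← coeff_prod_hh]
      congr 2
      ext i
      simp
    · obtain ⟨i, hi⟩ := not_forall.1 h2
      rw [if_neg fun h => h2 h.2, prod_eq_zero (mem_univ i) (if_neg hi), coeff_zero, mul_zero]
  · rw [if_neg fun h => h1 h.1, if_neg (mt hle.1 h1), mul_zero]

end Cfsg.Lib.GLFlag
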