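import Cfsg.Agent.Lib.CharDeg.SLPairs
import Cfsg.Agent.Lib.Sz.Weights
import Cfsg.Agent.Lib.Char.Central

/-!
Weight spaces of elementary abelian subgroups parametrised by a coordinate space over a finite
field.
-/

set_option autoImplicit false

namespace Cfsg.Lib.CharDeg

open Module Matrix Cfsg.Lib.Sz

theorem exists_addChar_ne_one (F : Type*) [Field F] [Finite F] : ∃ ψ : AddChar F ℂ, ψ ≠ 1 :=
  ⟨AddChar.FiniteField.primitiveChar_to_Complex F, by
    simpa using AddChar.FiniteField.primitiveChar_to_Complex_isPrimitive F one_ne_zero⟩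

theorem sum_finrank_le_of_wt {k V κ J : Type*} [Field k] [AddCommGroup V] [Module k V]
    [FiniteDimensional k V] (f : κ → End k V) [Fintype J] {χ : J → κ → k}
    (h : Function.Injective χ) (W : J → Submodule k V) (hW : ∀ j, W j ≤ wt f (χ j))
    {U : Submodule k V} (hU : ∀ j, W j ≤ U) : ∑ j, finrank k (W j) ≤ finrank k U := by
  classical
  have h1 := LinearMap.finrank_range_of_inj ((iSupIndep_wt f h).mono hW).dfinsupp_lsum_injective
  rw [← Submodule.iSup_eq_range_dfinsupp_lsum] at h1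
  exact ((finrank_directSum k fun j => W j).symm.trans h1.symm).trans_le
    (Submodule.finrank_mono (iSup_le hU))

variable {F : Type*} [Field F] {ψ : AddChar F ℂ}

theorem eq_of_addChar (hψ : ψ ≠ 1) {s t : F} (h : ∀ a, ψ (s * a) = ψ (t * a)) : s = t := by
  obtain ⟨c, hc⟩ := AddChar.ne_one_iff.1 hψ
  exact eq_of_forall_char (fun a b => (ψ.map_add_eq_mul a b).symm)
    (fun a => (ψ.val_isUnit a).ne_zero) hc h

/-- The sum of `ψ ∘ f` over a finite vector space, for a non-zero functional `f`. -/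
theorem sum_addChar_linear (hψ : ψ ≠ 1) {W : Type*} [AddCommGroup W] [Module F W] [Fintype W]
    {f : W →ₗ[F] F} (hf : f ≠ 0) : ∑ w, ψ (f w) = 0 := by
  refine AddChar.sum_eq_zero_of_ne_one (ψ := ψ.compAddMonoidHom f.toAddMonoidHom) ?_
  obtain ⟨c, hc⟩ := AddChar.ne_one_iff.1 hψ
  obtain ⟨w, rfl⟩ := LinearMap.surjective hf c
  exact AddChar.ne_one_iff.2 ⟨w, hc⟩

theorem card_ker_functional [Finite F] {W : Type*} [AddCommGroup W] [Module F W]
    [FiniteDimensional F W] {f : W →ₗ[F] F} (hf : f ≠ 0) :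
    Nat.card (LinearMap.ker f) = Nat.card F ^ (finrank F W - 1) := by
  rw [Module.natCard_eq_pow_finrank (K := F), ← Module.Dual.finrank_ker_add_one_of_ne_zero hf,
    Nat.add_sub_cancel]

variable {ι : Type*} [Fintype ι] [DecidableEq ι]

theorem dot_injective (hψ : ψ ≠ 1) :
    Function.Injective fun (a : ι → F) (u : ι → F) => ψ (a ⬝ᵥ u) := fun a b h =>
  funext fun i => eq_of_addChar hψ fun t => by simpa using congrFun h (Pi.single i t)

theorem exists_dot [Finite F] (hψ : ψ ≠ 1) {χ : (ι → F) → ℂ} (h : ∀ u v, χ u * χ v = χ (u + v))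
    (h0 : ∀ u, χ u ≠ 0) : ∃ a : ι → F, ∀ u, χ u = ψ (a ⬝ᵥ u) := by
  have h1 : χ 0 = 1 := mul_left_cancel₀ (h0 0) (by rw [h, add_zero, mul_one])
  choose a ha using fun i => Lib.GLFlag.exists_eq_mulShift hψ
    { toFun := fun t => χ (Pi.single i t)
      map_zero_eq_one' := by simp [h1]
      map_add_eq_mul' := fun s t => by rw [h, Pi.single_add] }
  refine ⟨a, fun u => ?_⟩
  induction u using Pi.single_induction with
  | zero => simp [h1]
  | add u v hu hv => rw [← h, hu, hv, dotProduct_add, AddChar.map_add_eq_mul]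
  | single i t => simpa using (DFunLike.congr_fun (ha i) t).symm

theorem sum_dot [Fintype F] [DecidableEq F] (hψ : ψ ≠ 1) (z : ι → F) :
    ∑ a : ι → F, ψ (a ⬝ᵥ z) = if z = 0 then (Fintype.card (ι → F) : ℂ) else 0 := by
  split_ifs with h
  · simp [h]
  · refine sum_addChar_linear hψ (f := (dotProductBilin F F).flip z) fun e => h (funext fun i => ?_)
    simpa using LinearMap.congr_fun e (Pi.single i 1)

variable {G V : Type*} [Group G] [AddCommGroup V] [Module ℂ V] [FiniteDimensional ℂ V]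

/-- The trace of an element of an elementary abelian subgroup in terms of the multiplicities. -/
theorem trace_eq_sum_wt [Fintype F] [DecidableEq F] (hψ : ψ ≠ 1) (ρ : G →* End ℂ V)
    {x : (ι → F) → G} (hx : ∀ u v, x u * x v = x (u + v)) (w : ι → F) :
    LinearMap.trace ℂ V (ρ (x w)) = ∑ a : ι → F,
      ψ (a ⬝ᵥ w) * finrank ℂ (wt (fun u => ρ (x u)) fun u => ψ (a ⬝ᵥ u)) := by
  have hc : (Fintype.card (ι → F) : ℂ) ≠ 0 := by exact_mod_cast Fintype.card_ne_zero
  let e : (ι → F) → End ℂ V := fun a =>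
    (Fintype.card (ι → F) : ℂ)⁻¹ • ∑ v, ψ (-(a ⬝ᵥ v)) • ρ (x v)
  have he : ∀ a, LinearMap.IsProj (wt (fun u => ρ (x u)) fun u => ψ (a ⬝ᵥ u)) (e a) := fun a =>
    { map_mem := fun y u => by
        simp only [e, LinearMap.smul_apply, LinearMap.sum_apply, map_smul, map_sum]
        rw [smul_comm (ψ (a ⬝ᵥ u)), Finset.smul_sum (r := ψ (a ⬝ᵥ u))]
        congr 1
        refine Fintype.sum_equiv (Equiv.addLeft u) _
          (fun v => ψ (a ⬝ᵥ u) • ψ (-(a ⬝ᵥ v)) • ρ (x v) y) fun v => ?_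
        rw [← End.mul_apply, ← map_mul, hx, smul_smul, ← AddChar.map_add_eq_mul, Equiv.coe_addLeft,
          dotProduct_add]
        congr 2
        ring
      map_id := fun y hy => by
        simp only [e, LinearMap.smul_apply, LinearMap.sum_apply]
        rw [Finset.sum_congr rfl (g := fun _ => y) fun v _ => by
          rw [hy v, smul_smul, ← AddChar.map_add_eq_mul, neg_add_cancel, AddChar.map_zero_eq_one,
            one_smul], Finset.sum_const, Finset.card_univ, ← Nat.cast_smul_eq_nsmul ℂ,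
          inv_smul_smul₀ hc] }
  have h1 : ρ (x w) = ∑ a : ι → F, ψ (a ⬝ᵥ w) • e a := by
    simp only [e, Finset.smul_sum, smul_smul, mul_left_comm _ (Fintype.card (ι → F) : ℂ)⁻¹,
      ← AddChar.map_add_eq_mul, ← sub_eq_add_neg, ← dotProduct_sub]
    rw [Finset.sum_comm]
    simp only [← Finset.sum_smul, ← Finset.mul_sum, sum_dot hψ, sub_eq_zero]
    rw [Finset.sum_eq_single w (fun b _ hb => by simp [hb.symm]) (by simp), if_pos rfl,
      inv_mul_cancel₀ hc, one_smul]
  rw [h1, map_sum]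
  exact Finset.sum_congr rfl fun a _ => by rw [map_smul, (he a).trace, smul_eq_mul]

/-- An invariant subspace contains a weight vector. -/
theorem exists_wt_dot [Finite F] (hψ : ψ ≠ 1) (ρ : G →* End ℂ V)
    {x : (ι → F) → G} (hx : ∀ u v, x u * x v = x (u + v)) {W : Submodule ℂ V} (hW : W ≠ ⊥)
    (h : ∀ u, ∀ v ∈ W, ρ (x u) v ∈ W) :
    ∃ a : ι → F, ∃ v ∈ W, v ≠ 0 ∧ v ∈ wt (fun u => ρ (x u)) fun u => ψ (a ⬝ᵥ u) := by
  obtain ⟨χ, v, h1, h2, h3⟩ := exists_wt (f := fun u => ρ (x u))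
    (fun i j => by rw [← map_mul, ← map_mul, hx, hx, add_comm]) hW h
  obtain ⟨a, ha⟩ := exists_dot hψ (fun u w => wt_mul ρ h3 h2 (hx u w)) (wt_ne_zero ρ h3 h2)
  exact ⟨a, v, h1, h2, (funext ha : χ = _) ▸ h3⟩

omit [FiniteDimensional ℂ V] in
/-- The stabiliser of a line. -/
def lineStabRep (ρ : G →* End ℂ V) (y : V) : Subgroup G where
  carrier := {g | ∃ c : ℂˣ, ρ g y = (c : ℂ) • y}
  one_mem' := ⟨1, by simp⟩
  mul_mem' := by
    rintro a b ⟨c, hc⟩ ⟨d, hd⟩
    exact ⟨d * c, by rw [map_mul, End.mul_apply, hd, map_smul, hc, smul_smul, Units.val_mul]⟩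
  inv_mem' := by
    rintro a ⟨c, hc⟩
    refine ⟨c⁻¹, apply_injective ρ a ?_⟩
    rw [← End.mul_apply, ← map_mul, mul_inv_cancel, map_one, map_smul, hc, smul_smul]
    simp

omit [FiniteDimensional ℂ V] in
theorem commutator_apply_of_mem {ρ : G →* End ℂ V} {y : V} {a b : G} (ha : a ∈ lineStabRep ρ y)
    (hb : b ∈ lineStabRep ρ y) : ρ (a * b * a⁻¹ * b⁻¹) y = y := by
  obtain ⟨e, he⟩ := inv_mem (mul_mem hb ha)
  obtain ⟨c, hc⟩ := ha
  obtain ⟨d, hd⟩ := hb
  have h1 : ρ (a * b) y = ρ (b * a) y := by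
    simp only [map_mul, End.mul_apply, hc, hd, map_smul, smul_comm (c : ℂ)]
  rw [mul_assoc, ← _root_.mul_inv_rev, map_mul, End.mul_apply, he, map_smul, h1, ← map_smul, ← he,
    ← End.mul_apply, ← map_mul, mul_inv_cancel, map_one, End.one_apply]

theorem mem_lineStabRep_of_finrank {ρ : G →* End ℂ V} {W : Submodule ℂ V} (hW : finrank ℂ W = 1)
    {y : V} (hy : y ∈ W) (h0 : y ≠ 0) {g : G} (hg : ρ g y ∈ W) : g ∈ lineStabRep ρ y := by
  obtain ⟨c, hc⟩ := (finrank_eq_one_iff_of_nonzero' (⟨y, hy⟩ : W)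
    fun e => h0 (congrArg Subtype.val e)).1 hW ⟨_, hg⟩
  have hc : c • y = ρ g y := congrArg Subtype.val hc
  exact ⟨Units.mk0 c fun e => h0 (apply_injective ρ g (by rw [← hc, e, zero_smul, map_zero])),
    hc.symm⟩

omit [FiniteDimensional ℂ V] in
theorem finrank_le_one_of_ker_eq_top [FiniteDimensional ℂ V] (ρ : Representation ℂ G V)
    (h : ρ.IsIrreducible) (hk : MonoidHom.ker ρ = ⊤) : finrank ℂ V ≤ 1 := by
  have := Lib.Char.nontrivial_of_isIrreducible ρ
  obtain ⟨v, hv⟩ := exists_ne (0 : V)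
  rcases Lib.Char.eq_bot_or_top_of_isIrreducible ρ (ℂ ∙ v)
    (fun g w hw => by rwa [show ρ g = 1 from hk.ge trivial]) with h5 | h5
  · exact absurd (Submodule.span_singleton_eq_bot.1 h5) hv
  · rw [← finrank_top, ← h5, finrank_span_singleton hv]

end Cfsg.Lib.CharDeg
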