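import Cfsg.Agent.Lib.CharDeg.CosetMult
import Cfsg.Agent.Lib.Clifford.Det
import Cfsg.Agent.Lib.Char.Galois

/-!
# Counting invariant characters; canonical extensions and cyclic operator groups
-/

set_option autoImplicit false

namespace Cfsg.Lib.CharDeg

open Cfsg.Lib.Char
open scoped ComplexConjugate

universe u

/-- Transport of irreducible characters along an isomorphism. -/
def irrCongr {G H : Type*} [Group G] [Group H] (e : G ≃* H) : IrrCharacter G ≃ IrrCharacter H where
  toFun χ := ⟨fun x => (χ : G → ℂ) (e.symm x), χ.2.comp_equiv e.symm⟩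
  invFun χ := ⟨fun x => (χ : H → ℂ) (e x), χ.2.comp_equiv e⟩
  left_inv χ := Subtype.ext (funext fun g => by simp)
  right_inv χ := Subtype.ext (funext fun g => by simp)

theorem irrCongr_apply {G H : Type*} [Group G] [Group H] (e : G ≃* H) (χ : IrrCharacter G)
    (x : H) : (irrCongr e χ : H → ℂ) x = (χ : G → ℂ) (e.symm x) := rfl

/-- A solvable group acting coprimely fixes as many irreducible characters as the fixed point
subgroup has. -/
theorem card_invariant_irr_eq_card_irr {A C : Type*} [Group A] [Finite A] [Group C]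
    (hs : Group.IsSolvable A) (K : Type u) [Group K] [Finite K] : ∀ (φ : A →* MulAut K)
    (ι : C →* K), Function.Injective ι → (∀ x, (∀ s, φ s x = x) ↔ x ∈ Set.range ι) →
    (Nat.card K).Coprime (Nat.card A) →
    Nat.card {χ : IrrCharacter K // ∀ a g, (χ : K → ℂ) (φ a g) = (χ : K → ℂ) g} =
    Nat.card (IrrCharacter C) := by
  induction hn : Nat.card K using Nat.strong_induction_on generalizing K with | _ n ih => ?_
  subst hn
  intro φ ι hι hfix hcop
  by_cases hφ : ∃ a, φ a ≠ 1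
  · obtain ⟨p, T, hp, hP, hpA, hT1, hT⟩ := exists_pgroup_step hs φ hφ
    have := Fact.mk hp
    have hK : ¬ p ∣ Nat.card K := fun h => hp.one_lt.ne' (Nat.eq_one_of_dvd_coprimes hcop h hpA)
    have := Fintype.ofFinite K
    have := Fintype.ofFinite (fixedSub φ T)
    obtain ⟨f, -⟩ := exists_glauberman_step φ hP hK hT
    rw [Nat.card_congr f]
    refine ih _ (Core.card_lt_of_ne_top (fixedSub_ne_top hT1)) _ rfl _
      (ι.codRestrict _ fun c t _ => (hfix _).mpr ⟨c, rfl⟩ t)
      (fun a b e => hι (congrArg Subtype.val e)) (fun x => ⟨fun h => ?_, ?_⟩)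
      (hcop.coprime_dvd_left (Subgroup.card_subgroup_dvd_card _))
    · obtain ⟨c, hc⟩ := (hfix x).mp fun s => congrArg Subtype.val (h s)
      exact ⟨c, Subtype.ext hc⟩
    · rintro ⟨c, rfl⟩ s
      exact Subtype.ext ((hfix _).mpr ⟨c, rfl⟩ s)
  · push Not at hφ
    rw [Nat.card_congr (irrCongr (MulEquiv.ofBijective ι
      ⟨hι, fun x => (hfix x).mp fun s => by simp [hφ]⟩))]
    exact Nat.card_congr (Equiv.subtypeUnivEquiv fun χ => by simp [hφ])

variable {Γ : Type*} [Group Γ] [Finite Γ]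

/-- Uniqueness of the extension of coprime determinantal order. -/
theorem eq_of_res_eq_of_detOrder (G : Subgroup Γ) [G.Normal] {χ ψ : Γ → ℂ}
    (hχ : IsCharacter Γ χ) (hχG : IsIrrCharacter G (fun g : G => χ g)) (hψ : IsCharacter Γ ψ)
    (h : ∀ g : G, ψ g = χ g) (hd : (charDegree χ).Coprime G.index)
    (h1 : (detOrder χ).Coprime G.index) (h2 : (detOrder ψ).Coprime G.index) : ψ = χ := by
  obtain ⟨lam, hlam, rfl⟩ := Clifford.exists_hom_mul_eq_of_res_eq G hχ hχG hψ h
  have e1 := Clifford.detHom_hom_mul hχ hχ.apply_one_eq lam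
  rw [Clifford.detOrder_eq_orderOf_detHom] at h1 h2
  rw [e1] at h2
  have key : ∀ {M : Type _} [CommGroup M] (a b : M) (d : ℕ),
      orderOf a ∣ d * (orderOf (a ^ d * b) * orderOf b) := by
    intro M _ a b d
    have e3 := (Commute.all (a ^ d * b) b⁻¹).orderOf_mul_dvd_mul_orderOf
    rw [mul_inv_cancel_right, orderOf_inv] at e3
    exact (orderOf_dvd_of_pow_eq_one ((pow_mul a _ _).trans (pow_orderOf_eq_one _))).trans
      (Nat.mul_dvd_mul_left _ e3)
  have e2 : orderOf lam ∣ charDegree χ * (orderOf (lam ^ charDegree χ * Clifford.detHom χ) *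
      orderOf (Clifford.detHom χ)) := key lam _ _
  have e4 : lam = 1 := orderOf_eq_one_iff.mp (Nat.eq_one_of_dvd_coprimes
    (Nat.Coprime.mul_left hd (Nat.Coprime.mul_left h2 h1)) e2
    (Clifford.orderOf_hom_dvd_index lam G hlam))
  simp [e4]

omit [Finite Γ] in
theorem index_dvd_card_of_sup_eq_top {G S : Subgroup Γ} [G.Normal] (htop : G ⊔ S = ⊤) :
    G.index ∣ Nat.card S := by
  rw [← Subgroup.relIndex_top_right, ← htop, Subgroup.relIndex_sup_left]
  exact Subgroup.relIndex_dvd_card _ _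

/-- The values of a canonical extension on the cosets `C s`, `s` a generator. -/
theorem exists_cosetMult_eq_ite {G S C : Subgroup Γ} [G.Normal] [Fintype C]
    (hcop : (Nat.card G).Coprime (Nat.card S)) (htop : G ⊔ S = ⊤)
    (hC : C = G ⊓ Subgroup.centralizer (S : Set Γ)) {s₀ : Γ} (hs₀ : Subgroup.zpowers s₀ = S)
    {χ : Γ → ℂ} (hχ : IsCharacter Γ χ) (hχG : IsIrrCharacter G (fun g : G => χ g))
    (hdet : (detOrder χ).Coprime (Nat.card S)) :
    ∃ (β : IrrCharacter C) (ε : ℤ), (ε = 1 ∨ ε = -1) ∧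
      ∀ (c : C) (s : Γ), Subgroup.zpowers s = S → χ (c * s) = ε * (β : C → ℂ) c := by
  classical
  have hCS : ∀ c ∈ C, ∀ s ∈ S, c * s = s * c := fun c hc s hs =>
    (Subgroup.mem_centralizer_iff.mp (hC.le hc).2 s hs).symm
  have hs₀S : s₀ ∈ S := hs₀ ▸ Subgroup.mem_zpowers s₀
  have ho : orderOf s₀ = Nat.card S := by rw [← hs₀, Nat.card_zpowers]
  have hidx := index_dvd_card_of_sup_eq_top htop
  have hμ : ∀ β : IrrCharacter C, IsCharacter S (fun x : S => cosetMult C χ β x) := fun β =>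
    isCharacter_cosetMult hCS hχ β.2.isCharacter
  have hpow : ∀ (β : IrrCharacter C) (k : ℕ), k.Coprime (Nat.card S) →
      cosetMult C χ β (s₀ ^ k) = cosetMult C χ β s₀ := by
    intro β k hk
    obtain ⟨σ, hσ1, hσ2⟩ := exists_ringEquiv_pow_fix Nat.card_pos.ne' Nat.card_pos.ne' hcop.symm hk
    have h1 : (fun g => (σ : ℂ →+* ℂ) (χ g)) = χ := by
      refine eq_of_res_eq_of_detOrder G hχ hχG (hχ.map_ringHom _) (fun g => ?_) ?_
        (hdet.coprime_dvd_right hidx) ?_
      · exact hχ.isGeneralizedCharacter.map_apply_eq_self_of_dvd _ (G.orderOf_dvd_natCard g.2) hσ2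
      · exact (hcop.coprime_dvd_left hχG.charDegree_dvd_card).coprime_dvd_right hidx
      · rw [Clifford.detOrder_map_ringHom hχ]
        exact hdet.coprime_dvd_right hidx
    have h2 : (fun c => (σ : ℂ →+* ℂ) ((β : C → ℂ) c)) = β := funext fun c =>
      β.2.isGeneralizedCharacter.map_apply_eq_self_of_dvd _ ((orderOf_dvd_natCard c).trans
        (Subgroup.card_dvd_of_le (hC.le.trans inf_le_left))) hσ2
    have h3 := (hμ β).isGeneralizedCharacter.map_apply_eq_pow_of_dvd (σ : ℂ →+* ℂ)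
      (orderOf_dvd_natCard (⟨s₀, hs₀S⟩ : S)) hσ1
    refine h3.symm.trans ?_
    unfold cosetMult
    rw [← classInner_map_ringHom _ _ β.2.isGeneralizedCharacter, h2]
    simp only [congrFun h1]
  have hint : ∀ β : IrrCharacter C, ∃ n : ℤ, cosetMult C χ β s₀ = n := fun β =>
    (hμ β).isGeneralizedCharacter.exists_int_of_forall_pow (g := ⟨s₀, hs₀S⟩) fun k hk =>
      hpow β k (by rwa [← ho, ← Subgroup.orderOf_mk _ hs₀S])
  choose n hn using hint
  have hsum := sum_norm_sq_cosetMult (C := C) (x := s₀)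
    (by rw [hC, ← hs₀, Core.centralizer_zpowers]) (ho ▸ hcop) hχ hχG
  simp only [hn, Complex.norm_intCast, sq_abs] at hsum
  have hsum' : ∑ β, n β ^ 2 = 1 := by exact_mod_cast hsum
  obtain ⟨β, -, hβ⟩ := Finset.exists_ne_zero_of_sum_ne_zero (hsum'.trans_ne one_ne_zero)
  rw [← Finset.add_sum_erase _ _ (Finset.mem_univ β)] at hsum'
  have h0 := Finset.sum_nonneg (s := Finset.univ.erase β) fun β' _ => sq_nonneg (n β')
  have h1 : 0 < n β ^ 2 := lt_of_le_of_ne (sq_nonneg _) hβ.symm
  have h2 : ∀ β' ≠ β, n β' = 0 := fun β' hne => pow_eq_zero_iff two_ne_zero |>.mp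
    ((Finset.sum_eq_zero_iff_of_nonneg fun β' _ => sq_nonneg (n β')).mp (by omega) β'
      (Finset.mem_erase.mpr ⟨hne, Finset.mem_univ _⟩))
  refine ⟨β, n β, sq_eq_one_iff.mp (by omega), fun c s hs => ?_⟩
  have hsS : s ∈ S := hs ▸ Subgroup.mem_zpowers s
  obtain ⟨k, rfl⟩ := (mem_powers_iff_mem_zpowers.mpr (hs₀.ge hsS))
  have hk : k.Coprime (Nat.card S) := by
    have e : orderOf (s₀ ^ k) = orderOf s₀ := by rw [ho, ← hs, Nat.card_zpowers]
    rw [orderOf_pow, Nat.div_eq_self] at e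
    rw [← ho, Nat.coprime_comm]
    exact e.resolve_left (orderOf_pos s₀).ne'
  rw [apply_eq_sum_cosetMult hχ.isClassFunction (fun c hc => hCS c hc _ hsS)]
  simp only [hpow _ k hk, hn]
  rw [Finset.sum_eq_single β (fun β' _ hne => by simp [h2 β' hne]) (by simp)]

end Cfsg.Lib.CharDeg
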