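import Cfsg.Agent.Lib.CharDeg.TwoDeg
import Cfsg.Agent.Lib.CharDeg.DerivedP
import Cfsg.Agent.Lib.Core.MinNormal

/-! Solvable groups all of whose proper quotients are abelian, and degrees above them. -/

set_option autoImplicit false

namespace Cfsg.Lib.CharDeg

open Cfsg.Lib.Char Cfsg.Lib.Clifford Cfsg.Lib.Induce Cfsg.Lib.Core Subgroup
open scoped commutatorElement

/-- A non-abelian group all of whose proper quotients are abelian. -/
structure MinNonab (H : Type*) [Group H] : Prop where
  ne_bot : _root_.commutator H ≠ ⊥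
  le : ∀ L : Subgroup H, L.Normal → L ≠ ⊥ → _root_.commutator H ≤ L

/-- No element outside `V` fixes a nontrivial linear character of `V`. -/
def DualFpf {H : Type*} [Group H] (V : Subgroup H) [V.Normal] : Prop :=
  ∀ g ∉ V, ∀ lam : V →* ℂˣ, (∀ v : V, lam (MulAut.conjNormal g v) = lam v) → lam = 1

theorem exists_minNonab {G : Type*} [Group G] [Finite G] (M : Subgroup G) [M.Normal]
    (h : ¬ _root_.commutator G ≤ M) :
    ∃ K : Subgroup G, ∃ _ : K.Normal, M ≤ K ∧ MinNonab (G ⧸ K) := by
  obtain ⟨K, ⟨h1, h2, h3⟩, hmax⟩ := Set.Finite.exists_maximal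
    (s := {K : Subgroup G | K.Normal ∧ M ≤ K ∧ ¬ _root_.commutator G ≤ K}) (Set.toFinite _)
    ⟨M, inferInstance, le_rfl, h⟩
  have hc : _root_.commutator (G ⧸ K) = (_root_.commutator G).map (QuotientGroup.mk' K) := by
    rw [map_commutator_eq, MonoidHom.range_eq_top.2 (QuotientGroup.mk'_surjective K)]
    rfl
  refine ⟨K, h1, h2, fun h0 => h3 ?_, fun L hL hL0 => ?_⟩
  · rw [hc, Subgroup.map_eq_bot_iff, QuotientGroup.ker_mk'] at h0
    exact h0
  · rw [hc, map_le_iff_le_comap]
    by_contra h4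
    have h5 : K ≤ L.comap (QuotientGroup.mk' K) := fun k hk => by
      rw [mem_comap, QuotientGroup.mk'_apply, (QuotientGroup.eq_one_iff k).2 hk]
      exact one_mem L
    have h6 := hmax ⟨hL.comap _, h2.trans h5, h4⟩ h5
    refine hL0 (eq_bot_iff.2 fun x hx => ?_)
    obtain ⟨y, rfl⟩ := QuotientGroup.mk'_surjective K x
    exact (QuotientGroup.eq_one_iff y).2 (h6 hx)

variable {H : Type*} [Group H] [Finite H]

omit [Finite H] in
theorem MinNonab.isMinNormal (h : MinNonab H) : IsMinNormal (_root_.commutator H) :=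
  ⟨inferInstance, h.ne_bot, fun K hK hle =>
    or_iff_not_imp_left.2 fun h0 => le_antisymm hle (h.le K hK h0)⟩

theorem MinNonab.isPGroup_of_center (h : MinNonab H) {p : ℕ} (hp : p.Prime)
    (hV : IsPGroup p (_root_.commutator H)) (hZ : center H ≠ ⊥) : IsPGroup p H := by
  have hVZ := h.le _ inferInstance hZ
  have key : ∀ q : ℕ, q.Prime → q ∣ Nat.card H → q = p := by
    intro q hq hd
    by_contra hne
    haveI : Fact q.Prime := ⟨hq⟩
    have hv : ∀ v ∈ _root_.commutator H, v ^ q = 1 → v = 1 := by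
      intro v hv h1
      obtain ⟨k, hk⟩ := hV ⟨v, hv⟩
      have h2 : v ^ p ^ k = 1 := congrArg Subtype.val hk
      rw [← orderOf_dvd_iff_pow_eq_one] at h1 h2
      exact orderOf_eq_one_iff.1 (Nat.eq_one_of_dvd_coprimes
        (Nat.Coprime.pow_right k ((Nat.coprime_primes hq hp).2 hne)) h1 h2)
    obtain ⟨x, hx⟩ := exists_prime_orderOf_dvd_card' (G := H) q hd
    have hxq : x ^ q = 1 := hx ▸ pow_orderOf_eq_one x
    have hxZ : x ∈ center H := mem_center_iff.2 fun g => by
      have h1 : ⁅g, x⁆ ∈ _root_.commutator H := commutator_mem_commutator (mem_top _) (mem_top _)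
      refine commutatorElement_eq_one_iff_mul_comm.1 (hv _ h1 ?_)
      have h2 : Commute ⁅g, x⁆ x := (mem_center_iff.1 (hVZ h1) x).symm
      have h3 : (⁅g, x⁆ * x) ^ q = 1 := by
        rw [show ⁅g, x⁆ * x = g * x * g⁻¹ by rw [commutatorElement_def]; group, conj_pow, hxq]
        group
      rwa [h2.mul_pow, hxq, mul_one] at h3
    have h4 : _root_.commutator H ≤ zpowers x := h.le _
      ⟨fun a ha g => by
        rw [mem_center_iff.1 (zpowers_le.2 hxZ ha) g, mul_inv_cancel_right]; exact ha⟩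
      (by rw [Ne, zpowers_eq_bot]; rintro rfl; rw [orderOf_one] at hx; exact hq.ne_one hx.symm)
    refine h.ne_bot (eq_bot_iff.2 fun v hv' => hv v hv' ?_)
    obtain ⟨n, rfl⟩ := h4 hv'
    rw [← zpow_natCast, ← zpow_mul, mul_comm, zpow_mul, zpow_natCast, hxq, one_zpow]
  haveI : Fact p.Prime := ⟨hp⟩
  exact IsPGroup.of_card (Nat.eq_prime_pow_of_unique_prime_dvd Nat.card_pos.ne'
    (fun hq hd => key _ hq hd))

theorem MinNonab.eq_one_of_commute (h : MinNonab H) (hV : IsMulCommutative (_root_.commutator H))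
    {g : H} (hg : g ∉ centralizer (_root_.commutator H : Set H)) {v : H}
    (hv : v ∈ _root_.commutator H) (hc : v * g = g * v) : v = 1 := by
  by_contra hne
  have hab : ∀ a ∈ _root_.commutator H, ∀ b ∈ _root_.commutator H, a * b = b * a :=
    fun a ha b hb => congrArg Subtype.val (hV.is_comm.comm (⟨a, ha⟩ : _root_.commutator H) ⟨b, hb⟩)
  have h1 := h.le (_root_.commutator H ⊓ centralizer {g}) ⟨fun w hw x => ?_⟩
    (fun e => hne (by
      have : v ∈ _root_.commutator H ⊓ centralizer {g} :=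
        ⟨hv, mem_centralizer_singleton_iff.2 hc⟩
      rwa [e, mem_bot] at this))
  · exact hg fun w hw => mem_centralizer_singleton_iff.1 (h1 hw).2
  · have h2 := (inferInstance : (_root_.commutator H).Normal).conj_mem w hw.1 x
    refine ⟨h2, mem_centralizer_singleton_iff.2 ?_⟩
    have h3 := mem_centralizer_singleton_iff.1 hw.2
    have h4 := hab _ h2 ⁅g, x⁆ (commutator_mem_commutator (mem_top _) (mem_top _))
    rw [commutatorElement_def] at h4
    calc x * w * x⁻¹ * g = (x * w * x⁻¹ * (g * x * g⁻¹ * x⁻¹)) * (x * g * x⁻¹) := by group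
      _ = g * x * g⁻¹ * (w * g) * x⁻¹ := by rw [h4]; group
      _ = _ := by rw [h3]; group

theorem MinNonab.exists_commutator_eq (h : MinNonab H)
    (hV : IsMulCommutative (_root_.commutator H)) {g : H}
    (hg : g ∉ centralizer (_root_.commutator H : Set H)) {u : H} (hu : u ∈ _root_.commutator H) :
    ∃ v ∈ _root_.commutator H, ⁅v, g⁆ = u := by
  let φ : _root_.commutator H → _root_.commutator H :=
    fun v => ⟨⁅(v : H), g⁆, commutator_mem_commutator (mem_top _) (mem_top _)⟩
  have hinj : Function.Injective φ := by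
    intro v w e
    have e1 : ⁅(v : H), g⁆ = ⁅(w : H), g⁆ := congrArg Subtype.val e
    have := h.eq_one_of_commute hV hg (mul_mem (inv_mem w.2) v.2) (by
      rw [commutatorElement_def, commutatorElement_def] at e1
      calc (w : H)⁻¹ * v * g = (w : H)⁻¹ * (v * g * (v : H)⁻¹ * g⁻¹) * g * v := by group
        _ = _ := by rw [e1]; group)
    exact Subtype.ext (inv_mul_eq_one.1 this).symm
  obtain ⟨v, hv⟩ := Finite.surjective_of_injective hinj ⟨u, hu⟩
  exact ⟨v, v.2, congrArg Subtype.val hv⟩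

theorem MinNonab.centralizer_le (h : MinNonab H) (hV : IsMulCommutative (_root_.commutator H))
    (hZ : center H = ⊥) : centralizer (_root_.commutator H : Set H) ≤ _root_.commutator H := by
  have hab : ∀ a ∈ _root_.commutator H, ∀ b ∈ _root_.commutator H, a * b = b * a :=
    fun a ha b hb => congrArg Subtype.val (hV.is_comm.comm (⟨a, ha⟩ : _root_.commutator H) ⟨b, hb⟩)
  obtain ⟨g, hg⟩ : ∃ g, g ∉ centralizer (_root_.commutator H : Set H) := by
    by_contra hcon
    push Not at hcon
    exact h.ne_bot (eq_bot_iff.2 fun v hv => hZ ▸ mem_center_iff.2 fun x => (hcon x v hv).symm)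
  intro c hc
  obtain ⟨v, hv, e⟩ := h.exists_commutator_eq hV hg
    (commutator_mem_commutator (mem_top c) (mem_top g))
  have hd : v⁻¹ * c * g = g * (v⁻¹ * c) := by
    rw [commutatorElement_def, commutatorElement_def] at e
    calc v⁻¹ * c * g = v⁻¹ * (c * g * c⁻¹ * g⁻¹) * g * c := by group
      _ = _ := by rw [← e]; group
  have hdC : ∀ w ∈ _root_.commutator H, w * (v⁻¹ * c) = v⁻¹ * c * w := fun w hw => by
    rw [← mul_assoc, hab w hw _ (inv_mem hv), mul_assoc, hc w hw, mul_assoc]
  have h1 : v⁻¹ * c ∈ center H := by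
    generalize v⁻¹ * c = d at hd hdC
    refine mem_center_iff.2 fun x => commutatorElement_eq_one_iff_mul_comm.1
      (h.eq_one_of_commute hV hg (commutator_mem_commutator (mem_top _) (mem_top _)) ?_)
    have h2 := hdC _ (commutator_mem_commutator (mem_top g) (mem_top x))
    have h3 := hab _ (commutator_mem_commutator (mem_top g) (mem_top x)) _
      (commutator_mem_commutator (mem_top x) (mem_top d))
    have h4 : x * d * x⁻¹ * ⁅g, x⁆ = ⁅g, x⁆ * (x * d * x⁻¹) := by
      rw [show x * d * x⁻¹ = ⁅x, d⁆ * d by rw [commutatorElement_def]; group, mul_assoc, ← h2,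
        ← mul_assoc, ← h3, mul_assoc]
    have h5 : x * d * x⁻¹ * g = g * (x * d * x⁻¹) := by
      rw [commutatorElement_def] at h4
      calc x * d * x⁻¹ * g = (x * d * x⁻¹ * (g * x * g⁻¹ * x⁻¹)) * (x * g * x⁻¹) := by group
        _ = g * x * g⁻¹ * (d * g) * x⁻¹ := by rw [h4]; group
        _ = _ := by rw [hd]; group
    rw [commutatorElement_def]
    calc x * d * x⁻¹ * d⁻¹ * g = x * d * x⁻¹ * d⁻¹ * (g * d) * d⁻¹ := by group
      _ = (x * d * x⁻¹ * g) * d⁻¹ := by rw [← hd]; group
      _ = _ := by rw [h5]; group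
  rw [hZ, mem_bot] at h1
  rwa [← inv_mul_eq_one.1 h1]

/-- Structure of solvable groups all of whose proper quotients are abelian. -/
theorem MinNonab.struct (h : MinNonab H) (hs : Group.IsSolvable (_root_.commutator H)) :
    ∃ p : ℕ, p.Prime ∧ (IsPGroup p H ∨ (IsPGroup p (_root_.commutator H) ∧
      IsMulCommutative (_root_.commutator H) ∧ ¬ p ∣ (_root_.commutator H).index ∧
      DualFpf (_root_.commutator H))) := by
  obtain ⟨p, hp, hV⟩ := h.isMinNormal.exists_isPGroup hs
  have hab := h.isMinNormal.isMulCommutative hs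
  refine ⟨p, hp, ?_⟩
  by_cases hZ : center H = ⊥
  swap
  · exact Or.inl (h.isPGroup_of_center hp hV hZ)
  have hC := h.centralizer_le hab hZ
  refine Or.inr ⟨hV, hab, ?_, fun g hg lam hlam => ?_⟩
  · haveI : Fact p.Prime := ⟨hp⟩
    obtain ⟨P, hP⟩ := hV.exists_le_sylow
    haveI : (P : Subgroup H).Normal := ⟨fun a ha x => by
      rw [show x * a * x⁻¹ = ⁅x, a⁆ * a by rw [commutatorElement_def]; group]
      exact mul_mem (hP (commutator_mem_commutator (mem_top _) (mem_top _))) ha⟩
    have h1 := h.isMinNormal.le_centralizer_of_isNilpotent (P : Subgroup H) P.isPGroup'.isNilpotent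
    exact fun hd => P.not_dvd_index (hd.trans (index_dvd_of_le ((le_centralizer_iff.1 h1).trans hC)))
  · ext u
    obtain ⟨v, hv, e⟩ := h.exists_commutator_eq hab (fun h1 => hg (hC h1)) u.2
    have e1 : u = ⟨v, hv⟩ * MulAut.conjNormal g (⟨v, hv⟩ : _root_.commutator H)⁻¹ :=
      Subtype.ext (by
        rw [← e, commutatorElement_def]
        simp [mul_assoc])
    rw [e1, map_mul, hlam, map_inv, mul_inv_cancel]
    rfl

theorem exists_hom_ne_one_of_comm {V : Type*} [Group V] [Finite V] [Nontrivial V]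
    [IsMulCommutative V] : ∃ lam : V →* ℂˣ, lam ≠ 1 := by
  obtain ⟨g, hg⟩ := exists_ne (1 : V)
  obtain ⟨χ, hχ, h1⟩ := exists_irr_apply_ne_of_ne_one hg
  obtain ⟨lam, rfl⟩ := hχ.exists_hom_of_comm
  exact ⟨lam, fun e => h1 (by simp [e])⟩

/-- Degrees above a Frobenius-type quotient. -/
theorem DualFpf.mul_mem_cd {G : Type*} [Group G] [Finite G] (π : G →* H)
    (hπ : Function.Surjective π) {V : Subgroup H} [V.Normal] (hV : DualFpf V) (h0 : V ≠ ⊥)
    (hab : IsMulCommutative V) {N : Subgroup G} [N.Normal] (hN : N = V.comap π) {ψ : N → ℂ}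
    (hψ : IsIrrCharacter N ψ)
    (hcop : (charDegree ψ).Coprime (Nat.card V)) : V.index * charDegree ψ ∈ cd G := by
  classical
  haveI := Fintype.ofFinite G
  haveI := Fintype.ofFinite N
  let ρ : N →* V := (π.comp N.subtype).codRestrict V fun n => mem_comap.1 (hN ▸ n.2)
  have hρ : Function.Surjective ρ := fun v => by
    obtain ⟨g, hg⟩ := hπ v
    exact ⟨⟨g, by rw [hN, mem_comap, hg]; exact v.2⟩, Subtype.ext hg⟩
  haveI := Fintype.ofFinite ρ.ker
  have hirr : IsIrrCharacter ρ.ker (fun k : ρ.ker => ψ k) := isIrrCharacter_res_of_coprime ρ.ker hψ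
    (by rw [index_ker, MonoidHom.range_eq_top.2 hρ, card_top]; exact hcop)
  have hcj : ∀ (g : G) (n : N), ρ (MulAut.conjNormal g n) = MulAut.conjNormal (π g) (ρ n) :=
    fun g n => Subtype.ext (by
      change π (g * n * g⁻¹) = π g * π n * (π g)⁻¹
      rw [map_mul, map_mul, map_inv])
  have hind : N.index = V.index := hN ▸ index_comap_of_surjective V hπ
  by_cases hex : ∃ lam : V →* ℂˣ, inertia N (fun n => (lam (ρ n) : ℂ) * ψ n) ≤ N
  · obtain ⟨lam, hlam⟩ := hex
    have h1 := hψ.hom_mul (lam.comp ρ)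
    have h2 := charDegree_mem_cd (isIrrCharacter_indFun_of_inertia_le N h1 hlam)
    rwa [charDegree_eq_of_apply_one (n := V.index * charDegree ψ)
      (by rw [indFun_one, hind, map_one, hψ.apply_one_eq]; simp)] at h2
  exfalso
  simp only [SetLike.le_def, not_exists, not_forall] at hex
  choose g hg1 hg2 using hex
  haveI : Nontrivial V := (nontrivial_iff_ne_bot V).2 h0
  obtain ⟨lam0, hlam0⟩ := exists_hom_ne_one_of_comm (V := V)
  let a : (V →* ℂˣ) → H ⧸ V := fun lam => (π (g lam) : H ⧸ V)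
  let b : H ⧸ V → (V →* ℂˣ) := fun q => lam0.comp (MulAut.conjNormal q.out).toMonoidHom
  have ha : Function.Injective a := by
    intro lam mu e
    have e1 : (g lam)⁻¹ * g mu ∈ N := by
      rw [hN, mem_comap, map_mul, map_inv]; exact QuotientGroup.eq.1 e
    have h1 := hψ.hom_mul (lam.comp ρ)
    have e2 : g mu ∈ inertia N (fun n => (lam (ρ n) : ℂ) * ψ n) := by
      have := mul_mem (hg1 lam) (le_inertia N h1.isClassFunction e1)
      rwa [mul_inv_cancel_left] at this
    have e3 := (mem_inertia_iff N).1 e2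
    have e4 := (mem_inertia_iff N).1 (hg1 mu)
    have e5 := hom_eq_of_mul_eq ρ.ker hψ.isCharacter hirr
      (lam := (mu * lam⁻¹).comp (ρ.comp (MulAut.conjNormal (g mu)).toMonoidHom))
      (mu := (mu * lam⁻¹).comp ρ) (fun n hn => by
        simp only [MonoidHom.comp_apply, MulEquiv.coe_toMonoidHom, hcj]
        rw [MonoidHom.mem_ker.1 hn, map_one, map_one])
      (fun n hn => by rw [MonoidHom.comp_apply, MonoidHom.mem_ker.1 hn, map_one]) (funext fun n => by
        have h3 := e3 n
        have h4 := e4 n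
        change (lam (ρ (MulAut.conjNormal (g mu) n)) : ℂ) * ψ (MulAut.conjNormal (g mu) n) = _ at h3
        change (mu (ρ (MulAut.conjNormal (g mu) n)) : ℂ) * ψ (MulAut.conjNormal (g mu) n) = _ at h4
        simp only [MonoidHom.comp_apply, MulEquiv.coe_toMonoidHom, MonoidHom.mul_apply,
          MonoidHom.inv_apply, Units.val_mul, Units.val_inv_eq_inv_val]
        have h5 := (lam (ρ (MulAut.conjNormal (g mu) n))).ne_zero
        have h6 := (lam (ρ n)).ne_zero
        field_simp
        linear_combination (lam (ρ (MulAut.conjNormal (g mu) n)) : ℂ) * h4 -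
          (mu (ρ (MulAut.conjNormal (g mu) n)) : ℂ) * h3)
    have e6 := hV (π (g mu)) (fun h => hg2 mu (hN ▸ h)) (mu * lam⁻¹) fun v => by
      obtain ⟨n, rfl⟩ := hρ v
      rw [← hcj]
      exact DFunLike.congr_fun e5 n
    exact (mul_inv_eq_one.1 e6).symm
  have hb : Function.Injective b := by
    intro q r e
    have e1 : ∀ v, lam0 (MulAut.conjNormal q.out v) = lam0 (MulAut.conjNormal r.out v) :=
      fun v => DFunLike.congr_fun e v
    have e2 : q.out * r.out⁻¹ ∈ V := by
      by_contra hc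
      refine hlam0 (hV _ hc lam0 fun v => ?_)
      rw [map_mul, MulAut.mul_apply, e1, ← MulAut.mul_apply, ← map_mul, mul_inv_cancel, map_one,
        MulAut.one_apply]
    rw [← q.out_eq', ← r.out_eq', QuotientGroup.eq_iff_div_mem, div_eq_mul_inv]
    exact e2
  obtain ⟨q, hq⟩ := Finite.surjective_of_injective (ha.comp hb) 1
  exact hg2 (b q) (hN ▸ mem_comap.2 ((QuotientGroup.eq_one_iff (π (g (b q)))).1 hq))

section
variable {G : Type*} [Group G] [Finite G]

theorem mul_mem_cd_of_coprime (K : Subgroup G) [K.Normal] {m n : ℕ} (hm : m ∈ cd (G ⧸ K))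
    (hn : n ∈ cd G) (hc : n.Coprime K.index) : m * n ∈ cd G := by
  haveI := Fintype.ofFinite K
  obtain ⟨β, hβ, rfl⟩ := mem_cd'.1 hm
  obtain ⟨χ, hχ, rfl⟩ := mem_cd'.1 hn
  have h1 := charDegree_mem_cd (isIrrCharacter_inflate_mul K hχ.isCharacter
    (isIrrCharacter_res_of_coprime K hχ hc) hβ)
  rwa [charDegree_eq_of_apply_one (n := charDegree β * charDegree χ) (by
    rw [Pi.mul_apply, QuotientGroup.mk_one, hβ.apply_one_eq, hχ.apply_one_eq, Nat.cast_mul])] at h1

theorem exists_constituent_not_dvd [Fintype G] {θ : G → ℂ} (hθ : IsCharacter G θ) {p : ℕ}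
    (h : ¬ p ∣ charDegree θ) :
    ∃ χ, IsIrrCharacter G χ ∧ classInner θ χ ≠ 0 ∧ ¬ p ∣ charDegree χ := by
  by_contra hcon
  push Not at hcon
  obtain ⟨n, hn⟩ := hθ.exists_eq_sum_nat
  have h1 : charDegree θ = ∑ ψ : IrrCharacter G, n ψ * charDegree (ψ : G → ℂ) := by
    refine charDegree_eq_of_apply_one ?_
    rw [hn, Finset.sum_apply, Nat.cast_sum]
    exact Finset.sum_congr rfl fun ψ _ => by rw [Pi.smul_apply, ψ.2.apply_one_eq]; simp
  refine h (h1 ▸ Finset.dvd_sum fun ψ _ => ?_)
  by_cases h0 : n ψ = 0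
  · simp [h0]
  · refine Dvd.dvd.mul_left (hcon _ ψ.2 ?_) _
    rw [hn, classInner_sum_smul_irr]
    exact_mod_cast h0

/-- Relative form of Thompson's theorem on normal complements. -/
theorem exists_complement_of_rel (N : Subgroup G) [N.Normal] {p : ℕ} [hp : Fact p.Prime]
    (h : ∀ χ, IsIrrCharacter G χ → (∃ x ∈ ⁅N, N⁆, χ x ≠ χ 1) → p ∣ charDegree χ) :
    ∃ M : Subgroup N, ∃ _ : M.Normal, (Nat.card M).Coprime p ∧ IsPGroup p (N ⧸ M) := by
  obtain ⟨P⟩ : Nonempty (Sylow p G) := inferInstance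
  haveI := Fintype.ofFinite G
  set T := N ⊔ (P : Subgroup G) with hT
  haveI := Fintype.ofFinite T
  haveI := Fintype.ofFinite (N.subgroupOf T)
  have hc : _root_.commutator (N.subgroupOf T) ≤
      (⁅N, N⁆ : Subgroup G).comap (T.subtype.comp (N.subgroupOf T).subtype) := by
    rw [_root_.commutator_def, commutator_le]
    intro a _ b _
    rw [mem_comap, map_commutatorElement]
    exact commutator_mem_commutator a.2 b.2
  obtain ⟨M, _, h1, h2⟩ := exists_complement_of_cd (G := T) (p := p) fun n hn hn1 => by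
    obtain ⟨η, hη, rfl⟩ := mem_cd'.1 hn
    by_contra hd
    by_cases hx : ∀ x : T, (x : G) ∈ ⁅N, N⁆ → η x = η 1
    · obtain ⟨θ, hθ, hne⟩ := exists_irr_below (N.subgroupOf T) hη
      obtain ⟨k, hk, e⟩ := exists_charDegree_eq_mul _ hη hθ hne
      have h3 : θ 1 = 1 := apply_one_of_commutator_le_ker hθ fun x hx' =>
        (hη.isCharacter.restrict _).apply_eq_of_constituent hθ hne (hx _ (hc hx'))
      rw [hθ.isCharacter.charDegree_eq_one_iff.2 h3, mul_one] at e
      obtain ⟨j, hj⟩ := P.isPGroup'.exists_card_eq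
      have h4 : k ∣ p ^ j := by
        rw [← hj]
        refine hk.trans ?_
        change N.relIndex (N ⊔ P) ∣ _
        rw [relIndex_sup_left]
        exact index_dvd_card _
      obtain ⟨i, -, hi⟩ := (Nat.dvd_prime_pow hp.out).1 h4
      rcases i with _ | i
      · exact hn1 (by rw [e, hi, pow_zero])
      · exact hd (by rw [e, hi]; exact dvd_pow_self p (Nat.succ_ne_zero i))
    · push Not at hx
      obtain ⟨x, hx, hx'⟩ := hx
      obtain ⟨χ, hχ, hne, h3⟩ := exists_constituent_not_dvd (isCharacter_indFun T hη.isCharacter)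
        (p := p) (by
          rw [charDegree_eq_of_apply_one (n := T.index * charDegree η)
            (by rw [indFun_one, hη.apply_one_eq, Nat.cast_mul])]
          exact fun h4 => ((Nat.Prime.dvd_mul hp.out).1 h4).elim
            (fun h5 => P.not_dvd_index (h5.trans (index_dvd_of_le le_sup_right))) hd)
      rw [frobenius_reciprocity T η hχ.isClassFunction, Ne, classInner_eq_zero_comm] at hne
      exact h3 (h χ hχ ⟨x, hx, fun e => hx'
        ((hχ.isCharacter.restrict T).apply_eq_of_constituent hη hne e)⟩)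
  let ι : N →* T := inclusion le_sup_left
  refine ⟨M.comap ι, inferInstance, Nat.Coprime.coprime_dvd_left
    (card_comap_dvd_of_injective M ι (inclusion_injective _)) h1, ?_⟩
  exact h2.of_injective (QuotientGroup.map _ M ι le_rfl) (by
    rw [← MonoidHom.ker_eq_bot_iff, QuotientGroup.ker_map, Subgroup.map_eq_bot_iff,
      QuotientGroup.ker_mk'])

end

end Cfsg.Lib.CharDeg
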