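import Mathlib

/-! Linear algebra for Glauberman's characterization of the Suzuki groups. -/

set_option autoImplicit false

namespace Cfsg.Lib.CharDeg.Pair

open Finset Submodule
open scoped ComplexConjugate

/-- The weighted inner product. -/
noncomputable def wip {B : Type*} [Fintype B] (w : B → ℝ) (g : B → ℂ) : (B → ℂ) →ₗ[ℂ] ℂ where
  toFun f := ∑ b, w b * (f b * conj (g b))
  map_add' f f' := by simp [add_mul, mul_add, sum_add_distrib]
  map_smul' c f := by simp [mul_sum, mul_left_comm, mul_assoc]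

theorem wip_apply {B : Type*} [Fintype B] (w : B → ℝ) (g f : B → ℂ) :
    wip w g f = ∑ b, w b * (f b * conj (g b)) := rfl

structure AlgHyp {B I : Type*} [Fintype B] [DecidableEq I] (w : B → ℝ) (o : B) (z : I → B → ℂ)
    (s : I → I) (N : ℝ) : Prop where
  hw : ∀ b, 1 ≤ w b
  wo : w o = 1
  hN : 0 < N
  hs : ∀ i, s i ≠ i
  hss : ∀ i, s (s i) = i
  hz : ∀ i b, z (s i) b = conj (z i b)
  orth : ∀ i j, wip w (z j) (z i) = if i = j then (N : ℂ) else 0
  one : ∀ i, wip w 1 (z i) = 0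
  ho : ∀ i, z i o = 1
  ne : ∀ i b, z i b ≠ 0
  mul : ∀ i j, j ≠ s i → z i * z j ∈ span ℂ (Set.range z)
  sep : ∀ b, b ≠ o → ∃ i, z i b ≠ 1

namespace AlgHyp

variable {B I : Type*} [Fintype B] [Fintype I] [DecidableEq I] {w : B → ℝ} {o : B} {z : I → B → ℂ}
  {s : I → I} {N : ℝ} (h : AlgHyp w o z s N)
include h

local notation "𝐖" => span ℂ (Set.range z)
local notation "𝐕(" k ")" => span ℂ (insert (z k * z (s k)) (Set.range z))

omit h [Fintype B] [Fintype I] [DecidableEq I] in
theorem W_le (k : I) : 𝐖 ≤ 𝐕(k) := span_mono (Set.subset_insert _ _)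

omit h [Fintype B] [Fintype I] [DecidableEq I] in
theorem zeta_mem (k : I) : z k * z (s k) ∈ 𝐕(k) := subset_span (Set.mem_insert _ _)

omit [Fintype I] in
theorem sinj {i j : I} (e : s i = s j) : i = j := by rw [← h.hss i, e, h.hss]

omit [Fintype I] in
theorem V_s (k : I) : 𝐕(s k) = 𝐕(k) := by rw [h.hss, mul_comm]

omit [Fintype I] in
theorem mulW {f : B → ℂ} (hf : f ∈ 𝐖) (j : I) : f * z j ∈ 𝐕(j) := by
  induction hf using span_induction with
  | mem x hx =>
    obtain ⟨l, rfl⟩ := hx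
    by_cases e : j = s l
    · rw [e, h.V_s]; exact zeta_mem l
    · exact W_le j (h.mul l j e)
  | zero => simp
  | add x y _ _ hx hy => rw [add_mul]; exact add_mem hx hy
  | smul a x _ hx => rw [smul_mul_assoc]; exact smul_mem _ _ hx

omit [Fintype I] in
theorem one_W {f : B → ℂ} (hf : f ∈ 𝐖) : wip w 1 f = 0 := by
  have : 𝐖 ≤ LinearMap.ker (wip w 1) := span_le.2 (by rintro _ ⟨l, rfl⟩; exact h.one l)
  exact this hf

omit [Fintype I] in
theorem N_ne : (N : ℂ) ≠ 0 := by exact_mod_cast h.hN.ne'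

omit [Fintype I] in
theorem zeta_not (l : I) : z l * z (s l) ∉ 𝐖 := fun e => by
  have h1 := h.one_W e
  have h2 := h.orth l l
  rw [if_pos rfl] at h2
  refine h.N_ne (h2.symm.trans (Eq.trans ?_ h1))
  simp [wip_apply, h.hz]

omit [Fintype I] in
theorem D_ne : wip w 1 (1 : B → ℂ) ≠ 0 := by
  have : wip w 1 (1 : B → ℂ) = ((∑ b, w b : ℝ) : ℂ) := by simp [wip_apply]
  rw [this, Complex.ofReal_ne_zero]
  exact (sum_pos (fun b _ => lt_of_lt_of_le one_pos (h.hw b)) ⟨o, mem_univ _⟩).ne'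

omit [Fintype I] in
theorem z_ne_one (i : I) : z i ≠ 1 := fun e => h.D_ne (e ▸ h.one i)

omit h [Fintype B] [Fintype I] [DecidableEq I] in
theorem V_le {l k : I} (e : z l * z (s l) ∈ 𝐕(k)) : 𝐕(l) ≤ 𝐕(k) :=
  span_le.2 (Set.insert_subset e fun _ hx => subset_span (Set.mem_insert_of_mem _ hx))

theorem two_term {i k : I} (hn : z i * z (s i) ∉ 𝐕(k)) (hk : k ≠ s i) :
    ∃ α β : ℂ, z i * z k = α • z i + β • z k := by
  have hik : i ≠ k := fun e => hn (e ▸ zeta_mem i)
  obtain ⟨c, hc⟩ := (mem_span_range_iff_exists_fun ℂ).1 (h.mul i k hk)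
  have h0 : ∀ l, l ≠ i → l ≠ k → c l = 0 := fun l hi hk' => by
    by_contra h0
    have key : ∀ j, z i * z k * z (s l) ∈ 𝐕(j) → z l * z (s l) ∈ 𝐕(j) := fun j hj => by
      rw [← hc, ← add_sum_erase _ _ (mem_univ l), add_mul, sum_mul, smul_mul_assoc] at hj
      have h2 : ∑ x ∈ univ.erase l, c x • z x * z (s l) ∈ 𝐕(j) := sum_mem fun x hx => by
        rw [smul_mul_assoc]
        exact smul_mem _ _ (W_le j (h.mul x _ fun e => (mem_erase.1 hx).1 (h.sinj e).symm))
      exact (smul_mem_iff _ h0).1 ((add_mem_cancel_right h2).1 hj)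
    have h1 := key k (by
      rw [mul_right_comm]; exact h.mulW (h.mul i _ fun e => hi (h.sinj e)) k)
    have h2 := key i (by
      rw [mul_assoc, mul_comm (z i) (z k * _)]; exact h.mulW (h.mul k _ fun e => hk' (h.sinj e)) i)
    exact hn (V_le h1 (mem_span_insert_exchange h2 (h.zeta_not l)))
  refine ⟨c i, c k, ?_⟩
  rw [← hc, ← sum_subset (subset_univ {i, k}) fun l _ hl => by
    simp only [mem_insert, mem_singleton, not_or] at hl
    rw [h0 l hl.1 hl.2, zero_smul], sum_pair hik]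

theorem zeta_mem_V (i k : I) : z i * z (s i) ∈ 𝐕(k) := by
  by_contra hn
  have hik : i ≠ k := fun e => hn (e ▸ zeta_mem i)
  have hik' : i ≠ s k := fun e => hn (by rw [← h.V_s, ← e]; exact zeta_mem i)
  obtain ⟨α, β, e⟩ := h.two_term hn fun e => hik' (by rw [e, h.hss])
  obtain ⟨α', β', e'⟩ := h.two_term (k := s k) (by rwa [h.V_s]) fun e => hik (h.sinj e).symm
  have e1 := congrFun e o
  have e2 := congrFun e' o
  have e3 := congrArg (wip w (z k)) e
  have e4 := congrArg (wip w (z (s k))) e'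
  simp only [Pi.mul_apply, Pi.add_apply, Pi.smul_apply, h.ho, smul_eq_mul, mul_one] at e1 e2
  simp only [map_add, map_smul, h.orth, if_neg hik, if_neg hik', if_true, smul_eq_mul, mul_zero,
    zero_add] at e3 e4
  have e5 : wip w (z k) (z i * z k) = wip w (z (s k)) (z i * z (s k)) := by
    simp only [wip_apply, Pi.mul_apply, h.hz, Complex.conj_conj]
    exact sum_congr rfl fun b _ => by ring
  have e6 : β = β' := mul_right_cancel₀ h.N_ne (e3.symm.trans (e5.trans e4))
  obtain ⟨b, hb⟩ : ∃ b, z k b ≠ z (s k) b := by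
    by_contra hc
    push Not at hc
    have h1 := h.orth k (s k)
    have h2 := h.orth k k
    rw [if_neg (h.hs k).symm, ← funext hc, h2, if_pos rfl] at h1
    exact h.N_ne h1
  have f1 := congrFun e b
  have f2 := congrFun e' b
  simp only [Pi.mul_apply, Pi.add_apply, Pi.smul_apply, smul_eq_mul] at f1 f2
  have f3 : z i b = β := by
    refine mul_right_cancel₀ (sub_ne_zero.2 hb) ?_
    subst e6
    linear_combination f1 - f2 + z i b * e2 - z i b * e1
  have f4 : α * β = 0 := by rw [f3] at f1; linear_combination -f1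
  rcases mul_eq_zero.1 f4 with h0 | h0
  · refine h.z_ne_one i (funext fun x => mul_right_cancel₀ (h.ne k x) ?_)
    have := congrFun e x
    simp only [Pi.mul_apply, Pi.add_apply, Pi.smul_apply, smul_eq_mul] at this
    rw [Pi.one_apply]
    linear_combination this + (z i x - z k x) * h0 - z k x * e1
  · exact h.ne i b (f3.trans h0)

theorem mul_mem_V (i k : I) {f : B → ℂ} (hf : f ∈ 𝐕(k)) : z i * f ∈ 𝐕(k) := by
  induction hf using span_induction with
  | mem x hx =>
    rcases hx with rfl | ⟨l, rfl⟩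
    · by_cases e : k = s i
      · rw [← mul_assoc, mul_right_comm]
        exact h.mulW (h.mul i _ fun e' => h.hs i (e.symm.trans (h.sinj e'))) k
      · rw [← mul_assoc, ← h.V_s]
        exact h.mulW (h.mul i k e) _
    · rw [mul_comm (z i) (z l)]
      exact V_le (h.zeta_mem_V i k) (h.mulW (subset_span ⟨l, rfl⟩) i)
  | zero => simp
  | add x y _ _ hx hy => rw [mul_add]; exact add_mem hx hy
  | smul a x _ hx => rw [mul_smul_comm]; exact smul_mem _ _ hx

theorem one_mem_V (k : I) : (1 : B → ℂ) ∈ 𝐕(k) := by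
  let L : 𝐕(k) →ₗ[ℂ] 𝐕(k) := (LinearMap.mulLeft ℂ (z k)).restrict fun f hf => h.mul_mem_V k k hf
  have hi : Function.Injective L := fun f g e => Subtype.ext (funext fun b =>
    mul_left_cancel₀ (h.ne k b) (congrFun (congrArg Subtype.val e) b))
  obtain ⟨f, hf⟩ := LinearMap.injective_iff_surjective.1 hi ⟨z k, W_le k (subset_span ⟨k, rfl⟩)⟩
  have : f.1 = 1 := funext fun b =>
    mul_left_cancel₀ (h.ne k b) ((congrFun (congrArg Subtype.val hf) b).trans (mul_one _).symm)
  exact this ▸ f.2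

theorem exists_delta (k : I) : ∃ f ∈ 𝐕(k), f o = 1 ∧ ∀ b, b ≠ o → f b = 0 := by
  classical
  suffices H : ∀ T : Finset B, ∃ f ∈ 𝐕(k), f o = 1 ∧ ∀ b ∈ T, b ≠ o → f b = 0 from
    (H univ).imp fun f hf => ⟨hf.1, hf.2.1, fun b => hf.2.2 b (mem_univ _)⟩
  intro T
  induction T using Finset.induction_on with
  | empty => exact ⟨1, h.one_mem_V k, rfl, by simp⟩
  | insert b T _ ih =>
    obtain ⟨f, h1, h2, h3⟩ := ih
    by_cases hb : b = o
    · exact ⟨f, h1, h2, fun x hx hx' => h3 x ((mem_insert.1 hx).resolve_left (hb ▸ hx')) hx'⟩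
    obtain ⟨i, hi⟩ := h.sep b hb
    refine ⟨(1 - z i b)⁻¹ • (z i * f - z i b • f),
      smul_mem _ _ (sub_mem (h.mul_mem_V i k h1) (smul_mem _ _ h1)), ?_, fun x hx hx' => ?_⟩
    · simp [h.ho, h2, sub_ne_zero.2 hi.symm]
    · rcases mem_insert.1 hx with rfl | hx
      · simp
      · simp [h3 x hx hx']

theorem le_two_mul (k : I) : N ≤ 2 * Fintype.card I := by
  classical
  obtain ⟨f, h1, h2, h3⟩ := h.exists_delta k
  have h4 : z k * z (s k) ∈ span ℂ (insert (1 : B → ℂ) (Set.range z)) :=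
    mem_span_insert_exchange (h.one_mem_V k) fun e => h.D_ne (h.one_W e)
  have h5 : f ∈ span ℂ (insert (1 : B → ℂ) (Set.range z)) :=
    span_le.2 (Set.insert_subset h4 fun _ hx => subset_span (Set.mem_insert_of_mem _ hx)) h1
  obtain ⟨a, g, hg, e⟩ := mem_span_insert.1 h5
  obtain ⟨c, rfl⟩ := (mem_span_range_iff_exists_fun ℂ).1 hg
  have hf : ∀ g : B → ℂ, g o = 1 → wip w g f = 1 := fun g hg => by
    rw [wip_apply, sum_eq_single o (fun b _ hb => by simp [h3 b hb]) (by simp)]
    simp [h.wo, h2, hg]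
  have e1 := hf 1 rfl
  rw [e, map_add, h.one_W hg, map_smul, add_zero, smul_eq_mul] at e1
  have e2 : ∀ l, c l * N = 1 := fun l => by
    have e3 := hf (z l) (h.ho l)
    have e4 : wip w (z l) 1 = 0 := by
      have := congrArg conj (h.one l)
      simpa [wip_apply, map_sum] using this
    rw [e, map_add, map_smul, e4, map_sum] at e3
    simpa [h.orth] using e3
  have e3 := congrFun e o
  simp only [h2, Pi.add_apply, Pi.smul_apply, Pi.one_apply, Finset.sum_apply, h.ho, smul_eq_mul,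
    mul_one] at e3
  have e4 : (N : ℂ) = a * N + Fintype.card I := by
    conv_lhs => rw [← one_mul (N : ℂ), e3, add_mul, sum_mul]
    simp [e2]
  have hD : wip w 1 (1 : B → ℂ) = ((∑ b, w b : ℝ) : ℂ) := by simp [wip_apply]
  set D := ∑ b, w b with hDdef
  have e5 : N * D = N + Fintype.card I * D := by
    have : (N : ℂ) * D = N + Fintype.card I * D := by
      rw [hD] at e1
      linear_combination (D : ℂ) * e4 + N * e1
    exact_mod_cast this
  have hD2 : 2 ≤ D := by
    obtain ⟨b, hb⟩ : ∃ b, b ≠ o := by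
      by_contra hc
      push Not at hc
      exact h.z_ne_one k (funext fun b => by rw [hc b, h.ho]; rfl)
    have := sum_le_sum_of_subset_of_nonneg (subset_univ {b, o}) (f := w)
      fun x _ _ => zero_le_one.trans (h.hw x)
    rw [sum_pair hb] at this
    linarith [h.hw b, h.hw o]
  have := h.hN
  by_contra hc
  push Not at hc
  nlinarith

end AlgHyp

theorem cube_lt {B : Type*} (S : Finset B) {o : B} (ho : o ∈ S) (v : B → ℤ) (f : B → ℕ) {N : ℕ}
    (hN : 2 < N) (hf : ∀ b ∈ S, 0 < f b) (vo : v o = 1) (fo : f o = 1)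
    (h2 : ∑ b ∈ S, v b ^ 2 = N) (h1 : ∑ b ∈ S, f b * v b = 0)
    (h3 : ∀ b ∈ S, b ≠ o → 3 * v b ≤ f b) :
    2 * ∑ b ∈ S, (v b : ℝ) ^ 3 / f b < N := by
  classical
  obtain ⟨c, hc, hc0⟩ : ∃ c ∈ S, v c < 0 := by
    by_contra hn
    push Not at hn
    have := single_le_sum (f := fun b => (f b : ℤ) * v b)
      (fun b hb => mul_nonneg (Nat.cast_nonneg _) (hn b hb)) ho
    simp only [h1, vo, fo] at this
    omega
  have hco : c ≠ o := fun e => by rw [e, vo] at hc0; omega
  have key : ∀ b ∈ S, (v b : ℝ) ^ 3 / f b ≤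
      (v b : ℝ) ^ 2 / 3 + (if b = o then 2 / 3 else 0) - (if b = c then 1 / 3 else 0) := by
    intro b hb
    have hfb : (0 : ℝ) < f b := by exact_mod_cast hf b hb
    by_cases e : b = o
    · subst e
      rw [if_pos rfl, if_neg hco.symm, vo, fo]; norm_num
    rw [if_neg e]
    by_cases e' : b = c
    · subst e'
      have h4 : (v b : ℝ) ≤ -1 := by exact_mod_cast (show v b ≤ -1 by omega)
      have h5 : (v b : ℝ) ^ 3 / f b ≤ 0 :=
        div_nonpos_of_nonpos_of_nonneg (Odd.pow_nonpos (by decide) (by linarith)) hfb.le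
      rw [if_pos rfl]
      nlinarith
    · have h4 : 3 * (v b : ℝ) ≤ f b := by exact_mod_cast h3 b hb e
      rw [if_neg e', add_zero, sub_zero, div_le_div_iff₀ hfb (by norm_num)]
      nlinarith [sq_nonneg (v b : ℝ)]
  have h4 := sum_le_sum key
  have h5 : ∑ b ∈ S, (v b : ℝ) ^ 2 = N := by exact_mod_cast h2
  have h6 : (2 : ℝ) < N := by exact_mod_cast hN
  rw [sum_sub_distrib, sum_add_distrib, ← sum_div, h5, sum_ite_eq', sum_ite_eq', if_pos ho,
    if_pos hc] at h4
  linarith

end Cfsg.Lib.CharDeg.Pair
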