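import Cfsg.Agent.Lib.Modular.RankTwo
import Cfsg.Agent.Lib.Core.PSolvable
import Cfsg.Agent.Lib.Inv.Basic

/-! Group theoretic part of Glauberman's characterization of the Suzuki groups. -/

set_option autoImplicit false

namespace Cfsg.Lib.CharDeg.Pair

open Subgroup Cfsg.Lib.Modular Cfsg.Lib.Core Cfsg.Lib.Transfer

variable {G : Type*} [Group G] [Finite G] {p : ℕ} [hp : Fact p.Prime]

theorem pElt_of_pow {a : G} (ha : a ^ p = 1) : ∃ k : ℕ, orderOf a = p ^ k :=
  (pElt_iff_pow hp.out).2 ⟨1, by rwa [pow_one]⟩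

theorem pair_solv (hs : IsPSolvable p G) (Q : Sylow p G) {a b : G}
    (hcl : closure ({a, b} : Set G) = ⊤) (ha : a ^ p = 1) (hb : b ^ p = 1)
    (hc : ∀ x, IsConj a x ∨ IsConj b x → x ∈ (Q : Subgroup G) → ∀ y ∈ (Q : Subgroup G),
      x * y = y * x) :
    ∃ a' ∈ (Q : Subgroup G), ∃ b' ∈ (Q : Subgroup G), IsConj a a' ∧ IsConj b b' ∧
      ∀ j : ℤ, IsConj (pPart p (a * b ^ j)) (a' * b' ^ j) := by
  obtain ⟨a', ha', ea⟩ := exists_isConj_mem_sylow Q (pElt_of_pow ha)
  obtain ⟨b', hb', eb⟩ := exists_isConj_mem_sylow Q (pElt_of_pow hb)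
  let π := QuotientGroup.mk' (pPrimeCore p G)
  have hπ : Function.Surjective π := QuotientGroup.mk'_surjective _
  have h1 : pCore p (G ⧸ pPrimeCore p G) ≤ (Q : Subgroup G).map π :=
    (pCore_isPGroup p _).le_sylow_of_normal (Q.mapSurjective hπ)
  have h2 := centralizer_pCore_le_of_isPSolvable (isPSolvable_quotient hs _)
    (pPrimeCore_quotient_pPrimeCore p G)
  have h3 : ∀ x x', IsConj a x' ∨ IsConj b x' → x' ∈ (Q : Subgroup G) → IsConj x x' →
      π x ∈ pCore p (G ⧸ pPrimeCore p G) := fun x x' h hx e => by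
    obtain ⟨g, rfl⟩ := isConj_iff.1 e.symm
    rw [map_mul, map_mul, map_inv]
    refine Normal.conj_mem inferInstance _ (h2 fun y hy => ?_) _
    obtain ⟨y, hy', rfl⟩ := h1 hy
    rw [← map_mul, ← map_mul, hc x' h hx y hy']
  have h4 : pCore p (G ⧸ pPrimeCore p G) = ⊤ := by
    rw [eq_top_iff, ← map_top_of_surjective π hπ, ← hcl, MonoidHom.map_closure, closure_le]
    rintro _ ⟨x, rfl | rfl, rfl⟩
    exacts [h3 _ a' (.inl ea) ha' ea, h3 _ b' (.inr eb) hb' eb]
  have h5 : ∀ x, IsConj a x ∨ IsConj b x → x ∈ (Q : Subgroup G) → ∀ g, Commute (π g) (π x) :=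
    fun x h hx g => by
      obtain ⟨y, hy, e⟩ := h1 (h4.ge (mem_top (π g)))
      rw [← e, Commute, SemiconjBy, ← map_mul, ← map_mul, hc x h hx y hy]
  have h6 : ∀ x x', IsConj a x' ∨ IsConj b x' → x' ∈ (Q : Subgroup G) → IsConj x x' →
      π x = π x' := fun x x' h hx e => by
    obtain ⟨g, rfl⟩ := isConj_iff.1 e.symm
    rw [map_mul, map_mul, map_inv, (h5 x' h hx g).eq, mul_inv_cancel_right]
  refine ⟨a', ha', b', hb', ea, eb, fun j => ?_⟩
  obtain ⟨u, hu, e⟩ := exists_isConj_mem_sylow Q (pElt_pPart hp.out (a * b ^ j))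
  refine e.trans (IsConj.refl u |>.trans ?_)
  obtain ⟨g, rfl⟩ := isConj_iff.1 e
  have h7 : π (g * pPart p (a * b ^ j) * g⁻¹) = π (a' * b' ^ j) := by
    rw [map_mul, map_mul, map_inv, map_pPart hp.out, pPart_of_pElt hp.out
      (pElt_of_mem hp.out (pCore_isPGroup p _) (h4.ge (mem_top _))), map_mul, map_mul, map_zpow,
      map_zpow, h6 a a' (.inl ea) ha' ea, h6 b b' (.inr eb) hb' eb,
      ((h5 a' (.inl ea) ha' g).mul_right ((h5 b' (.inr eb) hb' g).zpow_right j)).eq,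
      mul_inv_cancel_right]
  have h8 := (inf_pPrimeCore_eq_bot Q.isPGroup').le (mem_inf.2
    ⟨mul_mem (inv_mem hu) (mul_mem ha' (zpow_mem hb' j)), QuotientGroup.eq.1 h7⟩)
  rw [inv_mul_eq_one.1 (mem_bot.1 h8)]

/-- The hypotheses: `A` is a strongly closed elementary subgroup of `Z(P)`. -/
structure PH (P : Sylow p G) (A : Subgroup G) : Prop where
  le : A ≤ P
  cent : ∀ a ∈ A, ∀ y ∈ (P : Subgroup G), a * y = y * a
  exp : ∀ a ∈ A, a ^ p = 1
  sc : ∀ a ∈ A, ∀ x ∈ (P : Subgroup G), IsConj a x → x ∈ A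
  hb : ∀ x : G, orderOf x = p → HasNormalPComplement p (centralizer ({x} : Set G))
  hc : ∀ x y : G, orderOf x = p → orderOf y = p → IsPSolvable p (closure ({x, y} : Set G))

namespace PH

variable {P : Sylow p G} {A : Subgroup G} (h : PH P A)
include h

local notation "𝒫" => (P : Subgroup G)
local notation "𝒩" => normalizer ((P : Subgroup G) : Set G)

omit [Finite G] in
theorem ord {a : G} (ha : a ∈ A) (h1 : a ≠ 1) : orderOf a = p := orderOf_eq_prime (h.exp a ha) h1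

omit [Finite G] hp in
theorem le_cent {a : G} (ha : a ∈ A) : 𝒫 ≤ centralizer ({a} : Set G) := fun y hy =>
  mem_centralizer_singleton_iff.2 (h.cent a ha y hy).symm

theorem hb' {x : G} (hx : x ∈ 𝒫) (h1 : x ≠ 1) :
    HasNormalPComplement p (centralizer ({x} : Set G)) := by
  obtain ⟨k, hk⟩ := pElt_of_mem hp.out P.isPGroup' hx
  have hd : p ∣ orderOf x := by
    rcases k with _ | k
    · exact absurd (orderOf_eq_one_iff.1 hk) h1
    · exact hk ▸ dvd_pow_self p k.succ_ne_zero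
  refine hasNormalPComplement_of_le (fun g hg => ?_) (h.hb (x ^ (orderOf x / p))
    (orderOf_pow_orderOf_div (orderOf_pos x).ne' hd))
  exact mem_centralizer_singleton_iff.2
    ((show Commute g x from mem_centralizer_singleton_iff.1 hg).pow_right _)

theorem pair {x y : G} (hx : x ∈ A) (hy : y ∈ A) (x1 : x ≠ 1) (y1 : y ≠ 1) (g : G) :
    ∃ x' ∈ A, ∃ y' ∈ A, IsConj x x' ∧ IsConj y y' ∧
      ∀ j : ℤ, IsConj (x' * y' ^ j) (pPart p (g * x * g⁻¹ * y ^ j)) := by
  set H := closure ({g * x * g⁻¹, y} : Set G)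
  have ha : g * x * g⁻¹ ∈ H := subset_closure (by simp)
  have hb : y ∈ H := subset_closure (by simp)
  obtain ⟨Q⟩ : Nonempty (Sylow p H) := inferInstance
  obtain ⟨k, hk⟩ := Inv.exists_conj_mem_sylow P (Q.isPGroup'.map H.subtype)
  have hk' : ∀ z ∈ (Q : Subgroup H), k * z * k⁻¹ ∈ 𝒫 := fun z hz => hk z ⟨z, hz, rfl⟩
  have cx : IsConj x (g * x * g⁻¹) := isConj_iff.2 ⟨g, rfl⟩
  have ck : ∀ z : G, IsConj z (k * z * k⁻¹) := fun z => isConj_iff.2 ⟨k, rfl⟩
  have hA : ∀ z : H, IsConj ⟨_, ha⟩ z ∨ IsConj ⟨_, hb⟩ z → z ∈ (Q : Subgroup H) →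
      k * z * k⁻¹ ∈ A := fun z e hz => e.elim
    (fun e => h.sc x hx _ (hk' z hz) ((cx.trans (H.subtype.map_isConj e)).trans (ck _)))
    (fun e => h.sc y hy _ (hk' z hz) ((H.subtype.map_isConj e).trans (ck _)))
  obtain ⟨a', ha', b', hb', ea, eb, e⟩ := pair_solv
    (h.hc _ _ (by rw [Modular.orderOf_conj_eq, h.ord hx x1]) (h.ord hy y1)) Q (a := ⟨_, ha⟩)
    (b := ⟨_, hb⟩) (by
      rw [← closure_closure_coe_preimage]
      congr 1
      ext z
      simp [Subtype.ext_iff])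
    (Subtype.ext (by simp [conj_pow, h.exp x hx])) (Subtype.ext (h.exp y hy))
    fun z e hz w hw => Subtype.ext ((MulAut.conj k).injective (by
      simpa only [coe_mul, map_mul, MulAut.conj_apply] using h.cent _ (hA z e hz) _ (hk' w hw)))
  refine ⟨_, hA a' (.inl ea) ha', _, hA b' (.inr eb) hb',
    (cx.trans (H.subtype.map_isConj ea)).trans (ck _), (H.subtype.map_isConj eb).trans (ck _),
    fun j => ?_⟩
  have := H.subtype.map_isConj (e j)
  rw [map_pPart hp.out] at this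
  refine IsConj.symm (this.trans (isConj_iff.2 ⟨k, ?_⟩))
  rw [conj_zpow]
  simp [mul_assoc]

omit [Finite G] hp in
theorem conj_mem {n a : G} (hn : n ∈ 𝒩) (ha : a ∈ A) : n * a * n⁻¹ ∈ A :=
  h.sc a ha _ ((mem_normalizer_iff.1 hn a).1 (h.le ha)) (isConj_iff.2 ⟨n, rfl⟩)

theorem le_normalizer : 𝒩 ≤ normalizer (A : Set G) := fun _ hn =>
  mem_normalizer_fintype fun _ ha => h.conj_mem hn ha

/-- An element of `N(P)` centralizing a nonidentity element of `P` centralizes `A`. -/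
theorem fpf {n y : G} (hn : n ∈ 𝒩) (hy : y ∈ 𝒫) (h1 : y ≠ 1) (e : n * y = y * n) :
    n ∈ centralizer (A : Set G) := by
  rw [← pPart_mul_regPart p n]
  refine mul_mem (fun a ha => h.cent a ha _ (pPart_mem_sylow_of_mem_normalizer P hn)) ?_
  exact hasNormalPComplement_subgroup_iff.1 (h.hb' hy h1) A
    (fun a ha => mem_centralizer_singleton_iff.2 (h.cent a ha y hy)) (P.isPGroup'.to_le h.le) _
    (regPart_mem p (mem_centralizer_singleton_iff.2 e)) (regPart_mem p (h.le_normalizer hn))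
    (coprime_iff_not_dvd.2 (not_dvd_orderOf_regPart hp.out n))

theorem burn {x y : G} (hx : x ∈ A) (hy : y ∈ A) (e : IsConj x y) :
    ∃ n ∈ 𝒩, n * x * n⁻¹ = y := by
  obtain ⟨g, rfl⟩ := isConj_iff.1 e
  obtain ⟨n, hn, e⟩ := P.conj_eq_normalizer_conj_of_mem_centralizer x g⁻¹
    (fun z hz => (h.cent x hx z hz).symm) fun z hz => by
      rw [inv_inv]; exact (h.cent _ hy z hz).symm
  exact ⟨n⁻¹, inv_mem hn, by simpa using e.symm⟩

theorem comm_of_real (h2 : p ≠ 2) {x : G} (hx : x ∈ A) (h1 : x ≠ 1) (e : IsConj x x⁻¹) :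
    IsMulCommutative 𝒫 ∧ ∃ t ∈ 𝒩, t ∉ centralizer (𝒫 : Set G) := by
  obtain ⟨n, hn, e⟩ := h.burn hx (inv_mem hx) e
  set t := regPart p n
  have ht : t ∈ 𝒩 := regPart_mem p hn
  have e1 : t * x * t⁻¹ = x⁻¹ := by
    rw [← regPart_mul_pPart p n, mul_assoc _ _ x,
      ← h.cent x hx _ (pPart_mem_sylow_of_mem_normalizer P hn)] at e
    simpa [mul_assoc] using e
  have hne : t * x ≠ x * t := fun e => by
    rw [e, mul_inv_cancel_right, eq_inv_iff_mul_eq_one, ← sq, ← orderOf_dvd_iff_pow_eq_one,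
      h.ord hx h1] at e1
    exact h2 ((Nat.prime_dvd_prime_iff_eq hp.out Nat.prime_two).1 e1)
  have e2 : t ^ 2 ∈ centralizer (𝒫 : Set G) :=
    hasNormalPComplement_subgroup_iff.1 (h.hb' (h.le hx) h1) _ (h.le_cent hx) P.isPGroup' _
      (mem_centralizer_singleton_iff.2 (by
        rw [← mul_inv_eq_iff_eq_mul]
        calc t ^ 2 * x * (t ^ 2)⁻¹ = t * (t * x * t⁻¹) * t⁻¹ := by simp [sq, mul_assoc]
          _ = t * x⁻¹ * t⁻¹ := by rw [e1]
          _ = (t * x * t⁻¹)⁻¹ := by group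
          _ = x := by rw [e1, inv_inv]))
      (pow_mem ht 2) (coprime_iff_not_dvd.2
        (not_dvd_orderOf_pow (not_dvd_orderOf_regPart hp.out n) 2))
  refine ⟨⟨⟨fun a b => ?_⟩⟩, t, ht, fun hc => hne (hc x (h.le hx)).symm⟩
  refine MonoidHom.FixedPointFree.commute_all_of_involutive
    (φ := (𝒫).normalizerMonoidHom ⟨t, ht⟩) (fun y hy => ?_) (fun y => Subtype.ext ?_) a b
  · by_contra y1
    exact hne (h.fpf ht y.2 (fun e => y1 (Subtype.ext e))
      (mul_inv_eq_iff_eq_mul.1 (congrArg Subtype.val hy)) x hx).symm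
  · change t * (t * y * t⁻¹) * t⁻¹ = y
    calc t * (t * y * t⁻¹) * t⁻¹ = t ^ 2 * y * (t ^ 2)⁻¹ := by simp [sq, mul_assoc]
      _ = y := by rw [← e2 y y.2, mul_inv_cancel_right]

theorem sub (L : Subgroup G) [L.Normal] :
    ∃ Q : Sylow p L, (Q : Subgroup L) = (𝒫).subgroupOf L ∧ PH Q (A.subgroupOf L) := by
  obtain ⟨Q, hQ⟩ : ∃ Q : Sylow p L, (Q : Subgroup L) = (𝒫).subgroupOf L :=
    exists_sylow_of_not_dvd_relIndex P.isPGroup' (sylow_not_dvd_relIndex_normal P L)
  refine ⟨Q, hQ, fun a ha => hQ ▸ h.le ha, fun a ha y hy => Subtype.ext (h.cent a ha y (hQ.le hy)),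
    fun a ha => Subtype.ext (h.exp a ha),
    fun a ha x hx e => h.sc a ha x (hQ.le hx) (L.subtype.map_isConj e), fun x hx => ?_,
    fun x y hx hy => ?_⟩
  · refine hasNormalPComplement_of_injective (h.hb x (by rwa [orderOf_coe]))
      ((L.subtype.comp (Subgroup.subtype _)).codRestrict _ fun g => mem_centralizer_singleton_iff.2
        (congrArg Subtype.val (mem_centralizer_singleton_iff.1 g.2))) fun a b e => ?_
    exact Subtype.ext (Subtype.ext (congrArg Subtype.val e :))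
  · refine isPSolvable_of_injective (h.hc x y (by rwa [orderOf_coe]) (by rwa [orderOf_coe]))
      ((L.subtype.comp (Subgroup.subtype _)).codRestrict _ fun g => ?_) fun a b e => ?_
    · have := mem_map_of_mem L.subtype g.2
      rwa [MonoidHom.map_closure, Set.image_pair] at this
    · exact Subtype.ext (Subtype.ext (congrArg Subtype.val e :))

end PH

end Cfsg.Lib.CharDeg.Pair
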