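import Cfsg.Agent.Lib.CharDeg.PairAlg
import Cfsg.Agent.Lib.CharDeg.PairGrp
import Cfsg.Agent.Lib.Modular.AbFrob
import Cfsg.Agent.Lib.Block.Principal

/-! Character theoretic part of Glauberman's characterization of the Suzuki groups. -/

set_option autoImplicit false

namespace Cfsg.Lib.CharDeg.Pair

open Subgroup Finset Cfsg.Lib.Modular Cfsg.Lib.Core Cfsg.Lib.Transfer Cfsg.Lib.Char Cfsg.Lib.Block
open scoped ComplexConjugate Classical IsMulCommutative

theorem off_one {Q : Type*} [Group Q] [Fintype Q] {f g θ : Q → ℂ} (h : ∀ y, y ≠ 1 → f y = g y)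
    (hθ : θ 1 = 1) :
    Nat.card Q * classInner f θ = Nat.card Q * classInner g θ + (f 1 - g 1) := by
  rw [card_mul_classInner, card_mul_classInner, ← sub_eq_iff_eq_add', ← sum_sub_distrib,
    sum_eq_single 1 (fun y _ hy => by rw [h y hy, sub_self]) (by simp), hθ, map_one, mul_one,
    mul_one]

theorem isConj_inv' {G : Type*} [Group G] {a b : G} (e : IsConj a b) : IsConj a⁻¹ b⁻¹ := by
  obtain ⟨c, rfl⟩ := isConj_iff.1 e
  exact isConj_iff.2 ⟨c, by group⟩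

theorem arith {m N t n f e w c : ℤ} (h1 : 2 ≤ m) (h2 : N = (m + 1) * t) (h3 : m + 1 ≤ t)
    (h4 : N * n = f - e) (h5 : -m ≤ e ∧ e ≤ m) (h6 : 0 ≤ n) (h7 : f = w + c * (m + 1)) (h8 : 1 ≤ c)
    (h9 : w ^ 2 + 1 ≤ N) (h10 : 0 ≤ f) : 3 * w ≤ f := by
  rcases h6.eq_or_lt with rfl | hn
  · nlinarith
  have e1 : (m + 1) ^ 2 ≤ N := by nlinarith
  have e2 : N - m ≤ f := by nlinarith
  rcases h1.eq_or_lt with rfl | hm
  · by_contra hc
    have : t ≤ w := by omega
    nlinarith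
  · nlinarith [sq_nonneg (w - 3)]

variable {G : Type*} [Group G] [Finite G]

theorem const_on {Q : Subgroup G} [IsMulCommutative Q] (hQ : Q ≠ ⊥) {χ : G → ℂ}
    (hχ : IsCharacter G χ) {v : ℂ} (hv : ∀ y ∈ Q, y ≠ 1 → χ y = v) :
    ∃ (k : ℤ) (c : ℕ), v = k ∧ χ 1 = k + c * Nat.card Q := by
  have := Fintype.ofFinite Q
  have : Nontrivial (Q →* ℂˣ) := Finite.one_lt_card_iff_nontrivial.1 (by
    rw [card_lin]; exact (one_lt_card_iff_ne_bot Q).2 hQ)
  obtain ⟨ψ, hψ⟩ := exists_ne (1 : Q →* ℂˣ)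
  obtain ⟨c, hc⟩ := (hχ.restrict Q).exists_inner_eq_nat (isIrrCharacter_lf ψ).isCharacter
  obtain ⟨n, hn⟩ := (hχ.restrict Q).exists_inner_eq_nat (isIrrCharacter_lf 1).isCharacter
  have h0 : ∀ y : Q, y ≠ 1 → χ y = (v • lf (1 : Q →* ℂˣ)) y := fun y hy => by
    simpa using hv y y.2 fun e => hy (Subtype.ext e)
  have h1 := off_one (θ := lf ψ) h0 (by simp)
  have h2 := off_one (θ := lf 1) h0 (by simp)
  rw [classInner_smul_left, classInner_lf] at h1 h2
  rw [hc, if_neg hψ.symm] at h1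
  rw [hn, if_pos rfl] at h2
  simp only [OneMemClass.coe_one, Pi.smul_apply, lf_apply, map_one, Units.val_one, smul_eq_mul,
    mul_one, mul_zero, zero_add] at h1 h2
  have h3 : v = n - c := mul_left_cancel₀ (card_ne_zero_complex Q) (by linear_combination h1 - h2)
  exact ⟨n - c, c, by push_cast; exact h3, by push_cast; linear_combination -h1 + h3⟩

variable {p : ℕ} [hp : Fact p.Prime] {M : Ideal AlgInt} [hM : Modular p M] {P : Sylow p G}
  {A : Subgroup G}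

local notation "𝒫" => (P : Subgroup G)
local notation "𝒩" => normalizer ((P : Subgroup G) : Set G)
local notation "𝒞" => centralizer ((P : Subgroup G) : Set G)

omit hp in
theorem ncard_orb {m : ℕ} (h : AbFrob 𝒫 m) {y : G} (hy : y ∈ 𝒫) (h1 : y ≠ 1) :
    {z | ∃ n ∈ 𝒩, n * y * n⁻¹ = z}.ncard = m := by
  letI : MulAction 𝒩 G := MulAction.compHom G ((MulAut.conj (G := G)).comp (𝒩).subtype)
  have e1 : MulAction.orbit 𝒩 y = {z | ∃ n ∈ 𝒩, n * y * n⁻¹ = z} := by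
    ext z
    exact ⟨fun ⟨n, e⟩ => ⟨n, n.2, e⟩, fun ⟨n, hn, e⟩ => ⟨⟨n, hn⟩, e⟩⟩
  have e2 : MulAction.stabilizer 𝒩 y = (𝒞).subgroupOf 𝒩 := by
    ext n
    rw [mem_subgroupOf, ← h.frob y hy h1, Subgroup.mem_inf, mem_centralizer_singleton_iff,
      ← mul_inv_eq_iff_eq_mul, and_iff_left n.2]
    rfl
  rw [← e1, ← MulAction.index_stabilizer, e2, ← h.idx, relIndex]

omit hp hM in
theorem eq_irrOne (hL : normalClosure (A : Set G) = ⊤) {χ : IrrCharacter G}
    (e : ∀ a ∈ A, a ≠ 1 → (χ : G → ℂ) a = (χ : G → ℂ) 1) : χ = irrOne G := by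
  have := χ.2.isCharacter.charKer_normal
  have h1 : normalClosure (A : Set G) ≤ charKer (χ : G → ℂ) := normalClosure_le_normal
    fun a ha => χ.2.isCharacter.mem_charKer_iff.2 (by
      by_cases h : a = 1
      exacts [by rw [h], e a ha h])
  exact eq_irrOne_of_forall_apply_eq χ fun g =>
    χ.2.isCharacter.mem_charKer_iff.1 (h1 (hL.ge (mem_top g)))

namespace PH

variable (h : PH P A)
include h

theorem apply_eq {χ : IrrCharacter G} (hχ : χ ∈ principalBlock M G) {u w : G} (hu : u ∈ A)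
    (u1 : u ≠ 1) (e : IsConj u (pPart p w)) : (χ : G → ℂ) w = (χ : G → ℂ) u :=
  principal_apply_of_isConj_pPart hM.out (pElt_of_pow (h.exp u hu)) (h.hb' (h.le hu) u1) hχ e

variable (M) in
theorem orth {x u w : G} (hx : x ∈ A) (x1 : x ≠ 1) (e : IsConj u (pPart p w)) :
    ∑ χ with χ ∈ principalBlock M G, (χ : G → ℂ) w * conj ((χ : G → ℂ) x) =
      if IsConj u x then (Nat.card 𝒫 : ℂ) else 0 := by
  have hx' := pElt_of_pow (h.exp x hx)
  split_ifs with hc
  · have e' := congrArg (fun r : ℝ => (r : ℂ))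
      (sum_principal_norm_sq hM.out hx' x1 (h.hb' (h.le hx) x1))
    rw [pow_factorization_card_of_sylow_le P (h.le_cent hx)] at e'
    push_cast at e'
    rw [← e']
    exact sum_congr rfl fun χ hχ => by
      rw [h.apply_eq (mem_filter.1 hχ).2 hx x1 (hc.symm.trans e), Complex.mul_conj']
  · refine sum_mul_conj_eq_zero (p := p) Block.isPBlock_principalBlock.fblk_mem_SG ?_
    rw [pPart_of_pElt hp.out hx']
    exact fun h' => hc (e.trans h')

variable (M) in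
theorem orth' {x y : G} (hx : x ∈ A) (x1 : x ≠ 1) (hy : y ∈ A) :
    ∑ χ with χ ∈ principalBlock M G, (χ : G → ℂ) y * conj ((χ : G → ℂ) x) =
      if IsConj y x then (Nat.card 𝒫 : ℂ) else 0 :=
  h.orth M hx x1 (by rw [pPart_of_pElt hp.out (pElt_of_pow (h.exp y hy))])

variable (M) in
theorem avg [Fintype G] {x y : G} (hx : x ∈ A) (hy : y ∈ A) (x1 : x ≠ 1) (y1 : y ≠ 1)
    (hn : ¬ IsConj y x⁻¹) : ∃ u : G → G, (∀ g, u g ∈ A ∧ u g ≠ 1) ∧
      ∀ χ ∈ principalBlock M G, ∑ g, (χ : G → ℂ) (u g) =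
        Nat.card G * (χ : G → ℂ) x * (χ : G → ℂ) y / (χ : G → ℂ) 1 := by
  choose x' hx' y' hy' ex ey e using h.pair hx hy x1 y1
  have h1 : ∀ g, x' g * y' g ≠ 1 := fun g e1 => hn ((ey g).trans (by
    rw [eq_inv_of_mul_eq_one_right e1]; exact (isConj_inv' (ex g)).symm))
  refine ⟨fun g => x' g * y' g, fun g => ⟨mul_mem (hx' g) (hy' g), h1 g⟩, fun χ hχ => ?_⟩
  rw [← χ.2.sum_conj_mul]
  exact sum_congr rfl fun g _ =>
    (h.apply_eq hχ (mul_mem (hx' g) (hy' g)) (h1 g) (by simpa using e g 1)).symm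

theorem caseII [Fintype G] (hL : normalClosure (A : Set G) = ⊤) (hA : A ≠ ⊥)
    (hr : ∀ x ∈ A, x ≠ 1 → ¬ IsConj x x⁻¹) :
    Nat.card 𝒫 ≤ 2 * #((univ.filter fun a : G => a ∈ A ∧ a ≠ 1).image ConjClasses.mk) := by
  obtain ⟨M, hM⟩ := exists_isPModular hp.out
  have : Modular p M := ⟨hM⟩
  set S := (univ.filter fun a : G => a ∈ A ∧ a ≠ 1).image ConjClasses.mk
  set B := univ.filter (· ∈ principalBlock M G) with hB
  have hrep : ∀ i : S, ∃ a, (a ∈ A ∧ a ≠ 1) ∧ ConjClasses.mk a = i := fun i =>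
    (mem_image.1 i.2).imp fun _ h => ⟨by simpa using h.1, h.2⟩
  choose rep hrep1 hrep2 using hrep
  let cl : ∀ a : G, a ∈ A ∧ a ≠ 1 → S := fun a ha =>
    ⟨ConjClasses.mk a, mem_image_of_mem _ (mem_filter.2 ⟨mem_univ _, ha⟩)⟩
  have hcl : ∀ a ha (i : S), i = cl a ha ↔ IsConj (rep i) a := fun a ha i => by
    rw [Subtype.ext_iff, ← hrep2, ConjClasses.mk_eq_mk_iff_isConj]
  have hinv : ∀ i, (rep i)⁻¹ ∈ A ∧ (rep i)⁻¹ ≠ 1 := fun i =>
    ⟨inv_mem (hrep1 i).1, inv_ne_one.2 (hrep1 i).2⟩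
  let z : S → B → ℂ := fun i χ => (χ.1 : G → ℂ) (rep i) / (χ.1 : G → ℂ) 1
  have hz : ∀ a ha (χ : B), z (cl a ha) χ = (χ.1 : G → ℂ) a / (χ.1 : G → ℂ) 1 := fun a ha χ => by
    simp only [z, χ.1.2.isClassFunction.eq_of_isConj ((hcl a ha _).1 rfl)]
  have hd : ∀ χ : B, (((charDegree (χ.1 : G → ℂ) : ℝ) ^ 2 : ℝ) : ℂ) =
      (χ.1 : G → ℂ) 1 * conj ((χ.1 : G → ℂ) 1) := fun χ => by
    rw [χ.1.2.isCharacter.conj_apply_one, χ.1.2.apply_one_eq]; push_cast; ring
  have hw : ∀ x y : G, wip (fun χ : B => (charDegree (χ.1 : G → ℂ) : ℝ) ^ 2)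
      (fun χ => (χ.1 : G → ℂ) x / (χ.1 : G → ℂ) 1) (fun χ => (χ.1 : G → ℂ) y / (χ.1 : G → ℂ) 1) =
      ∑ χ ∈ B, (χ : G → ℂ) y * conj ((χ : G → ℂ) x) := fun x y => by
    rw [wip_apply, ← sum_coe_sort B]
    refine sum_congr rfl fun χ _ => ?_
    have := χ.1.2.apply_one_ne_zero
    rw [hd, map_div₀, χ.1.2.isCharacter.conj_apply_one]
    field_simp
  have H : AlgHyp (fun χ : B => (charDegree (χ.1 : G → ℂ) : ℝ) ^ 2)
      ⟨irrOne G, mem_filter.2 ⟨mem_univ _, Block.irrOne_mem_principalBlock⟩⟩ z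
      (fun i => cl _ (hinv i)) (Nat.card 𝒫) := by
    refine ⟨fun χ => one_le_pow₀ (by exact_mod_cast χ.1.2.charDegree_pos), ?_,
      by exact_mod_cast Nat.card_pos, fun i e => hr _ (hrep1 i).1 (hrep1 i).2 ((hcl _ (hinv i) _).1 e.symm),
      fun i => ((hcl _ (hinv _) _).2 ?_).symm, fun i χ => ?_, fun i j => ?_, fun i => ?_,
      fun i => by simp [z], fun i χ => div_ne_zero ?_ χ.1.2.apply_one_ne_zero, fun i j hj => ?_,
      fun χ hχ => ?_⟩
    · have := hd ⟨irrOne G, mem_filter.2 ⟨mem_univ _, Block.irrOne_mem_principalBlock⟩⟩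
      simp only [irrOne_apply, map_one, mul_one] at this
      exact_mod_cast this
    · simpa using (isConj_inv' ((hcl _ (hinv i) _).1 rfl)).symm
    · rw [hz _ (hinv i), χ.1.2.apply_inv, map_div₀, χ.1.2.isCharacter.conj_apply_one]
    · rw [hw, h.orth' M (hrep1 j).1 (hrep1 j).2 (hrep1 i).1, ← hcl _ (hrep1 j),
        ← (hcl _ (hrep1 j) j).2 (IsConj.refl _), Complex.ofReal_natCast]
      congr
    · have e := hw 1 (rep i)
      rw [show (fun χ : B => (χ.1 : G → ℂ) 1 / (χ.1 : G → ℂ) 1) = 1 from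
        funext fun χ => div_self χ.1.2.apply_one_ne_zero] at e
      have e' := congrArg conj (h.orth' M (hrep1 i).1 (hrep1 i).2 (one_mem A))
      rw [if_neg (fun hc => (hrep1 i).2 (isConj_one_right.1 hc)), map_sum, map_zero] at e'
      rw [e, ← e']
      exact sum_congr rfl fun χ _ => by simp [mul_comm]
    · exact apply_ne_zero_of_mem_principalBlock (mem_filter.1 χ.2).2 fun hd =>
        P.not_dvd_index (hd.trans (index_dvd_of_le (h.le_cent (hrep1 i).1)))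
    · obtain ⟨u, hu, e⟩ := h.avg M (hrep1 i).1 (hrep1 j).1 (hrep1 i).2 (hrep1 j).2
        fun hc => hj ((hcl _ (hinv i) _).2 hc)
      have : z i * z j = (Nat.card G : ℂ)⁻¹ • ∑ g, z (cl _ (hu g)) := funext fun χ => by
        have := χ.1.2.apply_one_ne_zero
        have := card_ne_zero_complex G
        simp only [Pi.mul_apply, Pi.smul_apply, Finset.sum_apply, hz, ← sum_div,
          e _ (mem_filter.1 χ.2).2, smul_eq_mul]
        simp only [z]
        field_simp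
      rw [this]
      exact Submodule.smul_mem _ _ (Submodule.sum_mem _ fun g _ => Submodule.subset_span ⟨_, rfl⟩)
    · by_contra hc
      push Not at hc
      refine hχ (Subtype.ext (eq_irrOne hL fun a ha h1 => ?_))
      have := hc (cl a ⟨ha, h1⟩)
      rwa [hz _ ⟨ha, h1⟩, div_eq_one_iff_eq χ.1.2.apply_one_ne_zero] at this
  obtain ⟨⟨a, ha⟩, h1⟩ := ne_bot_iff_exists_ne_one.1 hA
  have := H.le_two_mul (cl a ⟨ha, fun e => h1 (Subtype.ext e)⟩)
  rw [Fintype.card_coe] at this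
  exact_mod_cast this

theorem normal_of_not_real (h0 : pPrimeCore p G = ⊥) (hL : normalClosure (A : Set G) = ⊤)
    (hr : ∀ x ∈ A, x ≠ 1 → ¬ IsConj x x⁻¹) : A.Normal := by
  by_cases hA : A = ⊥
  · rw [hA]; infer_instance
  have := Fintype.ofFinite G
  have h1 := h.caseII hL hA hr
  set T := univ.filter fun a : G => a ∈ A ∧ a ≠ 1
  have hT : #T + 1 = Nat.card A := by
    rw [← card_insert_of_notMem (a := 1) (by simp [T]), ← Fintype.card_coe, ← Nat.card_eq_fintype_card]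
    refine Nat.card_congr (Equiv.subtypeEquivRight fun a => ?_)
    by_cases e : a = 1 <;> simp [T, e]
  have hle := card_le_of_le h.le
  by_cases hN : 𝒩 ≤ centralizer (A : Set G)
  · obtain ⟨t, ht⟩ := card_dvd_of_le h.le
    have h2 := card_image_le (s := T) (f := ConjClasses.mk)
    have h3 : A = 𝒫 := eq_of_le_of_card_ge h.le (by
      have : t < 2 := by by_contra hc; nlinarith
      nlinarith)
    obtain ⟨N, hn, h4, h5⟩ := hasNormalPComplement_iff_exists.1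
      (hasNormalPComplement_of_normalizer_le_centralizer P (by rw [h3] at hN; exact hN))
    obtain rfl := pPrimeCore_eq_bot_iff.1 h0 N hn h4
    have h6 := pCore_eq_top_iff.2 (h5.of_equiv QuotientGroup.quotientBot)
    rw [h3, sylow_normal_iff_le_pCore, h6]
    exact le_top
  · obtain ⟨n, hn, hn'⟩ := SetLike.not_le_iff_exists.1 hN
    have h2 := mul_card_image_le_card T (f := ConjClasses.mk) 2 fun c hc => by
      obtain ⟨a, ha, rfl⟩ := mem_image.1 hc
      have ha' := (mem_filter.1 ha).2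
      refine one_lt_card.2 ⟨a, mem_filter.2 ⟨ha, rfl⟩, n * a * n⁻¹, mem_filter.2 ⟨mem_filter.2
        ⟨mem_univ _, h.conj_mem hn ha'.1, by simpa using ha'.2⟩,
        ConjClasses.mk_eq_mk_iff_isConj.2 (isConj_iff.2 ⟨n, rfl⟩).symm⟩, fun e => hn' ?_⟩
      exact h.fpf hn (h.le ha'.1) ha'.2 (mul_inv_eq_iff_eq_mul.1 e.symm)
    omega

theorem abFrob [IsMulCommutative 𝒫] : AbFrob 𝒫 ((𝒞).relIndex 𝒩) := by
  refine ⟨‹_›, rfl, fun y hy y1 => le_antisymm (fun g hg => ?_) (le_inf (fun g hg =>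
    mem_centralizer_singleton_iff.2 (hg y hy).symm) (centralizer_le_normalizer _))⟩
  rw [← pPart_mul_regPart p g]
  exact mul_mem (le_centralizer 𝒫 (pPart_mem_sylow_of_mem_normalizer P hg.2))
    (hasNormalPComplement_subgroup_iff.1 (h.hb' hy y1) _ (fun _ hx =>
      mem_centralizer_singleton_iff.2 (le_centralizer 𝒫 hy _ hx)) P.isPGroup' _
      (regPart_mem p hg.1) (regPart_mem p hg.2)
      (coprime_iff_not_dvd.2 (not_dvd_orderOf_regPart hp.out g)))

variable (M) in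
include hM in
theorem caseIa (hL : normalClosure (A : Set G) = ⊤) {m : ℕ} (hf : AbFrob 𝒫 m) (hm : m ≠ 1)
    {x y : G} (hx : x ∈ A) (hy : y ∈ A) (x1 : x ≠ 1) (y1 : y ≠ 1) : IsConj y x⁻¹ := by
  by_contra hn
  have := Fintype.ofFinite G
  have h1 : m + 1 < Nat.card 𝒫 := by
    have h2 := ncard_orb hf (h.le (inv_mem hx)) (inv_ne_one.2 x1)
    have h3 : y ∉ {z | ∃ n ∈ 𝒩, n * x⁻¹ * n⁻¹ = z} := fun ⟨n, _, e⟩ =>
      hn (isConj_iff.2 ⟨n, e⟩).symm
    have h4 : (1 : G) ∉ insert y {z | ∃ n ∈ 𝒩, n * x⁻¹ * n⁻¹ = z} := by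
      rintro (e | ⟨n, -, e⟩)
      exacts [y1 e.symm, x1 (by simpa using e)]
    have h5 : insert 1 (insert y {z | ∃ n ∈ 𝒩, n * x⁻¹ * n⁻¹ = z}) ⊆ (𝒫 : Set G) := by
      rintro _ (rfl | rfl | ⟨n, hn, rfl⟩)
      exacts [one_mem _, h.le hy, h.le (h.conj_mem hn (inv_mem hx))]
    have h6 := Set.ncard_le_ncard h5 (Set.toFinite _)
    rw [Set.ncard_insert_of_notMem h4, Set.ncard_insert_of_notMem h3, h2] at h6
    exact h6
  obtain ⟨X, Y, a, d, δ, ζ, e⟩ := hf.exists_abExc (M := M) h1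
  obtain ⟨u, hu, e1⟩ := h.avg M hx hy x1 y1 hn
  have hX : X = {irrOne G} := eq_singleton_iff_unique_mem.2 ⟨e.one_mem, fun χ hχ => by
    have h2 := e1 χ ((e.mem χ).2 (.inl hχ))
    rw [sum_congr rfl fun g _ => e.valX hf hχ (h.le (hu g).1) (hu g).2, e.valX hf hχ (h.le hx) x1,
      e.valX hf hχ (h.le hy) y1, sum_const, card_univ, ← Nat.card_eq_fintype_card, nsmul_eq_mul,
      eq_div_iff χ.2.apply_one_ne_zero] at h2
    have h3 := mul_left_cancel₀ (mul_ne_zero (card_ne_zero_complex G)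
      (Int.cast_ne_zero.2 (e.a_ne_zero hf hχ))) h2
    exact eq_irrOne hL fun b hb b1 => (e.valX hf hχ (h.le hb) b1).trans h3.symm⟩
  obtain ⟨η, hη⟩ := card_pos.1 (lt_of_lt_of_le two_pos e.two_le)
  have h2 := e.norm_eq hf
  have h3 := e.regular_eq hη (not_dvd_orderOf_one hp.out)
  rw [hX, sum_singleton, e.a_one] at h2 h3
  rw [η.2.apply_one_eq, irrOne_apply] at h3
  have h4 : ((#Y : ℤ) * d - δ) * charDegree (η : G → ℂ) = -1 := by
    have : (((#Y : ℤ) * d - δ) * charDegree (η : G → ℂ) + 1 * 1 : ℤ) = 0 := by exact_mod_cast h3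
    linarith
  have h5 : (#Y : ℤ) * d - δ = -1 := by
    rcases Int.eq_one_or_neg_one_of_mul_eq_neg_one' h4 with h | h
    · omega
    · exact h.1
  have h6 : (2 : ℤ) ≤ #Y := by exact_mod_cast e.two_le
  rcases e.sign with rfl | rfl
  · obtain rfl : d = 0 := by
      rcases mul_eq_zero.1 (show (#Y : ℤ) * d = 0 by omega) with h | h
      exacts [by omega, h]
    omega
  · have h7 : d < 0 := by by_contra hc; nlinarith
    have h8 : d = -1 := by by_contra hc; nlinarith [show d ≤ -2 by omega]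
    exact e.norm (by subst h8; omega) h8

variable (M) in
theorem le_cube {x : G} (h2 : p ≠ 2) (hx : x ∈ A) (x1 : x ≠ 1)
    (hc : ∀ y ∈ A, y ≠ 1 → IsConj y x) {v : IrrCharacter G → ℤ} 
    (hv : ∀ χ : IrrCharacter G, (χ : G → ℂ) x = v χ) :
    (Nat.card 𝒫 : ℝ) ≤ 2 * ∑ χ with χ ∈ principalBlock M G,
      (v χ : ℝ) ^ 3 / charDegree (χ : G → ℂ) := by
  have := Fintype.ofFinite G
  set S := ∑ χ with χ ∈ principalBlock M G, (v χ : ℝ) ^ 3 / charDegree (χ : G → ℂ) with hS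
  choose x' hx' y' hy' ex ey e using h.pair hx hx x1 x1
  let t : G → ℝ := fun u => if u = 1 then 0 else Nat.card 𝒫
  have key : ∀ j : ℤ, x ^ j ≠ 1 → ∑ g, t (x' g * y' g ^ j) = Nat.card G * S := fun j hj => by
    have h1 : ∀ g, (t (x' g * y' g ^ j) : ℂ) = ∑ χ with χ ∈ principalBlock M G,
        (χ : G → ℂ) (g * x * g⁻¹ * x ^ j) * conj ((χ : G → ℂ) x) := fun g => by
      rw [h.orth M hx x1 (e g j)]
      by_cases e1 : x' g * y' g ^ j = 1
      · simp [t, e1, x1.symm]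
      · rw [if_pos (hc _ (mul_mem (hx' g) (zpow_mem (hy' g) j)) e1)]
        simp [t, e1]
    have h3 : ((∑ g, t (x' g * y' g ^ j) : ℝ) : ℂ) = ((Nat.card G * S : ℝ) : ℂ) := by
      push_cast [hS]
      rw [sum_congr rfl fun g _ => h1 g, sum_comm, mul_sum]
      refine sum_congr rfl fun χ _ => ?_
      rw [← sum_mul, χ.2.sum_conj_mul,
        χ.2.isClassFunction.eq_of_isConj (hc _ (zpow_mem hx j) hj), hv, χ.2.apply_one_eq,
        map_intCast]
      ring
    exact_mod_cast h3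
  have h1 := key 1 (by simpa using x1)
  have h3 := key (-1) (by simpa using x1)
  have h4 : ∀ g ∈ univ, (Nat.card 𝒫 : ℝ) ≤ t (x' g * y' g ^ (1 : ℤ)) + t (x' g * y' g ^ (-1 : ℤ)) :=
    fun g _ => by
      have h0 : (0 : ℝ) ≤ Nat.card 𝒫 := Nat.cast_nonneg _
      simp only [t]
      split_ifs with a b b
      · rw [← b, mul_right_inj, zpow_one, zpow_neg_one, eq_inv_iff_mul_eq_one, ← sq,
          ← orderOf_dvd_iff_pow_eq_one,
          h.ord (hy' g) fun e => x1 (isConj_one_left.1 (e ▸ ey g))] at a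
        exact absurd ((Nat.prime_dvd_prime_iff_eq hp.out Nat.prime_two).1 a) h2
      all_goals linarith
  have h5 := sum_le_sum h4
  rw [sum_add_distrib, h1, h3, sum_const, card_univ, ← Nat.card_eq_fintype_card, nsmul_eq_mul] at h5
  have h6 : (0 : ℝ) < Nat.card G := by exact_mod_cast Nat.card_pos
  nlinarith

variable (M) in
include hM in
theorem caseIb (h2 : p ≠ 2) (hL : normalClosure (A : Set G) = ⊤) {m : ℕ} (hf : AbFrob 𝒫 m)
    (hm : 2 ≤ m) {x : G} (hx : x ∈ A) (x1 : x ≠ 1) (hc : ∀ y ∈ A, y ≠ 1 → IsConj y x) : False := by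
  have := hf.comm
  have : IsMulCommutative A := ⟨⟨fun a b => Subtype.ext (h.cent a a.2 b (h.le b.2))⟩⟩
  have hA : A ≠ ⊥ := fun e => x1 (mem_bot.1 (e ▸ hx))
  have hP : 𝒫 ≠ ⊥ := fun e => x1 (mem_bot.1 (e ▸ h.le hx))
  have hconst : ∀ χ : IrrCharacter G, ∀ y ∈ A, y ≠ 1 → (χ : G → ℂ) y = (χ : G → ℂ) x :=
    fun χ y hy y1 => χ.2.isClassFunction.eq_of_isConj (hc y hy y1)
  choose v c hv hc' using fun χ : IrrCharacter G => const_on hA χ.2.isCharacter (hconst χ)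
  set B := univ.filter (· ∈ principalBlock M G) with hB
  have ho : irrOne G ∈ B := mem_filter.2 ⟨mem_univ _, Block.irrOne_mem_principalBlock⟩
  have vo : v (irrOne G) = 1 := by exact_mod_cast (show (v (irrOne G) : ℂ) = 1 from (hv _).symm)
  have e2 : ∑ χ ∈ B, v χ ^ 2 = Nat.card 𝒫 := by
    have := h.orth' M hx x1 hx
    simp only [hv, map_intCast, IsConj.refl, if_true, ← sq] at this
    exact_mod_cast this
  have e1 : ∑ χ ∈ B, charDegree (χ : G → ℂ) * v χ = 0 := by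
    have := h.orth' M hx x1 (one_mem A)
    rw [if_neg (fun hc => x1 (isConj_one_right.1 hc))] at this
    simp only [hv, map_intCast, fun χ : IrrCharacter G => χ.2.apply_one_eq] at this
    exact_mod_cast this
  have hcA : Nat.card A = m + 1 := by
    have h3 : (A : Set G) = insert 1 {z | ∃ n ∈ 𝒩, n * x * n⁻¹ = z} := by
      ext z
      refine ⟨fun hz => ?_, ?_⟩
      · by_cases e : z = 1
        exacts [.inl e, .inr (h.burn hx hz (hc z hz e).symm)]
      · rintro (rfl | ⟨n, hn, rfl⟩)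
        exacts [one_mem _, h.conj_mem hn hx]
    have h4 : (1 : G) ∉ {z | ∃ n ∈ 𝒩, n * x * n⁻¹ = z} := fun ⟨n, _, e⟩ => x1 (by simpa using e)
    rw [← ncard_orb hf (h.le hx) x1, ← Set.ncard_insert_of_notMem h4, ← h3]
    rfl
  have hle := card_le_of_le h.le
  have hlt : ∀ χ ∈ B, χ ≠ irrOne G → v χ ^ 2 + 1 ≤ Nat.card 𝒫 := fun χ hχ h1 => by
    have := sum_le_sum_of_subset_of_nonneg (s := {χ, irrOne G}) (t := B) (f := fun χ => v χ ^ 2)
      (by simp [insert_subset_iff, hχ, ho]) fun _ _ _ => sq_nonneg _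
    rwa [sum_pair h1, vo, e2] at this
  have hker : ∀ χ : IrrCharacter G, χ ≠ irrOne G → (charDegree (χ : G → ℂ) : ℤ) ≠ v χ :=
    fun χ h1 e => h1 (eq_irrOne hL fun y hy y1 => by
      rw [hconst χ y hy y1, hv, χ.2.apply_one_eq]; exact_mod_cast e.symm)
  have hcP : ∀ χ ∈ B, χ ≠ irrOne G → (∀ y ∈ 𝒫, y ≠ 1 → (χ : G → ℂ) y = (χ : G → ℂ) x) →
      3 * v χ ≤ charDegree (χ : G → ℂ) := fun χ hχ h1 h3 => by
    obtain ⟨k, c, e3, e4⟩ := const_on hP χ.2.isCharacter h3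
    rw [χ.2.apply_one_eq] at e4
    obtain rfl : v χ = k := by exact_mod_cast (hv χ).symm.trans e3
    have e5 : (charDegree (χ : G → ℂ) : ℤ) = v χ + c * Nat.card 𝒫 := by exact_mod_cast e4
    have e6 : c ≠ 0 := fun e => hker χ h1 (by simpa [e] using e5)
    have := hlt χ hχ h1
    have e7 : (1 : ℤ) ≤ c := by omega
    nlinarith [sq_nonneg (v χ - 1)]
  refine (h.le_cube M h2 hx x1 hc hv).not_gt (cube_lt B ho v (fun χ => charDegree (χ : G → ℂ))
    (by omega) (fun χ _ => χ.2.charDegree_pos) vo ?_ e2 e1 fun χ hχ h1 => ?_)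
  · exact_mod_cast (show (charDegree (irrOne G : G → ℂ) : ℂ) = 1 from (irrOne G).2.apply_one_eq.symm)
  by_cases hAP : A = (𝒫)
  · exact hcP χ hχ h1 fun y hy => hconst χ y (hAP ▸ hy)
  have hlt' : m + 1 < Nat.card 𝒫 := lt_of_le_of_ne (hcA ▸ hle) fun e =>
    hAP (eq_of_le_of_card_ge h.le (by omega))
  obtain ⟨X, Y, a, d, δ, ζ, e⟩ := hf.exists_abExc (M := M) hlt'
  rcases (e.mem χ).1 (mem_filter.1 hχ).2 with hX | hY
  · exact hcP χ hχ h1 fun y hy y1 => (e.valX hf hX hy y1).trans (e.valX hf hX (h.le hx) x1).symm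
  obtain ⟨ψ, hψ, rfl⟩ := e.surj χ hY
  obtain ⟨t, ht⟩ := card_dvd_of_le h.le
  have e3 : (#Y : ℤ) * m + 1 = Nat.card 𝒫 := by exact_mod_cast e.card
  have e4 : (Nat.card 𝒫 : ℤ) = (m + 1) * t := by exact_mod_cast hcA ▸ ht
  have hm' : (2 : ℤ) ≤ m := by exact_mod_cast hm
  have e5 : (m + 1 : ℤ) ≤ t := by
    have h3 : (m + 1 : ℤ) < Nat.card 𝒫 := by exact_mod_cast hlt'
    have h4 : (1 : ℤ) < t := by nlinarith
    have h5 : (t : ℤ) = 1 + m * (#Y - t) := by linarith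
    have h6 : (0 : ℤ) < #Y - t := by by_contra hc; nlinarith
    nlinarith
  have e6 : (m + 1 : ℤ) ^ 2 ≤ Nat.card 𝒫 := by nlinarith
  obtain rfl : d = 0 := by
    by_contra hd
    have h3 := e.norm_eq hf
    have h4 := e.card_le_sum hf
    have h5 : (1 : ℤ) ≤ #X := by exact_mod_cast card_pos.2 ⟨_, e.one_mem⟩
    have h6 : (m + 2 : ℤ) ≤ #Y := by by_contra hc; nlinarith
    have h7 : 1 ≤ d ^ 2 := (one_le_sq_iff_one_le_abs _).2 (Int.one_le_abs hd)
    nlinarith [sq_nonneg (d - δ)]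
  have := Fintype.ofFinite 𝒫
  have := Fintype.ofFinite (𝒫 →* ℂˣ)
  obtain ⟨n, hn⟩ := ((ζ ψ).2.isCharacter.restrict 𝒫).exists_inner_eq_nat
    (isIrrCharacter_lf 1).isCharacter
  have e7 := off_one (f := fun y : 𝒫 => (ζ ψ : G → ℂ) y) (g := (δ : ℂ) • orbSum ψ) (θ := lf 1)
    (fun y hy => by simpa using e.valY hf hψ hy) (by simp)
  have e8 : orbSum ψ 1 = m := by
    rw [orbSum_eq, Finset.sum_apply, ← hf.ncard_orbL hψ, Set.ncard_eq_toFinset_card']
    simp
  rw [hn, classInner_smul_left, classInner_eq_zero_comm.1 ((classInner_lf_orbSum 1 ψ).trans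
    (if_neg fun hc => ne_one_of_mem_orbL hc hψ rfl)), Pi.smul_apply, e8, OneMemClass.coe_one,
    (ζ ψ).2.apply_one_eq] at e7
  have e9 : (Nat.card 𝒫 : ℤ) * n = charDegree (ζ ψ : G → ℂ) - δ * m := by
    simp only [mul_zero, zero_add, smul_eq_mul] at e7
    exact_mod_cast e7
  have e10 : (charDegree (ζ ψ : G → ℂ) : ℤ) = v (ζ ψ) + c (ζ ψ) * (m + 1) := by
    have := hc' (ζ ψ)
    rw [(ζ ψ).2.apply_one_eq, hcA] at this
    exact_mod_cast this
  have e11 : (1 : ℤ) ≤ c (ζ ψ) := by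
    have : c (ζ ψ) ≠ 0 := fun e => hker _ h1 (by simpa [e] using e10)
    omega
  exact arith hm' e4 e5 e9 (by rcases e.sign with rfl | rfl <;> omega) (Nat.cast_nonneg _) e10 e11
    (hlt _ hχ h1) (Nat.cast_nonneg _)

theorem normal_of_top (h2 : p ≠ 2) (h0 : pPrimeCore p G = ⊥)
    (hL : normalClosure (A : Set G) = ⊤) : A.Normal := by
  refine h.normal_of_not_real h0 hL fun x hx x1 e => ?_
  obtain ⟨M, hM⟩ := exists_isPModular hp.out
  have : Modular p M := ⟨hM⟩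
  obtain ⟨hc, t, ht, ht'⟩ := h.comm_of_real h2 hx x1 e
  have h1 : (𝒞).relIndex 𝒩 ≠ 1 := fun e => ht' (relIndex_eq_one.1 e ht)
  have h3 : (𝒞).relIndex 𝒩 ≠ 0 := index_ne_zero_of_finite
  exact h.caseIb M h2 hL h.abFrob (by omega) hx x1 fun y hy y1 =>
    (h.caseIa M hL h.abFrob h1 hx hy x1 y1).trans e.symm

end PH

universe u

theorem PH.normal (h2 : p ≠ 2) : ∀ (n : ℕ) {G : Type u} [Group G] [Finite G] {P : Sylow p G}
    {A : Subgroup G}, Nat.card G = n → PH P A → pPrimeCore p G = ⊥ → A.Normal := by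
  intro n
  induction n using Nat.strong_induction_on with
  | _ n ih =>
  intro G _ _ P A hn h h0
  by_cases hL : normalClosure (A : Set G) = ⊤
  · exact h.normal_of_top h2 h0 hL
  set L := normalClosure (A : Set G)
  obtain ⟨Q, hQ, h'⟩ := h.sub L
  have h1 := ih _ (hn ▸ card_lt_of_ne_top hL) rfl h' (by
    rw [pPrimeCore_eq_subgroupOf_of_normal, h0, bot_subgroupOf])
  have hAL : A ≤ L := le_normalClosure
  have h3 : L ≤ normalizer (A : Set G) := (normal_subgroupOf_iff_le_normalizer hAL).1 h1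
  refine ⟨fun a ha g => ?_⟩
  obtain ⟨l, hl, e⟩ := frattini_argument (inf_le_right : (P : Subgroup G) ⊓ L ≤ L)
    (P.isPGroup'.to_le inf_le_left) (by
      rw [inf_relIndex_right]; exact sylow_not_dvd_relIndex_normal P L) (K := ⊤)
    le_normalizer_of_normal (mem_top g)
  have h4 := h.sc a ha _ ((mem_normalizer_iff.1 e a).1 ⟨h.le ha, hAL ha⟩).1
    (isConj_iff.2 ⟨_, rfl⟩)
  exact (mem_normalizer_iff.1 (h3 hl) _).2 (by simpa [mul_assoc] using h4)

end Cfsg.Lib.CharDeg.Pair
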