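import Cfsg.Agent.Lib.CharDeg.RealRep
import Cfsg.Agent.Lib.Symp.Basis

/-! Characters of indicator `-1` have fixed spaces of even dimension. -/

set_option autoImplicit false

namespace Cfsg.Lib.CharDeg

open Cfsg.Lib.Char Matrix

theorem even_inner_one_of_fs {G H : Type*} [Group G] [Fintype G] [Group H] [Fintype H]
    (f : H →* G) {χ : G → ℂ} (hχ : IsIrrCharacter G χ)
    (hν : (Nat.card G : ℂ)⁻¹ * ∑ s, χ (s * s) = -1) :
    ∃ n : ℕ, Even n ∧ classInner (fun h => χ (f h)) (fun _ => 1) = n := by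
  have hreal : ∀ g, (χ g).im = 0 := by
    rcases hχ.frobeniusSchur with ⟨-, h⟩ | ⟨h, -⟩
    · rw [h] at hν; norm_num at hν
    · exact h
  obtain ⟨n, ρ, hρ, rfl⟩ := hχ
  obtain ⟨M, hu, hM⟩ := exists_invariant_form ρ hreal
  have ht := transpose_eq_smul_of_invariant ρ hreal hM
  rw [hν, neg_one_smul] at ht
  set B : LinearMap.BilinForm ℂ (Fin n → ℂ) := Matrix.toBilin' M with hB
  have hinv : ∀ g v w, B (ρ g v) (ρ g w) = B v w := fun g v w => by
    rw [hB, toBilin'_apply', toBilin'_apply', ← LinearMap.toMatrix'_mulVec (ρ g) v,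
      ← LinearMap.toMatrix'_mulVec (ρ g) w, ← repMat_apply, mulVec_mulVec, ← vecMul_transpose,
      ← dotProduct_mulVec, mulVec_mulVec, ← mul_assoc, hM]
  have hskew : ∀ v w, B v w = - B w v := fun v w => by
    rw [hB, toBilin'_apply', toBilin'_apply', dotProduct_mulVec, ← mulVec_transpose, ht, neg_mulVec,
      neg_dotProduct, dotProduct_comm]
  have hnd : ∀ v, (∀ w, B v w = 0) → v = 0 :=
    (Matrix.nondegenerate_toBilin'_iff.2 (Matrix.nondegenerate_iff_det_ne_zero.2
      ((isUnit_iff_isUnit_det M).1 hu).ne_zero)).1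
  set σ : Representation ℂ H (Fin n → ℂ) := ρ.comp f with hσ
  have hW : ∀ v ∈ σ.invariants, (∀ w ∈ σ.invariants, B v w = 0) → v = 0 := by
    intro v hv h
    refine hnd v fun w => ?_
    have h1 := h (∑ x, σ x w) fun y => by
      rw [map_sum, ← Equiv.sum_comp (Equiv.mulLeft y) fun x => σ x w]
      exact Finset.sum_congr rfl fun x _ => by rw [Equiv.coe_mulLeft, map_mul σ]; rfl
    rw [map_sum, Finset.sum_congr rfl (g := fun _ => B v w) (fun x _ => by
      rw [← hinv (f x) v w]; exact congrArg (B · _) (hv x).symm), Finset.sum_const,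
      Finset.card_univ, nsmul_eq_mul, mul_eq_zero, Nat.cast_eq_zero] at h1
    exact h1.resolve_left Fintype.card_ne_zero
  refine ⟨_, Cfsg.Lib.Symp.even_finrank (B := B.restrict σ.invariants) (fun v => ?_)
    ⟨fun v h => Subtype.ext (hW v v.2 fun w hw => h ⟨w, hw⟩),
      fun v h => Subtype.ext (hW v v.2 fun w hw => ?_)⟩, classInner_character_one σ⟩
  · exact self_eq_neg.1 (hskew v v)
  · rw [hskew, neg_eq_zero]; exact h ⟨w, hw⟩

end Cfsg.Lib.CharDeg
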