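import Cfsg.Agent.Lib.Char.FrobSchur
import Cfsg.Agent.Lib.Char.Galois
import Cfsg.Agent.Lib.Clifford.Det

/-!
# Matrix representations, invariant bilinear forms and real representations
-/

set_option autoImplicit false

namespace Cfsg.Lib.CharDeg

open Cfsg.Lib.Char Cfsg.Lib.Clifford Matrix
open scoped ComplexConjugate ComplexOrder

section mat

variable {G k ι : Type*} [Monoid G] [CommRing k] [Fintype ι] [DecidableEq ι]

/-- The matrices of a representation on a coordinate space. -/
noncomputable def repMat (ρ : Representation k G (ι → k)) : G →* Matrix ι ι k where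
  toFun g := LinearMap.toMatrix' (ρ g)
  map_one' := by rw [map_one, Module.End.one_eq_id, LinearMap.toMatrix'_id]
  map_mul' g h := by rw [map_mul, LinearMap.toMatrix'_mul]

theorem repMat_apply (ρ : Representation k G (ι → k)) (g : G) :
    repMat ρ g = LinearMap.toMatrix' (ρ g) := rfl

/-- The representation given by a matrix homomorphism. -/
noncomputable def matRep (X : G →* Matrix ι ι k) : Representation k G (ι → k) where
  toFun g := Matrix.toLin' (X g)
  map_one' := by rw [map_one, Matrix.toLin'_one, Module.End.one_eq_id]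
  map_mul' g h := by rw [map_mul, Matrix.toLin'_mul]; rfl

theorem matRep_apply (X : G →* Matrix ι ι k) (g : G) : matRep X g = Matrix.toLin' (X g) := rfl

theorem repMat_matRep (X : G →* Matrix ι ι k) : repMat (matRep X) = X := by
  ext g : 1
  rw [repMat_apply, matRep_apply, LinearMap.toMatrix'_toLin']

theorem trace_matRep (X : G →* Matrix ι ι k) (g : G) :
    LinearMap.trace k (ι → k) (matRep X g) = (X g).trace := Matrix.trace_toLin'_eq _

theorem trace_repMat (ρ : Representation k G (ι → k)) (g : G) :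
    (repMat ρ g).trace = LinearMap.trace k (ι → k) (ρ g) := by
  rw [repMat_apply, ← Matrix.trace_toLin'_eq, Matrix.toLin'_toMatrix']

end mat

variable {G ι : Type*} [Group G] [Fintype ι] [DecidableEq ι]

theorem character_eq_trace_repMat (ρ : Representation ℂ G (ι → ℂ)) (g : G) :
    ρ.character g = (repMat ρ g).trace := (trace_repMat ρ g).symm

theorem character_matRep (X : G →* Matrix ι ι ℂ) (g : G) :
    (matRep X).character g = (X g).trace := trace_matRep X g

theorem exists_eq_smul_one_of_commute (ρ : Representation ℂ G (ι → ℂ)) [ρ.IsIrreducible]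
    {A : Matrix ι ι ℂ} (h : ∀ g, A * repMat ρ g = repMat ρ g * A) :
    ∃ c : ℂ, A = c • (1 : Matrix ι ι ℂ) := by
  obtain ⟨c, hc⟩ := exists_eq_smul_of_commute ρ (Matrix.toLin' A) fun g => by
    apply LinearMap.toMatrix'.injective
    rw [LinearMap.toMatrix'_comp, LinearMap.toMatrix'_comp, LinearMap.toMatrix'_toLin']
    exact h g
  refine ⟨c, Matrix.toLin'.injective ?_⟩
  rw [hc, map_smul, Matrix.toLin'_one]

theorem exists_isUnit_of_character_eq [Finite G] {X Y : G →* Matrix ι ι ℂ}
    (h : ∀ g, (X g).trace = (Y g).trace) :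
    ∃ M : Matrix ι ι ℂ, IsUnit M ∧ ∀ g, M * X g = Y g * M := by
  obtain ⟨e⟩ := nonempty_equiv_of_character_eq (matRep X) (matRep Y)
    (funext fun g => by rw [character_matRep, character_matRep, h])
  refine ⟨LinearMap.toMatrix' (e.toLinearEquiv : (ι → ℂ) →ₗ[ℂ] (ι → ℂ)), ?_, fun g => ?_⟩
  · rw [Matrix.isUnit_iff_isUnit_det, LinearMap.det_toMatrix']
    exact e.toLinearEquiv.isUnit_det'
  · apply Matrix.toLin'.injective
    rw [Matrix.toLin'_mul, Matrix.toLin'_mul, Matrix.toLin'_toMatrix']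
    exact LinearMap.ext fun v => equiv_apply_apply e g v

/-- The contragredient of a matrix representation. -/
def dualMat {k : Type*} [CommRing k] (X : G →* Matrix ι ι k) : G →* Matrix ι ι k where
  toFun g := (X g⁻¹)ᵀ
  map_one' := by simp
  map_mul' g h := by rw [_root_.mul_inv_rev, map_mul, transpose_mul]

theorem dualMat_apply {k : Type*} [CommRing k] (X : G →* Matrix ι ι k) (g : G) :
    dualMat X g = (X g⁻¹)ᵀ := rfl

theorem invariant_iff_dualMat {k : Type*} [CommRing k] (X : G →* Matrix ι ι k)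
    (M : Matrix ι ι k) (g : G) : (X g)ᵀ * M * X g = M ↔ M * X g = dualMat X g * M := by
  have h1 : (X g)ᵀ * (X g⁻¹)ᵀ = 1 := by rw [← transpose_mul, ← map_mul]; simp
  have h2 : (X g⁻¹)ᵀ * (X g)ᵀ = 1 := by rw [← transpose_mul, ← map_mul]; simp
  rw [dualMat_apply]
  constructor
  · intro h
    conv_rhs => rw [← h]
    rw [Matrix.mul_assoc, ← Matrix.mul_assoc, h2, Matrix.one_mul]
  · intro h
    rw [Matrix.mul_assoc, h, ← Matrix.mul_assoc, h1, Matrix.one_mul]

theorem exists_invariant_form [Finite G] (ρ : Representation ℂ G (ι → ℂ))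
    (hreal : ∀ g, (ρ.character g).im = 0) :
    ∃ M : Matrix ι ι ℂ, IsUnit M ∧ ∀ g, (repMat ρ g)ᵀ * M * repMat ρ g = M := by
  obtain ⟨M, h1, h2⟩ := exists_isUnit_of_character_eq (X := repMat ρ) (Y := dualMat (repMat ρ))
    fun g => by
      rw [dualMat_apply, trace_transpose, ← character_eq_trace_repMat, ← character_eq_trace_repMat,
        character_apply_inv, Complex.conj_eq_iff_im.2 (hreal g)]
  exact ⟨M, h1, fun g => (invariant_iff_dualMat _ _ _).2 (h2 g)⟩

theorem exists_eq_smul_of_invariant (ρ : Representation ℂ G (ι → ℂ)) [ρ.IsIrreducible]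
    {M N : Matrix ι ι ℂ} (hu : IsUnit M) (hM : ∀ g, (repMat ρ g)ᵀ * M * repMat ρ g = M)
    (hN : ∀ g, (repMat ρ g)ᵀ * N * repMat ρ g = N) : ∃ c : ℂ, N = c • M := by
  obtain ⟨M, rfl⟩ := hu
  obtain ⟨c, hc⟩ := exists_eq_smul_one_of_commute ρ (A := (↑M⁻¹ : Matrix ι ι ℂ) * N) fun g => by
    have h1 := (invariant_iff_dualMat _ _ _).1 (hM g)
    have h2 := (invariant_iff_dualMat _ _ _).1 (hN g)
    have h3 : (↑M⁻¹ : Matrix ι ι ℂ) * dualMat (repMat ρ) g = repMat ρ g * (↑M⁻¹ : Matrix ι ι ℂ) := by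
      rw [Units.inv_mul_eq_iff_eq_mul, ← mul_assoc, h1, Units.mul_inv_cancel_right]
    rw [mul_assoc, h2, ← mul_assoc, h3, mul_assoc]
  refine ⟨c, ?_⟩
  rw [Units.inv_mul_eq_iff_eq_mul] at hc
  rw [hc, mul_smul_comm, mul_one]

theorem sum_invariant [Fintype G] {k : Type*} [CommRing k] (X : G →* Matrix ι ι k)
    (B : Matrix ι ι k) (g : G) :
    (X g)ᵀ * (∑ h, (X h)ᵀ * B * X h) * X g = ∑ h, (X h)ᵀ * B * X h := by
  rw [Finset.mul_sum, Finset.sum_mul]
  refine Fintype.sum_equiv (Equiv.mulRight g) _ _ fun h => ?_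
  simp only [Equiv.coe_mulRight, map_mul, transpose_mul, Matrix.mul_assoc]

theorem transpose_eq_smul_of_invariant [Fintype G] (ρ : Representation ℂ G (ι → ℂ))
    [ρ.IsIrreducible] (hreal : ∀ g, (ρ.character g).im = 0) {M : Matrix ι ι ℂ}
    (hM : ∀ g, (repMat ρ g)ᵀ * M * repMat ρ g = M) :
    Mᵀ = ((Nat.card G : ℂ)⁻¹ * ∑ s : G, ρ.character (s * s)) • M := by
  obtain ⟨M₀, hu, h0⟩ := exists_invariant_form ρ hreal
  obtain ⟨c, rfl⟩ := exists_eq_smul_of_invariant ρ hu h0 hM
  rw [transpose_smul, smul_comm]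
  congr 1
  set X := repMat ρ
  choose a ha using fun i j : ι => exists_eq_smul_of_invariant ρ hu h0
    (sum_invariant X (Matrix.single j i 1))
  have h1 : ∑ s : G, ρ.character (s * s) = ∑ i, ∑ j, a i j * M₀ i j := by
    have e : ∀ i j, a i j * M₀ i j = ∑ s : G, X s j i * X s i j := fun i j => by
      have := congrFun (congrFun (ha i j) i) j
      rw [Matrix.smul_apply, smul_eq_mul, Matrix.sum_apply] at this
      rw [← this]
      refine Finset.sum_congr rfl fun s _ => ?_
      simp [Matrix.mul_apply, Matrix.single_apply, ite_and]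
    simp only [e, character_eq_trace_repMat, map_mul, Matrix.trace, Matrix.diag, Matrix.mul_apply]
    rw [Finset.sum_comm]
    refine Finset.sum_congr rfl fun i _ => ?_
    rw [Finset.sum_comm]
    exact Finset.sum_congr rfl fun j _ => Finset.sum_congr rfl fun s _ => mul_comm _ _
  have h2 : ∑ h, (X h)ᵀ * M₀ᵀ * X h = (Nat.card G : ℂ) • M₀ᵀ := by
    have e : ∀ h, (X h)ᵀ * M₀ᵀ * X h = M₀ᵀ := fun h => by
      conv_rhs => rw [← h0 h]
      simp only [transpose_mul, transpose_transpose, Matrix.mul_assoc, X]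
    simp [e, Nat.cast_smul_eq_nsmul]
  have h3 : M₀ᵀ = ∑ i, ∑ j, M₀ i j • Matrix.single j i (1 : ℂ) := by
    ext a b
    simp [Matrix.sum_apply, Matrix.single_apply, ite_and]
  have h4 : ∑ h, (X h)ᵀ * M₀ᵀ * X h = (∑ i, ∑ j, a i j * M₀ i j) • M₀ := by
    conv_lhs => rw [h3]
    simp only [Finset.mul_sum, Finset.sum_mul, Matrix.mul_smul, Matrix.smul_mul, Finset.sum_smul]
    rw [Finset.sum_comm]
    refine Finset.sum_congr rfl fun i _ => ?_
    rw [Finset.sum_comm]
    refine Finset.sum_congr rfl fun j _ => ?_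
    rw [← Finset.smul_sum, ha, smul_smul, mul_comm]
  rw [mul_smul, h1, ← h4, h2, smul_smul, inv_mul_cancel₀ (card_ne_zero_complex G), one_smul]

/-- Hilbert's theorem 90 for complex matrices. -/
theorem exists_isUnit_mul_map_conj {A : Matrix ι ι ℂ} (h : A * A.map conj = 1) :
    ∃ P : Matrix ι ι ℂ, IsUnit P ∧ A * P.map conj = P := by
  let f : ℝ → ℂ := fun t => -(1 + t * Complex.I) / (1 - t * Complex.I)
  have h0 : ∀ t : ℝ, (1 - t * Complex.I : ℂ) ≠ 0 := fun t ht => by
    simpa using congrArg Complex.re ht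
  have hf : Function.Injective f := fun s t hst => by
    simp only [f] at hst
    rw [div_eq_div_iff (h0 s) (h0 t)] at hst
    have := congrArg Complex.im hst
    simp at this
    linarith
  obtain ⟨_, ⟨t, rfl⟩, ht⟩ := (Set.infinite_range_of_injective hf).exists_notMem_finite
    A.finite_spectrum
  rw [spectrum.notMem_iff] at ht
  refine ⟨(1 + t * Complex.I : ℂ) • (1 : Matrix ι ι ℂ) + (1 - t * Complex.I : ℂ) • A, ?_, ?_⟩
  · have e : (1 + t * Complex.I : ℂ) • (1 : Matrix ι ι ℂ) + (1 - t * Complex.I : ℂ) • A =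
        algebraMap ℂ _ (-(1 - t * Complex.I)) * (algebraMap ℂ _ (f t) - A) := by
      rw [mul_sub, ← map_mul, Algebra.algebraMap_eq_smul_one, ← Algebra.smul_def, neg_smul,
        sub_neg_eq_add]
      congr 2
      simp only [f]
      field_simp [h0 t]
    rw [e]
    exact ((neg_ne_zero.2 (h0 t)).isUnit.map _).mul ht
  · have e : ((1 + t * Complex.I : ℂ) • (1 : Matrix ι ι ℂ) + (1 - t * Complex.I : ℂ) • A).map conj =
        (1 - t * Complex.I : ℂ) • (1 : Matrix ι ι ℂ) + (1 + t * Complex.I : ℂ) • A.map conj := by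
      ext i j
      by_cases hij : i = j <;> simp [hij, Matrix.one_apply, sub_eq_add_neg]
    rw [e, mul_add, mul_smul_comm, mul_smul_comm, h, mul_one, add_comm]

theorem exists_real_of_symm [Fintype G] (ρ : Representation ℂ G (ι → ℂ)) [ρ.IsIrreducible]
    {M : Matrix ι ι ℂ} (hu : IsUnit M) (hs : Mᵀ = M)
    (hM : ∀ g, (repMat ρ g)ᵀ * M * repMat ρ g = M) :
    ∃ Y : G →* Matrix ι ι ℝ, ∀ g, (((Y g).trace : ℝ) : ℂ) = ρ.character g := by
  classical
  have hne : Nonempty ι := by
    by_contra h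
    rw [not_nonempty_iff] at h
    exact not_nontrivial _ (nontrivial_of_isIrreducible ρ)
  set X := repMat ρ with hX
  let c : Matrix ι ι ℂ →+* Matrix ι ι ℂ := (starRingEnd ℂ).mapMatrix
  have hc : ∀ B, c B = B.map conj := fun _ => rfl
  have hcc : ∀ B, c (c B) = B := fun B => by ext i j; simp [hc]
  have hct : ∀ B : Matrix ι ι ℂ, c Bᵀ = Bᴴ := fun B => by ext i j; simp [hc]
  have hH : (∑ h, (X h)ᴴ * X h).PosDef := by
    rw [← Finset.add_sum_erase _ _ (Finset.mem_univ 1)]
    simp only [map_one, conjTranspose_one, mul_one]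
    exact PosDef.one.add_posSemidef
      (posSemidef_sum _ fun h _ => posSemidef_conjTranspose_mul_self _)
  have hHi : ∀ g, (∑ h, (X h)ᴴ * X h) * X g = (X g⁻¹)ᴴ * ∑ h, (X h)ᴴ * X h := fun g => by
    rw [Finset.mul_sum, Finset.sum_mul]
    refine Fintype.sum_equiv (Equiv.mulRight g) _ _ fun h => ?_
    rw [Equiv.coe_mulRight, ← mul_assoc, ← conjTranspose_mul, ← map_mul, mul_inv_cancel_right,
      map_mul, mul_assoc]
  obtain ⟨H, hHe⟩ := hH.isUnit
  rw [← hHe] at hH hHi
  set A := (↑H⁻¹ : Matrix ι ι ℂ) * c M with hA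
  have h1 : ∀ g, A * c (X g) = X g * A := fun g => by
    have e := congrArg c ((invariant_iff_dualMat _ _ _).1 (hM g))
    rw [map_mul, map_mul, dualMat_apply, hct] at e
    have e2 : (↑H⁻¹ : Matrix ι ι ℂ) * (X g⁻¹)ᴴ = X g * (↑H⁻¹ : Matrix ι ι ℂ) := by
      rw [Units.inv_mul_eq_iff_eq_mul, ← mul_assoc, hHi, Units.mul_inv_cancel_right]
    rw [hA, mul_assoc, e, ← mul_assoc, e2, mul_assoc]
  have h2 : ∀ g, c A * X g = c (X g) * c A := fun g => by
    have := congrArg c (h1 g)
    rwa [map_mul c A, map_mul c (X g), hcc] at this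
  obtain ⟨r, hr⟩ := exists_eq_smul_one_of_commute ρ (A := A * c A) fun g => by
    rw [mul_assoc, h2, ← mul_assoc, h1, mul_assoc]
  have hAu : IsUnit A := (Units.isUnit _).mul (hu.map c)
  have hr0 : r ≠ 0 := by
    rintro rfl
    have := hAu.mul (hAu.map c)
    rw [hr, zero_smul] at this
    exact not_isUnit_zero this
  have h3 : (H : Matrix ι ι ℂ) * A = c M := by rw [hA, Units.mul_inv_cancel_left]
  have h4 : r • (H : Matrix ι ι ℂ) = (c A)ᴴ * (H : Matrix ι ι ℂ)ᵀ * c A := by
    have e : (c M)ᵀ = c M := by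
      conv_rhs => rw [← hs]
      ext i j; simp [hc]
    have e2 : (c A)ᴴ = Aᵀ := by ext i j; simp [hc]
    rw [e2, ← transpose_mul, h3, e, ← h3, mul_assoc, hr, mul_smul_comm, mul_one]
  have h5 : 0 ≤ r * (H : Matrix ι ι ℂ).trace := by
    rw [← smul_eq_mul, ← trace_smul, h4]
    exact (hH.transpose.posSemidef.conjTranspose_mul_mul_same _).trace_nonneg
  have h6 := hH.trace_pos
  rw [Complex.pos_iff] at h6
  rw [Complex.nonneg_iff, Complex.mul_re, Complex.mul_im, ← h6.2] at h5
  have h7 : r.im = 0 := by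
    have := h5.2
    simp only [mul_zero, zero_add] at this
    exact (mul_eq_zero.1 this.symm).resolve_right h6.1.ne'
  have h8 : 0 < r.re := by
    have := h5.1
    simp only [mul_zero, sub_zero] at this
    refine lt_of_le_of_ne (nonneg_of_mul_nonneg_left this h6.1) fun h => hr0 ?_
    exact Complex.ext h.symm h7
  set s : ℂ := (((√r.re)⁻¹ : ℝ) : ℂ) with hsd
  have h9 : s * s * r = 1 := by
    have : r = (r.re : ℂ) := Complex.ext rfl (by simp [h7])
    rw [this, hsd]
    norm_cast
    rw [← mul_inv, Real.mul_self_sqrt h8.le, inv_mul_cancel₀ h8.ne']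
  have hcs : ∀ B, c (s • B) = s • c B := fun B => by ext i j; simp [hc, hsd]
  obtain ⟨P, ⟨P, rfl⟩, hP⟩ := exists_isUnit_mul_map_conj (A := s • A) (by
    rw [← hc, hcs, smul_mul_smul_comm, hr, smul_smul, h9, one_smul])
  rw [← hc] at hP
  have h10 : ∀ g, c ((↑P⁻¹ : Matrix ι ι ℂ) * X g * P) = (↑P⁻¹ : Matrix ι ι ℂ) * X g * P := by
    intro g
    have e : (P : Matrix ι ι ℂ) * c (↑P⁻¹ : Matrix ι ι ℂ) = s • A := by
      have e' := congrArg (· * c (↑P⁻¹ : Matrix ι ι ℂ)) hP
      simp only [mul_assoc, ← map_mul, Units.mul_inv, map_one, mul_one] at e'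
      exact e'.symm
    rw [mul_assoc, Units.eq_inv_mul_iff_mul_eq, map_mul, map_mul, ← mul_assoc, e,
      ← mul_assoc, smul_mul_assoc, h1, ← mul_smul_comm, mul_assoc, hP]
  have h11 : ∀ B : Matrix ι ι ℂ, c B = B → (B.map Complex.re).map Complex.ofRealHom = B := by
    intro B hB
    ext i j
    have := congrFun (congrFun hB i) j
    simpa using Complex.conj_eq_iff_re.1 this
  have hinj : Function.Injective (fun B : Matrix ι ι ℝ => B.map Complex.ofRealHom) :=
    Matrix.map_injective Complex.ofReal_injective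
  refine ⟨⟨⟨fun g => ((↑P⁻¹ : Matrix ι ι ℂ) * X g * P).map Complex.re, hinj ?_⟩,
    fun g h => hinj ?_⟩, fun g => ?_⟩
  · simp only [h11 _ (h10 1)]
    simp
  · simp only [Matrix.map_mul, h11 _ (h10 _)]
    simp [mul_assoc]
  · change Complex.ofRealHom (trace _) = _
    rw [AddMonoidHom.map_trace]
    simp only [MonoidHom.coe_mk, OneHom.coe_mk]
    rw [h11 _ (h10 g), trace_mul_comm, Units.mul_inv_cancel_left, character_eq_trace_repMat]

theorem frobeniusSchur_eq_one_iff [Fintype G] {χ : G → ℂ} (hχ : IsIrrCharacter G χ) :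
    (Nat.card G : ℂ)⁻¹ * ∑ s : G, χ (s * s) = 1 ↔
      ∃ (n : ℕ) (Y : G →* Matrix (Fin n) (Fin n) ℝ), ∀ g, (((Y g).trace : ℝ) : ℂ) = χ g := by
  constructor
  · intro h
    have hreal : ∀ g, (χ g).im = 0 := by
      rcases hχ.frobeniusSchur with ⟨-, h0⟩ | ⟨h0, -⟩
      · rw [h0] at h; exact absurd h zero_ne_one
      · exact h0
    obtain ⟨n, ρ, _, rfl⟩ := hχ
    obtain ⟨M, hu, hM⟩ := exists_invariant_form ρ hreal
    have := transpose_eq_smul_of_invariant ρ hreal hM
    rw [h, one_smul] at this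
    exact ⟨n, exists_real_of_symm ρ hu this hM⟩
  · rintro ⟨n, Y, hY⟩
    let X : G →* Matrix (Fin n) (Fin n) ℂ := Complex.ofRealHom.mapMatrix.toMonoidHom.comp Y
    have h1 : (matRep X).character = χ := funext fun g => by
      rw [character_matRep, ← hY]
      exact (AddMonoidHom.map_trace Complex.ofRealHom (Y g)).symm
    have : (matRep X).IsIrreducible := (isIrrCharacter_character_iff _).1 (h1 ▸ hχ)
    have hne : Nonempty (Fin n) := by
      by_contra h
      rw [not_nonempty_iff] at h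
      exact not_nontrivial _ (nontrivial_of_isIrreducible (matRep X))
    have h2 := transpose_eq_smul_of_invariant (matRep X) (fun g => by rw [h1, ← hY]; simp)
      (M := ∑ h, (X h)ᵀ * 1 * X h) (fun g => by rw [repMat_matRep]; exact sum_invariant X 1 g)
    have h3 : (∑ h, (X h)ᵀ * 1 * X h)ᵀ = ∑ h, (X h)ᵀ * 1 * X h := by
      simp [transpose_sum]
    have h4 : (∑ h, (X h)ᵀ * 1 * X h).PosDef := by
      classical
      rw [← Finset.add_sum_erase _ _ (Finset.mem_univ 1)]
      simp only [map_one, transpose_one, mul_one]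
      refine PosDef.one.add_posSemidef (posSemidef_sum _ fun h _ => ?_)
      have e : (X h)ᵀ = (X h)ᴴ := by ext i j; simp [X]
      rw [e]
      exact posSemidef_conjTranspose_mul_self _
    rw [h3, h1] at h2
    have h5 := congrArg trace h2
    rw [trace_smul, smul_eq_mul] at h5
    exact (mul_eq_right₀ h4.trace_pos.ne').1 h5.symm

end Cfsg.Lib.CharDeg
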