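import Cfsg.Agent.Lib.CharDeg.Cd
import Cfsg.Agent.Lib.Coprime.Nilpotent
import Cfsg.Prelude.Def_DegreeGraph

/-!
# Relative character degrees: twisting by linear characters of a normal subgroup
-/

set_option autoImplicit false

namespace Cfsg.Lib.RelGraph

open Cfsg.Lib.Char Cfsg.Lib.CharDeg Cfsg.Lib.Clifford Cfsg.Lib.Induce Subgroup
open scoped commutatorElement

variable {G : Type*} [Group G] {N : Subgroup G}

/-- The group of linear characters. -/
def Lin (N : Type*) [Group N] := N →* ℂˣ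

noncomputable instance instCommGroupLin (N : Type*) [Group N] : CommGroup (Lin N) :=
  inferInstanceAs (CommGroup (N →* ℂˣ))

/-- The underlying homomorphism. -/
def Lin.hom (a : Lin N) : N →* ℂˣ := a

/-- Evaluation. -/
noncomputable def ev (n : N) : Lin N →* ℂ where
  toFun a := a.hom n
  map_one' := rfl
  map_mul' _ _ := rfl

/-- A linear character as a function. -/
noncomputable def lin (a : Lin N) : N → ℂ := fun n => ev n a

/-- Twist by a linear character. -/
noncomputable def tw (a : Lin N) (θ : N → ℂ) : N → ℂ := fun n => ev n a * θ n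

/-- Determinant. -/
noncomputable def det (θ : N → ℂ) : Lin N := detHom θ

theorem ev_one (a : Lin N) : ev 1 a = 1 := congrArg Units.val (map_one a.hom)

theorem lin_injective {a b : Lin N} (h : lin a = lin b) : a = b :=
  MonoidHom.ext (f := a.hom) (g := b.hom) fun n => Units.ext (congrFun h n)

theorem lin_one : lin (1 : Lin N) = fun _ => 1 := rfl

theorem lin_ne_one {a : Lin N} (h : a ≠ 1) : lin a ≠ fun _ => 1 :=
  fun e => h (lin_injective (e.trans lin_one.symm))

theorem irr_lin (a : Lin N) : IsIrrCharacter N (lin a) := isIrrCharacter_hom a.hom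

theorem deg_lin (a : Lin N) : charDegree (lin a) = 1 :=
  charDegree_eq_of_apply_one (by simp [lin, ev_one])

theorem exists_eq_lin {θ : N → ℂ} (h : IsCharacter N θ) (h1 : charDegree θ = 1) :
    ∃ a : Lin N, θ = lin a := h.exists_hom_of_apply_one (h.charDegree_eq_one_iff.1 h1)

theorem tw_tw (a b : Lin N) (θ : N → ℂ) : tw a (tw b θ) = tw (a * b) θ := by
  funext n; simp [tw, mul_assoc]

theorem tw_one (θ : N → ℂ) : tw 1 θ = θ := by funext n; simp [tw]

theorem tw_lin (a b : Lin N) : tw a (lin b) = lin (a * b) := by funext n; simp [tw, lin]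

theorem tw_injective (a : Lin N) {θ φ : N → ℂ} (h : tw a θ = tw a φ) : θ = φ := by
  have := congrArg (tw a⁻¹) h
  rwa [tw_tw, tw_tw, inv_mul_cancel, tw_one, tw_one] at this

theorem irr_tw (a : Lin N) {θ : N → ℂ} (h : IsIrrCharacter N θ) : IsIrrCharacter N (tw a θ) :=
  h.hom_mul a.hom

theorem char_tw (a : Lin N) {θ : N → ℂ} (h : IsCharacter N θ) : IsCharacter N (tw a θ) :=
  (isCharacter_hom a.hom).mul h

theorem deg_tw (a : Lin N) (θ : N → ℂ) : charDegree (tw a θ) = charDegree θ :=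
  charDegree_congr (by simp [tw, ev_one])

theorem eq_one_of_coprime {A : Type*} [Monoid A] {x : A} {m n : ℕ} (h : m.Coprime n)
    (h1 : x ^ m = 1) (h2 : x ^ n = 1) : x = 1 :=
  orderOf_eq_one_iff.1 (Nat.eq_one_of_dvd_coprimes h (orderOf_dvd_of_pow_eq_one h1)
    (orderOf_dvd_of_pow_eq_one h2))

theorem lin_det (θ : N → ℂ) : lin (det θ) = detChar θ := (detChar_eq_detHom θ).symm

theorem ev_det (θ : N → ℂ) (n : N) : ev n (det θ) = detChar θ n := congrFun (lin_det θ) n

section det
variable [Finite G]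

theorem det_lin (a : Lin N) : det (lin a) = a :=
  lin_injective ((lin_det _).trans (detChar_hom a.hom))

theorem det_tw (a : Lin N) {θ : N → ℂ} (h : IsCharacter N θ) :
    det (tw a θ) = a ^ charDegree θ * det θ := by
  refine lin_injective ((lin_det _).trans ((detChar_hom_mul h h.apply_one_eq a.hom).trans ?_))
  funext n; simp only [lin, map_mul, map_pow, ev_det]; rfl

theorem det_smul {θ : N → ℂ} (h : IsCharacter N θ) (e : ℕ) : det ((e : ℂ) • θ) = det θ ^ e := by
  refine lin_injective ?_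
  rw [lin_det, detChar_natCast_smul h]; funext n; simp [lin, ev_det]

theorem det_sum {ι : Type*} (s : Finset ι) (f : ι → N → ℂ) (h : ∀ i ∈ s, IsCharacter N (f i)) :
    det (∑ i ∈ s, f i) = ∏ i ∈ s, det (f i) := by
  refine lin_injective ?_
  rw [lin_det, detChar_sum s f h]; funext n; simp [lin, ev_det]

theorem det_res (hNG : N ≤ _root_.commutator G) {χ : G → ℂ} (h : IsCharacter G χ) :
    det (fun n : N => χ n) = 1 := by
  refine lin_injective ?_
  rw [lin_det, detChar_restrict h]; funext n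
  have : (n : G) ∈ (detHom χ).ker := Abelianization.commutator_subset_ker _ (hNG n.2)
  rw [← detHom_apply, MonoidHom.mem_ker.1 this]; rfl

theorem card_lin : Nat.card (Lin N) = ⁅N, N⁆.relIndex N := by
  rw [Lin, card_hom_units, relIndex, ← map_subtype_commutator]
  congr 1
  exact (comap_map_eq_self_of_injective N.subtype_injective _).symm

theorem pow_relIndex (a : Lin N) : a ^ ⁅N, N⁆.relIndex N = 1 := by
  rw [← card_lin]; exact pow_card_eq_one'

end det

variable [hN : N.Normal]

/-- Conjugate of a linear character. -/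
noncomputable def cj (g : G) : Lin N →* Lin N where
  toFun a := a.hom.comp (MulAut.conjNormal g : MulAut N).toMonoidHom
  map_one' := rfl
  map_mul' _ _ := rfl

theorem conjChar_lin (g : G) (a : Lin N) : conjChar N g (lin a) = lin (cj g a) := rfl

theorem conjChar_tw (g : G) (a : Lin N) (θ : N → ℂ) :
    conjChar N g (tw a θ) = tw (cj g a) (conjChar N g θ) := rfl

theorem mem_inertia_lin {g : G} {a : Lin N} : g ∈ inertia N (lin a) ↔ cj g a = a := by
  rw [mem_inertia, conjChar_lin]
  exact ⟨lin_injective, fun h => by rw [h]⟩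

theorem cj_mul (g h : G) (a : Lin N) : cj (g * h) a = cj h (cj g a) :=
  lin_injective (conjChar_mul N g h (lin a))

theorem inertia_le_pow (a : Lin N) (j : ℕ) : inertia N (lin a) ≤ inertia N (lin (a ^ j)) :=
  fun g hg => mem_inertia_lin.2 (by rw [map_pow, mem_inertia_lin.1 hg])

variable [Finite G]

/-- Weiss-type lemma: the orbit of `θ` is stable under the quotients of conjugates of `a`. -/
theorem stable_of_coprime {θ : N → ℂ} {a : Lin N}
    (h1 : (inertia N θ).index.Coprime (inertia N (lin a)).index)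
    (h2 : (inertia N (tw a θ)).index.Coprime (inertia N (lin a)).index) (x g : G) :
    ∃ h, tw (a⁻¹ * cj x a) (conjChar N g θ) = conjChar N h θ := by
  obtain ⟨u, hu, k, hk, e⟩ := Coprime.exists_mul_of_coprime_index h1 (g * x⁻¹)
  obtain ⟨l, hl, k', hk', e'⟩ := Coprime.exists_mul_of_coprime_index h2 (k * x)
  have e1 : k * x = u⁻¹ * g := by rw [eq_inv_mul_iff_mul_eq, ← mul_assoc, ← e]; group
  have h3 : conjChar N (k * x) θ = conjChar N g θ := by
    rw [e1, conjChar_mul, (mem_inertia N).1 (inv_mem hu)]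
  have h4 : cj (k * x) a = cj x a := by rw [cj_mul, mem_inertia_lin.1 hk]
  have h5 : conjChar N (k * x) (tw a θ) = tw a (conjChar N k' θ) := by
    rw [e', conjChar_mul, (mem_inertia N).1 hl, conjChar_tw, mem_inertia_lin.1 hk']
  rw [conjChar_tw, h3, h4] at h5
  exact ⟨k', by rw [← tw_tw, h5, tw_tw, inv_mul_cancel, tw_one]⟩

theorem pow_eq_one_of_stable {θ : N → ℂ} (hθ : IsIrrCharacter N θ) {μ : Lin N}
    (h : ∀ g : G, ∃ h, tw μ (conjChar N g θ) = conjChar N h θ) :
    μ ^ (charDegree θ * (inertia N θ).index) = 1 := by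
  have := Fintype.ofFinite (G ⧸ inertia N θ)
  have h1 : ∀ q : G ⧸ inertia N θ, ∃ q' : G ⧸ inertia N θ,
      conjChar N q'.out⁻¹ θ = tw μ (conjChar N q.out⁻¹ θ) := fun q => by
    obtain ⟨x, hx⟩ := h q.out⁻¹
    obtain ⟨q', hq⟩ := exists_conjChar_eq_out N θ x
    exact ⟨q', hq.trans hx.symm⟩
  choose f hf using h1
  have hi : Function.Injective f := fun q q' e => conjChar_out_injective N θ
    (tw_injective μ (by beta_reduce; rw [← hf, ← hf, e]))
  have h2 := (Finite.injective_iff_bijective.1 hi).prod_comp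
    (fun q : G ⧸ inertia N θ => det (conjChar N q.out⁻¹ θ))
  have h3 : ∀ q : G ⧸ inertia N θ, det (conjChar N (f q).out⁻¹ θ) =
      μ ^ charDegree θ * det (conjChar N q.out⁻¹ θ) := fun q => by
    rw [hf, det_tw _ (isCharacter_conjChar N hθ.isCharacter _)]
    congr 2
    exact charDegree_congr (by simp [conjChar_apply]; rfl)
  simp only [h3, Finset.prod_mul_distrib, Finset.prod_const, mul_eq_right, Finset.card_univ] at h2
  rw [pow_mul, index, Nat.card_eq_fintype_card]; exact h2

theorem invariant_of_coprime {θ : N → ℂ} (hθ : IsIrrCharacter N θ) {a : Lin N}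
    (h1 : (inertia N θ).index.Coprime (inertia N (lin a)).index)
    (h2 : (inertia N (tw a θ)).index.Coprime (inertia N (lin a)).index) {n : ℕ} (hn : a ^ n = 1)
    (h3 : n.Coprime (charDegree θ * (inertia N θ).index)) (x : G) : cj x a = a := by
  have h4 : (a⁻¹ * cj x a) ^ n = 1 := by
    rw [mul_pow, inv_pow, ← map_pow, hn, map_one, inv_one, mul_one]
  exact (inv_mul_eq_one.1 (eq_one_of_coprime h3 h4
    (pow_eq_one_of_stable hθ (stable_of_coprime h1 h2 x)))).symm

theorem exists_lin {p : ℕ} (hp : p.Prime) (h : p ∣ ⁅N, N⁆.relIndex N) :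
    ∃ a : Lin N, a ≠ 1 ∧ a ^ p = 1 ∧ ¬ p ∣ (inertia N (lin a)).index := by
  have := Fact.mk hp
  have : Finite (Lin N) := finite_hom_units N
  obtain ⟨P⟩ : Nonempty (Sylow p G) := inferInstance
  let X : Subgroup (Lin N) := (powMonoidHom p).ker
  letI : MulAction P X :=
    { smul := fun g x => ⟨cj ((g : G)⁻¹) x.1, by
        have := x.2
        simp only [X, MonoidHom.mem_ker, powMonoidHom_apply] at this ⊢
        rw [← map_pow, this, map_one]⟩
      one_smul := fun x => Subtype.ext (by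
        change cj ((1 : G)⁻¹) x.1 = x.1
        rw [inv_one]; exact mem_inertia_lin.1 (one_mem _))
      mul_smul := fun g h x => Subtype.ext (by
        change cj (((g : G) * h)⁻¹) x.1 = cj ((g : G)⁻¹) (cj ((h : G)⁻¹) x.1)
        rw [mul_inv_rev, cj_mul]) }
  obtain ⟨b, hb⟩ := exists_prime_orderOf_dvd_card' (G := Lin N) p (card_lin (N := N) ▸ h)
  have hbX : b ∈ X := by
    simp only [X, MonoidHom.mem_ker, powMonoidHom_apply]; rw [← hb, pow_orderOf_eq_one]
  have hX : p ∣ Nat.card X := by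
    rw [← hb, ← orderOf_mk b hbX]; exact orderOf_dvd_natCard _
  obtain ⟨a, ha, hne⟩ := P.isPGroup'.exists_fixed_point_of_prime_dvd_card_of_fixed_point X hX
    (a := 1) (fun g => Subtype.ext (map_one (cj _)))
  refine ⟨a.1, fun e => hne (Subtype.ext e.symm), a.2, fun hd => P.not_dvd_index
    (hd.trans (index_dvd_of_le fun g hg => ?_))⟩
  have := congrArg Subtype.val (ha ⟨g⁻¹, inv_mem hg⟩)
  change cj (g⁻¹⁻¹) a.1 = a.1 at this
  rw [inv_inv] at this
  exact mem_inertia_lin.2 this

variable [Fintype N]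

/-- `χ ∈ Irr(G)` lies over `θ ∈ Irr(N)`. -/
structure Ov (χ : G → ℂ) (θ : N → ℂ) : Prop where
  irr : IsIrrCharacter G χ
  irr' : IsIrrCharacter N θ
  ne : classInner (fun n : N => χ n) θ ≠ 0

variable {χ ψ χ' : G → ℂ} {θ : N → ℂ} {a b : Lin N}

omit hN in
theorem exists_ov (hθ : IsIrrCharacter N θ) : ∃ χ : G → ℂ, Ov χ θ := by
  obtain ⟨χ, h1, h2⟩ := exists_irr_above N hθ
  exact ⟨χ, h1, hθ, h2⟩

theorem Ov.exists_deg (h : Ov χ θ) : ∃ e : ℕ, classInner (fun n : N => χ n) θ = e ∧
    charDegree χ = e * (inertia N θ).index * charDegree θ := by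
  obtain ⟨e, he⟩ := (h.irr.isCharacter.restrict N).exists_inner_eq_nat h.irr'.isCharacter
  refine ⟨e, he, ?_⟩
  have := clifford_degree N h.irr h.irr' h.ne
  rw [he, h.irr.apply_one_eq, h.irr'.apply_one_eq] at this
  exact_mod_cast this

theorem Ov.dvd (h : Ov χ θ) : charDegree θ * (inertia N θ).index ∣ charDegree χ := by
  obtain ⟨e, -, he⟩ := h.exists_deg
  exact ⟨e, by rw [he]; ring⟩

theorem Ov.index_dvd (h : Ov χ θ) : (inertia N θ).index ∣ charDegree χ :=
  (dvd_mul_left _ _).trans h.dvd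

theorem Ov.deg_dvd (h : Ov χ θ) : charDegree θ ∣ charDegree χ := (dvd_mul_right _ _).trans h.dvd

theorem Ov.mem (h : Ov χ θ) (h1 : θ ≠ fun _ => 1) : charDegree χ ∈ relCharDegrees N := by
  refine ⟨⟨χ, h.irr⟩, ?_, rfl⟩
  by_contra hc
  push Not at hc
  obtain ⟨g, hg⟩ := exists_conjChar_eq_of_constituents N h.irr isIrrCharacter_one h.irr'
    ((classInner_res_one_ne_zero_iff N h.irr).2 hc) h.ne
  exact h1 (hg.symm.trans (conjChar_const N g 1))

theorem exists_of_mem {d : ℕ} (h : d ∈ relCharDegrees N) :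
    ∃ (χ : G → ℂ) (θ : N → ℂ), Ov χ θ ∧ θ ≠ (fun _ => 1) ∧ charDegree χ = d := by
  obtain ⟨⟨χ, hχ⟩, ⟨x, hx, hne⟩, rfl⟩ := h
  obtain ⟨θ, h1, h2⟩ := exists_irr_below N hχ
  refine ⟨χ, θ, ⟨hχ, h1, h2⟩, ?_, rfl⟩
  rintro rfl
  exact hne ((classInner_res_one_ne_zero_iff N hχ).1 h2 x hx)

theorem Ov.pow_eq_one (hNG : N ≤ _root_.commutator G) (h : Ov χ (lin a)) {j : ℕ}
    (hj : ∀ g : G, cj g (a ^ j) = a ^ j) : (a ^ j) ^ charDegree χ = 1 := by
  have := Fintype.ofFinite (G ⧸ inertia N (lin a))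
  obtain ⟨e, he, hd⟩ := h.exists_deg
  have h1 := det_res hNG h.irr.isCharacter
  rw [clifford N h.irr h.irr' h.ne, he, det_smul (isCharacter_sum _ _ fun q _ =>
    isCharacter_conjChar N h.irr'.isCharacter _), det_sum _ _ fun q _ =>
    isCharacter_conjChar N h.irr'.isCharacter _] at h1
  simp only [conjChar_lin, det_lin] at h1
  have h2 := congrArg (· ^ j) h1
  simp only [one_pow] at h2
  rw [← pow_mul, mul_comm e, pow_mul, ← Finset.prod_pow] at h2
  simp only [← map_pow, hj, Finset.prod_const, Finset.card_univ] at h2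
  rw [hd, deg_lin, mul_one, mul_comm e, pow_mul, index, Nat.card_eq_fintype_card]; exact h2

theorem Ov.pow_mul_eq_one (hNG : N ≤ _root_.commutator G) (h : Ov χ θ) (h' : Ov χ' (tw a θ))
    (ha : ∀ g : G, cj g a = a) : a ^ (charDegree χ * charDegree χ') = 1 := by
  have := Fintype.ofFinite G
  have h1 := clifford_sum_group N h.irr h.irr' h.ne
  have h2 := clifford_sum_group N h'.irr h'.irr' h'.ne
  simp only [conjChar_tw, ha] at h2
  have h3 : ((charDegree χ : ℕ) : ℂ) • (fun n : N => χ' n) =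
      ((charDegree χ' : ℕ) : ℂ) • tw a (fun n : N => χ n) := by
    funext n
    have e1 := congrFun h1 n
    have e2 := congrFun h2 n
    have e3 := congrFun h1 1
    have e4 := congrFun h2 1
    simp only [Pi.smul_apply, smul_eq_mul, Finset.sum_apply, tw, ← Finset.mul_sum, ev_one,
      one_mul, OneMemClass.coe_one] at e1 e2 e3 e4 ⊢
    rw [← h.irr.apply_one_eq, ← h'.irr.apply_one_eq]
    refine mul_left_cancel₀ (mul_ne_zero (card_ne_zero_complex (inertia N θ))
      (card_ne_zero_complex (inertia N (tw a θ)))) ?_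
    linear_combination (Nat.card (inertia N θ) * χ 1) * e2 - (ev n a * Nat.card (inertia N (tw a θ)) *
      χ' 1) * e1 + (classInner (fun n : N => χ' n) (tw a θ) * (ev n a * ∑ g, conjChar N g θ n)) * e3 -
      (ev n a * classInner (fun n : N => χ n) θ * ∑ g, conjChar N g θ n) * e4
  have h4 := congrArg det h3
  have hc := h.irr.isCharacter.restrict N
  rw [det_smul (h'.irr.isCharacter.restrict N), det_smul (char_tw a hc),
    det_res hNG h'.irr.isCharacter] at h4
  rw [det_tw _ hc, det_res hNG h.irr.isCharacter, mul_one, one_pow, ← pow_mul] at h4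
  exact h4.symm

/-- Twisting by a linear character of order coprime to the degree. -/
theorem not_coprime_tw (hNG : N ≤ _root_.commutator G) (ha : a ≠ 1) {n : ℕ} (hn : a ^ n = 1)
    (h : Ov χ θ) (hψ : Ov ψ (lin a)) (h' : Ov χ' (tw a θ)) (h1 : n.Coprime (charDegree χ))
    (h2 : (charDegree χ).Coprime (charDegree ψ)) : ¬ (charDegree χ').Coprime (charDegree ψ) := by
  intro h3
  have h4 := invariant_of_coprime h.irr' (h2.of_dvd h.index_dvd hψ.index_dvd)
    (h3.of_dvd h'.index_dvd hψ.index_dvd) hn (h1.coprime_dvd_right h.dvd)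
  have h5 := hψ.pow_eq_one hNG (j := 1) (by simpa using h4)
  rw [pow_one] at h5
  exact ha (eq_one_of_coprime (h2.mul_left h3) (h.pow_mul_eq_one hNG h' h4) h5)

theorem exists_tw (hNG : N ≤ _root_.commutator G) (ha : a ≠ 1) {n : ℕ} (hn : a ^ n = 1)
    (h : Ov χ θ) (hψ : Ov ψ (lin a)) (h1 : n.Coprime (charDegree χ))
    (h2 : (charDegree χ).Coprime (charDegree ψ)) : ∃ χ' : G → ℂ, Ov χ' (tw a θ) ∧
      charDegree χ' ∈ relCharDegrees N ∧ ¬ (charDegree χ').Coprime (charDegree ψ) := by
  obtain ⟨χ', h'⟩ := exists_ov (irr_tw a h.irr')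
  refine ⟨χ', h', h'.mem fun e => ?_, not_coprime_tw hNG ha hn h hψ h' h1 h2⟩
  refine not_coprime_tw hNG ha hn h hψ (χ' := fun _ => 1) ⟨isIrrCharacter_one, h'.irr', ?_⟩ h1 h2
    (by simp)
  rw [e, isIrrCharacter_one.inner_self]; exact one_ne_zero

theorem not_coprime_of_pow (hNG : N ≤ _root_.commutator G) (h : Ov χ (lin a)) (hψ : Ov ψ (lin b))
    {i j : ℕ} (e : a ^ i = b ^ j) (hne : a ^ i ≠ 1) :
    ¬ (charDegree χ).Coprime (charDegree ψ) := by
  intro hc
  have h1 : (inertia N (lin (a ^ i))).index = 1 := Nat.eq_one_of_dvd_coprimes hc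
    ((index_dvd_of_le (inertia_le_pow a i)).trans h.index_dvd)
    (e ▸ (index_dvd_of_le (inertia_le_pow b j)).trans hψ.index_dvd)
  have h2 : ∀ g : G, cj g (a ^ i) = a ^ i := fun g =>
    mem_inertia_lin.1 (index_eq_one.1 h1 ▸ mem_top g)
  exact hne (eq_one_of_coprime hc (h.pow_eq_one hNG h2) (e ▸ hψ.pow_eq_one hNG (e ▸ h2)))

end Cfsg.Lib.RelGraph
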