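import Cfsg.Agent.Lib.CharDeg.RelGraph

/-!
# The common-divisor graph of the relative character degrees
-/

set_option autoImplicit false

namespace Cfsg.Lib.RelGraph

open Cfsg.Lib.Char Cfsg.Lib.CharDeg Cfsg.Lib.Clifford Cfsg.Lib.Induce Subgroup
open scoped commutatorElement

/-- Reachability in the common-divisor graph on `S`. -/
def Rch (S : Set ℕ) (a b : ℕ) : Prop :=
  ∃ (ha : a ∈ S) (hb : b ∈ S), (commonDivisorGraph.induce S).Reachable ⟨a, ha⟩ ⟨b, hb⟩

section graph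
variable {S T : Set ℕ} {a b c : ℕ}

theorem adj_of_not_coprime (ha : a ∈ S) (hb : b ∈ S) (h0 : 0 < a) (hne : a ≠ b)
    (h : ¬ a.Coprime b) : (commonDivisorGraph.induce S).Adj ⟨a, ha⟩ ⟨b, hb⟩ := by
  refine ⟨hne, ?_⟩
  have := Nat.gcd_pos_of_pos_left b h0
  have h' : Nat.gcd a b ≠ 1 := h
  change 1 < Nat.gcd a b
  omega

theorem Rch.of_not_coprime (ha : a ∈ S) (hb : b ∈ S) (h0 : 0 < a) (h : ¬ a.Coprime b) :
    Rch S a b := by
  refine ⟨ha, hb, ?_⟩
  by_cases e : a = b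
  · subst e; rfl
  · exact (adj_of_not_coprime ha hb h0 e h).reachable

theorem Rch.symm (h : Rch S a b) : Rch S b a := ⟨h.2.1, h.1, h.2.2.symm⟩

theorem Rch.trans (h : Rch S a b) (h' : Rch S b c) : Rch S a c := ⟨h.1, h'.2.1, h.2.2.trans h'.2.2⟩

theorem Rch.mono (hST : S ⊆ T) (h : Rch S a b) : Rch T a b :=
  ⟨hST h.1, hST h.2.1, h.2.2.map (SimpleGraph.induceHomOfLE commonDivisorGraph hST).toHom⟩

theorem not_coprime_of_dvd {p : ℕ} (hp : 1 < p) (ha : p ∣ a) (hb : p ∣ b) : ¬ a.Coprime b :=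
  fun h => by have := Nat.eq_one_of_dvd_coprimes h ha hb; omega

end graph

variable {G : Type*} [Group G] [Finite G] {N : Subgroup G} [hN : N.Normal]

omit hN in
theorem pos_of_mem {d : ℕ} (h : d ∈ relCharDegrees N) : 0 < d := by
  obtain ⟨χ, -, rfl⟩ := h
  exact χ.2.charDegree_pos

omit hN in
theorem rch {a b : ℕ} (ha : a ∈ relCharDegrees N) (hb : b ∈ relCharDegrees N)
    (h : ¬ a.Coprime b) : Rch (relCharDegrees N) a b := Rch.of_not_coprime ha hb (pos_of_mem ha) h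

omit [Finite G] hN in
theorem rel_mono {L : Subgroup G} (h : L ≤ N) : relCharDegrees L ⊆ relCharDegrees N := by
  rintro d ⟨χ, ⟨x, hx, hne⟩, rfl⟩
  exact ⟨χ, ⟨x, h hx, hne⟩, rfl⟩

section
variable [Fintype N]

/-- All degrees prime to `p` are close to the degrees over a suitable linear character. -/
theorem exists_near (hNG : N ≤ _root_.commutator G) {p : ℕ} (hp : p.Prime)
    (h : p ∣ ⁅N, N⁆.relIndex N) : ∃ l : Lin N, l ≠ 1 ∧ l ^ p = 1 ∧ ∀ ψ : G → ℂ, Ov ψ (lin l) →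
      ∀ a ∈ relCharDegrees N, ¬ p ∣ a → ¬ a.Coprime (charDegree ψ) ∨
        ∃ d ∈ relCharDegrees N, ¬ a.Coprime d ∧ ¬ d.Coprime (charDegree ψ) := by
  obtain ⟨l, h1, h2, h3⟩ := exists_lin hp h
  refine ⟨l, h1, h2, fun ψ hψ a ha hpa => or_iff_not_imp_left.2 fun hc => ?_⟩
  push Not at hc
  obtain ⟨χ, θ, ho, hθ, rfl⟩ := exists_of_mem ha
  obtain ⟨χ', ho', hm, hn⟩ := exists_tw hNG h1 h2 ho hψ (hp.coprime_iff_not_dvd.2 hpa) hc
  refine ⟨_, hm, fun hc' => ?_, hn⟩
  have hd : charDegree θ = 1 := Nat.eq_one_of_dvd_coprimes hc' ho.deg_dvd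
    (deg_tw l θ ▸ ho'.deg_dvd)
  obtain ⟨t, rfl⟩ := exists_eq_lin ho.irr'.isCharacter hd
  rw [tw_lin] at ho'
  by_cases ht : t ^ p = 1
  · have h4 := invariant_of_coprime (irr_lin l) (a := t)
      (hc.symm.of_dvd hψ.index_dvd ho.index_dvd)
      (by rw [tw_lin, mul_comm]; exact hc'.symm.of_dvd ho'.index_dvd ho.index_dvd) ht
      (by rw [deg_lin, one_mul]; exact hp.coprime_iff_not_dvd.2 h3)
    have h5 := ho.pow_eq_one hNG (j := 1) (by simpa using h4)
    rw [pow_one] at h5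
    exact hθ (by rw [eq_one_of_coprime (hp.coprime_iff_not_dvd.2 hpa) ht h5, lin_one])
  · exact not_coprime_of_pow hNG ho ho' (i := p) (j := p) (by rw [mul_pow, h2, one_mul]) ht hc'

theorem exists_rch (hNG : N ≤ _root_.commutator G) {p : ℕ} (hp : p.Prime)
    (h : p ∣ ⁅N, N⁆.relIndex N) : ∃ l : Lin N, l ≠ 1 ∧ l ^ p = 1 ∧ ∀ ψ : G → ℂ, Ov ψ (lin l) →
      ∀ a ∈ relCharDegrees N, ¬ p ∣ a → Rch (relCharDegrees N) a (charDegree ψ) := by
  obtain ⟨l, h1, h2, h3⟩ := exists_near hNG hp h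
  refine ⟨l, h1, h2, fun ψ hψ a ha hpa => ?_⟩
  have hm := hψ.mem (lin_ne_one h1)
  rcases h3 ψ hψ a ha hpa with h4 | ⟨d, hd, h4, h5⟩
  · exact rch ha hm h4
  · exact (rch ha hd h4).trans (rch hd hm h5)

end

theorem rch_of_not_dvd (hNG : N ≤ _root_.commutator G) {p : ℕ} (hp : p.Prime)
    (h : p ∣ ⁅N, N⁆.relIndex N) {a b : ℕ} (ha : a ∈ relCharDegrees N) (hb : b ∈ relCharDegrees N)
    (h1 : ¬ p ∣ a) (h2 : ¬ p ∣ b) : Rch (relCharDegrees N) a b := by
  have := Fintype.ofFinite N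
  obtain ⟨l, -, -, h3⟩ := exists_rch hNG hp h
  obtain ⟨ψ, hψ⟩ := exists_ov (irr_lin l)
  exact (h3 ψ hψ a ha h1).trans (h3 ψ hψ b hb h2).symm

omit hN in
theorem exists_prime_dvd (h : ⁅N, N⁆ < N) : ∃ p : ℕ, p.Prime ∧ p ∣ ⁅N, N⁆.relIndex N :=
  Nat.exists_prime_and_dvd fun e => h.not_ge (relIndex_eq_one.1 e)

/-- One component contains all degrees missing some prime divisor of `|N : N'|`. -/
theorem exists_centre (hNG : N ≤ _root_.commutator G) (h : ⁅N, N⁆ < N) :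
    ∃ c ∈ relCharDegrees N, ∀ p : ℕ, p.Prime → p ∣ ⁅N, N⁆.relIndex N →
      ∀ a ∈ relCharDegrees N, ¬ p ∣ a → Rch (relCharDegrees N) a c := by
  have := Fintype.ofFinite N
  obtain ⟨q, hq, hqm⟩ := exists_prime_dvd h
  obtain ⟨k, k1, k2, k3⟩ := exists_rch hNG hq hqm
  obtain ⟨φ, hφ⟩ := exists_ov (irr_lin k)
  refine ⟨_, hφ.mem (lin_ne_one k1), fun p hp hpm a ha hpa => ?_⟩
  by_cases e : p = q
  · exact k3 φ hφ a ha (e ▸ hpa)
  obtain ⟨l, l1, l2, l3⟩ := exists_rch hNG hp hpm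
  obtain ⟨ψ, hψ⟩ := exists_ov (irr_lin l)
  obtain ⟨η, hη⟩ := exists_ov (irr_lin (l * k))
  have hc := (Nat.coprime_primes hp hq).2 e
  have e1 : l ^ q = (l * k) ^ q := by rw [mul_pow, k2, mul_one]
  have e2 : k ^ p = (l * k) ^ p := by rw [mul_pow, l2, one_mul]
  have n1 : l ^ q ≠ 1 := fun x => l1 (eq_one_of_coprime hc l2 x)
  have n2 : k ^ p ≠ 1 := fun x => k1 (eq_one_of_coprime hc x k2)
  have hm := hη.mem (lin_ne_one fun x => n1 (by rw [e1, x, one_pow]))
  exact (l3 ψ hψ a ha hpa).trans ((rch (hψ.mem (lin_ne_one l1)) hm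
    (not_coprime_of_pow hNG hψ hη e1 n1)).trans (rch (hφ.mem (lin_ne_one k1)) hm
    (not_coprime_of_pow hNG hφ hη e2 n2)).symm)

section
variable [Fintype N] {χ ψ : G → ℂ} {θ φ : N → ℂ}

/-- A common neighbour, when one of the characters lies over a linear character. -/
theorem exists_common_lin (hNG : N ≤ _root_.commutator G) {l : Lin N} (h : Ov χ θ)
    (hψ : Ov ψ (lin l)) (hθ : θ ≠ fun _ => 1) (hl : l ≠ 1)
    (h1 : (⁅N, N⁆.relIndex N).Coprime (charDegree χ))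
    (h2 : charDegree θ = 1 → (⁅N, N⁆.relIndex N).Coprime (charDegree ψ))
    (h3 : (charDegree χ).Coprime (charDegree ψ)) : ∃ d ∈ relCharDegrees N,
      ¬ (charDegree χ).Coprime d ∧ ¬ d.Coprime (charDegree ψ) := by
  obtain ⟨χ', ho', hm, hn⟩ := exists_tw hNG hl (pow_relIndex l) h hψ h1 h3
  refine ⟨_, hm, fun hc' => ?_, hn⟩
  have hd : charDegree θ = 1 := Nat.eq_one_of_dvd_coprimes hc' h.deg_dvd
    (deg_tw l θ ▸ ho'.deg_dvd)
  have h4 := h2 hd
  obtain ⟨t, rfl⟩ := exists_eq_lin h.irr'.isCharacter hd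
  rw [tw_lin, mul_comm, ← tw_lin] at ho'
  exact not_coprime_tw hNG (fun e => hθ (by rw [e, lin_one])) (pow_relIndex t) hψ h ho' h4 h3.symm
    hc'.symm

omit [Finite G] hN [Fintype N] in
theorem ne_one_of_deg (h : charDegree θ ≠ 1) : θ ≠ fun _ => 1 := fun e => h (by rw [e]; simp)

omit hN in
theorem Ov.mem_of_irr_res (h : Ov χ θ) {L : Subgroup G} (hL : L ≤ N)
    (hi : IsIrrCharacter L fun x => θ (inclusion hL x)) (h1 : charDegree θ ≠ 1) :
    charDegree χ ∈ relCharDegrees L := by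
  refine ⟨⟨χ, h.irr⟩, ?_, rfl⟩
  by_contra hc
  push Not at hc
  have := Fintype.ofFinite L
  have h2 : (fun x : L => θ (inclusion hL x)) = θ 1 • fun _ => (1 : ℂ) := by
    funext x
    rw [(h.irr.isCharacter.restrict N).apply_eq_of_constituent h.irr' h.ne
      (g := inclusion hL x) (hc x x.2)]
    simp
  have h3 := congrFun (hi.eq_of_inner_ne_zero isIrrCharacter_one (by
    rw [h2, classInner_smul_left, isIrrCharacter_one.inner_self, mul_one]
    exact h.irr'.apply_one_ne_zero)) 1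
  exact h1 (h.irr'.isCharacter.charDegree_eq_one_iff.2 (by simpa using h3))

/-- Three pairwise coprime degrees over nonlinear characters: the third is joined to one of the
others. -/
theorem rch_of_nonlinear [Group.IsSolvable N] (hNG : N ≤ _root_.commutator G) {η : G → ℂ}
    {ρ : N → ℂ} (h : Ov χ θ) (hψ : Ov ψ φ) (hη : Ov η ρ) (hθ : charDegree θ ≠ 1)
    (hφ : charDegree φ ≠ 1) (hρ : charDegree ρ ≠ 1)
    (hc : (charDegree χ).Coprime (charDegree ψ)) :
    Rch (relCharDegrees N) (charDegree χ) (charDegree η) ∨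
      Rch (relCharDegrees N) (charDegree ψ) (charDegree η) := by
  obtain ⟨L, ⟨hLn, hL, i1, i2⟩, hmin⟩ := (wellFounded_lt (α := Subgroup G)).has_min
    {L | L.Normal ∧ ∃ hL : L ≤ N, (IsIrrCharacter L fun x => θ (inclusion hL x)) ∧
      IsIrrCharacter L fun x => φ (inclusion hL x)} ⟨N, hN, le_rfl, h.irr', hψ.irr'⟩
  have m1 := h.mem (ne_one_of_deg hθ)
  have m2 := hψ.mem (ne_one_of_deg hφ)
  have m3 := hη.mem (ne_one_of_deg hρ)
  by_cases hk : charDegree η ∈ relCharDegrees L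
  swap
  · left
    have hker : ∀ n ∈ L.subgroupOf N, ρ n = ρ 1 := fun n hn =>
      (hη.irr.isCharacter.restrict N).apply_eq_of_constituent hη.irr' hη.ne (by
        by_contra hx
        exact hk ⟨⟨η, hη.irr⟩, ⟨n, hn, hx⟩, rfl⟩)
    have hi := isIrrCharacter_mul_of_ker (L.subgroupOf N) h.irr'.isCharacter
      (i1.comp_equiv (subgroupOfEquivOfLe hL)) hη.irr' hker
    have hd : charDegree (ρ * θ) = charDegree ρ * charDegree θ := charDegree_eq_of_apply_one (by
      rw [Pi.mul_apply, hη.irr'.apply_one_eq, h.irr'.apply_one_eq, Nat.cast_mul])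
    obtain ⟨ζ, hζ⟩ := exists_ov hi
    have h4 := hζ.deg_dvd
    have m4 := hζ.mem (ne_one_of_deg (by rw [hd]; exact fun e => hθ (Nat.eq_one_of_mul_eq_one_left e)))
    rw [hd] at h4
    exact (rch m1 m4 fun x => hθ (Nat.eq_one_of_dvd_coprimes x h.deg_dvd
      ((dvd_mul_left _ _).trans h4))).trans (rch m4 m3 fun x => hρ (Nat.eq_one_of_dvd_coprimes x
      ((dvd_mul_right _ _).trans h4) hη.deg_dvd))
  have hLb : L ≠ ⊥ := by
    rintro rfl
    exact hθ (h.irr'.isCharacter.charDegree_eq_one_iff.2 (by simpa using i1.apply_one_of_comm))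
  have hs : Group.IsSolvable L := solvable_of_solvable_injective (inclusion_injective hL)
  have hlt : ⁅L, L⁆ < L := by
    have : Nontrivial L := (nontrivial_iff_ne_bot L).2 hLb
    refine lt_of_le_of_ne (commutator_le_left L L) fun e => ?_
    have h5 := IsSolvable.commutator_lt_top_of_nontrivial L
    rw [← map_subtype_commutator] at e
    exact h5.ne (map_injective L.subtype_injective (e.trans (by
      rw [← MonoidHom.range_eq_map, range_subtype])))
  have key : ∀ {τ : N → ℂ}, (IsIrrCharacter L fun x => τ (inclusion hL x)) →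
      (charDegree τ).Coprime (⁅L, L⁆.relIndex L) →
      IsIrrCharacter (⁅L, L⁆ : Subgroup G) fun x => τ (inclusion (hlt.le.trans hL) x) := by
    intro τ hτ hcop
    have := Fintype.ofFinite (⁅L, L⁆.subgroupOf L)
    exact (isIrrCharacter_res_of_coprime (⁅L, L⁆.subgroupOf L) hτ
      ((charDegree_congr (χ := τ) (ψ := fun x => τ (inclusion hL x)) rfl) ▸ hcop)).comp_equiv (subgroupOfEquivOfLe hlt.le).symm
  have main : ∀ {χ ψ : G → ℂ} {θ : N → ℂ}, Ov χ θ → charDegree χ ∈ relCharDegrees N →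
      charDegree ψ ∈ relCharDegrees L → (charDegree χ).Coprime (charDegree ψ) →
      ¬ (charDegree θ).Coprime (⁅L, L⁆.relIndex L) →
      Rch (relCharDegrees N) (charDegree χ) (charDegree η) ∨
        Rch (relCharDegrees N) (charDegree ψ) (charDegree η) := by
    intro χ ψ θ h m1 m2 hc hn
    obtain ⟨r, hr, r1, r2⟩ := Nat.Prime.not_coprime_iff_dvd.1 hn
    by_cases h6 : r ∣ charDegree η
    · exact Or.inl (rch m1 m3 (not_coprime_of_dvd hr.one_lt (r1.trans h.deg_dvd) h6))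
    · exact Or.inr ((rch_of_not_dvd (hL.trans hNG) hr r2 m2 hk
        (fun x => not_coprime_of_dvd hr.one_lt (r1.trans h.deg_dvd) x hc) h6).mono (rel_mono hL))
  by_cases c1 : (charDegree θ).Coprime (⁅L, L⁆.relIndex L)
  · by_cases c2 : (charDegree φ).Coprime (⁅L, L⁆.relIndex L)
    · exact absurd hlt (hmin _ ⟨inferInstance, _, key i1 c1, key i2 c2⟩)
    · exact (main hψ m2 (h.mem_of_irr_res hL i1 hθ) hc.symm c2).symm
  · exact main h m1 (hψ.mem_of_irr_res hL i2 hφ) hc c1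

end

end Cfsg.Lib.RelGraph
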