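import Cfsg.Agent.Lib.Linear.Transv

/-! `SL_n` is transitive on independent `k`-tuples for `k < n`; additive characters of a finite
field with values in any field. -/

namespace Cfsg.Lib.GLFlag

open Matrix Cfsg.Lib.Linear

theorem exists_SL_of_linearIndependent {ι κ F : Type*} [Fintype ι] [DecidableEq ι] [Fintype κ]
    [Field F] (h : Fintype.card κ < Fintype.card ι) {u v : κ → ι → F} (hu : LinearIndependent F u)
    (hv : LinearIndependent F v) :
    ∃ g : SpecialLinearGroup ι F, ∀ i, (g : Matrix ι ι F) *ᵥ u i = v i := by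
  obtain ⟨e, he⟩ := Submodule.exists_linearEquiv_restrict_eq
    (hu.linearCombinationEquiv.symm ≪≫ₗ hv.linearCombinationEquiv)
  have h1 : ∀ i, LinearMap.toMatrix' e.toLinearMap *ᵥ u i = v i := fun i => by
    have := he (hu.linearCombinationEquiv (Finsupp.single i 1))
    simp only [LinearEquiv.trans_apply, LinearEquiv.symm_apply_apply] at this
    simpa using this.symm
  have h2 : (LinearMap.toMatrix' e.toLinearMap).det ≠ 0 := by
    rw [LinearMap.det_toMatrix']
    exact (LinearEquiv.isUnit_det' e).ne_zero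
  obtain ⟨φ, hφ, hφ0⟩ := (Submodule.ne_bot_iff _).1 (LinearMap.ker_ne_bot_of_finrank_lt
    (f := (of u).mulVecLin) (by simpa using h))
  obtain ⟨j, hj⟩ := Function.ne_iff.1 hφ0
  refine ⟨⟨LinearMap.toMatrix' e.toLinearMap * (1 + vecMulVec (Pi.single j
    (((LinearMap.toMatrix' e.toLinearMap).det⁻¹ - 1) / φ j)) φ), ?_⟩, fun i => ?_⟩
  · rw [det_mul, det_one_add_vecMulVec, dotProduct_single, mul_div_cancel₀ _ hj, add_sub_cancel,
      mul_inv_cancel₀ h2]
  · have : φ ⬝ᵥ u i = 0 := by rw [dotProduct_comm]; exact congrFun hφ i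
    change (_ * _ : Matrix ι ι F) *ᵥ u i = v i
    rw [← mulVec_mulVec, add_mulVec, one_mulVec, vecMulVec_mulVec', this, zero_smul, add_zero, h1]

theorem exists_eq_mulShift {F k : Type*} [Field F] [Finite F] [Field k] {ψ : AddChar F k}
    (h : ψ ≠ 1) (φ : AddChar F k) : ∃ a, ψ.mulShift a = φ := by
  haveI := Fintype.ofFinite F
  have h1 := linearIndependent_monoidHom (Multiplicative F) k
  haveI := h1.finite
  haveI := Fintype.ofFinite (Multiplicative F →* k)
  haveI := Finite.of_equiv _ (AddChar.toMonoidHomEquiv (A := F) (M := k)).symm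
  refine ((AddChar.to_mulShift_inj_of_isPrimitive
    (AddChar.IsPrimitive.of_ne_one h)).bijective_of_nat_card_le ?_).2 φ
  rw [Nat.card_congr AddChar.toMonoidHomEquiv, Nat.card_eq_fintype_card, Nat.card_eq_fintype_card]
  simpa using h1.fintype_card_le_finrank

end Cfsg.Lib.GLFlag
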