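import Cfsg.Agent.Lib.Alt.Aut
import Cfsg.Agent.Lib.PGroup.Basic

/-! Overgroups of Sylow 2-subgroups of alternating and symmetric groups. -/

set_option autoImplicit false

namespace Cfsg.Lib.CharDeg.SylAlt

open Equiv Equiv.Perm Subgroup MulAction
open scoped Pointwise

theorem orbit_inv {R X : Type*} [Group R] [Finite R] [MulAction R X] (hR : IsPGroup 2 R) (x : X)
    (hx : ∃ r : R, r • x ≠ x) : ∃ ζ : X → X, ∀ w ∈ orbit R x, ζ w ∈ orbit R x ∧ ζ (ζ w) = w ∧
      ζ w ≠ w ∧ ∀ r : R, ζ (r • w) = r • ζ w := by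
  classical
  let Q := (toPermHom R (orbit R x)).range
  have hQ : IsPGroup 2 Q := hR.of_surjective _ (toPermHom R (orbit R x)).rangeRestrict_surjective
  have : Finite Q := Finite.of_surjective _ (toPermHom R (orbit R x)).rangeRestrict_surjective
  have : Nontrivial Q := by
    obtain ⟨r, hr⟩ := hx
    refine ⟨⟨⟨_, r, rfl⟩, 1, fun h => hr ?_⟩⟩
    exact congrArg Subtype.val (DFunLike.congr_fun (congrArg Subtype.val h) ⟨x, mem_orbit_self x⟩)
  have := hQ.center_nontrivial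
  obtain ⟨k, hk, hc⟩ := (hQ.to_subgroup (center Q)).nontrivial_iff_card.1 this
  obtain ⟨c, hc2⟩ := exists_prime_orderOf_dvd_card' (G := center Q) 2
    (by rw [hc]; exact dvd_pow_self 2 hk.ne')
  have hcc : c * c = 1 := by rw [← pow_two, ← hc2, pow_orderOf_eq_one]
  have hcomm : ∀ (r : R) (w : orbit R x), c.1.1 (r • w) = r • c.1.1 w := fun r w =>
    (DFunLike.congr_fun (congrArg Subtype.val (mem_center_iff.1 c.2 ⟨_, r, rfl⟩)) w).symm
  refine ⟨fun w => if h : w ∈ orbit R x then c.1.1 ⟨w, h⟩ else w, fun w hw => ?_⟩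
  simp only [hw, dif_pos, (c.1.1 ⟨w, hw⟩).2]
  refine ⟨trivial, ?_, fun h => ?_, fun r => ?_⟩
  · exact congrArg Subtype.val (DFunLike.congr_fun (congrArg (fun z : center Q => z.1.1) hcc) ⟨w, hw⟩)
  · have h1 : c = 1 := by
      refine Subtype.ext (Subtype.ext (Equiv.ext fun u => ?_))
      obtain ⟨r, rfl⟩ := exists_smul_eq R (⟨w, hw⟩ : orbit R x) u
      rw [hcomm, show c.1.1 ⟨w, hw⟩ = ⟨w, hw⟩ from Subtype.ext h]
      rfl
    rw [h1, orderOf_one] at hc2
    exact absurd hc2 (by norm_num)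
  · rw [dif_pos (show r • w ∈ orbit R x from (r • (⟨w, hw⟩ : orbit R x)).2)]
    exact congrArg Subtype.val (hcomm r ⟨w, hw⟩)

theorem exists_inv {R X : Type*} [Group R] [Finite R] [MulAction R X] (hR : IsPGroup 2 R)
    (hx : ∀ x : X, ∃ r : R, r • x ≠ x) : ∃ z : Perm X, (∀ w, z (z w) = w) ∧ (∀ w, z w ≠ w) ∧
      ∀ (r : R) w, z (r • w) = r • z w := by
  have : ∀ O : Set X, ∃ ζ : X → X, (∃ x, O = orbit R x) → ∀ w ∈ O, ζ w ∈ O ∧ ζ (ζ w) = w ∧
      ζ w ≠ w ∧ ∀ r : R, ζ (r • w) = r • ζ w := fun O => by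
    by_cases h : ∃ x, O = orbit R x
    · obtain ⟨x, rfl⟩ := h
      obtain ⟨ζ, hζ⟩ := orbit_inv hR x (hx x)
      exact ⟨ζ, fun _ => hζ⟩
    · exact ⟨id, fun h' => absurd h' h⟩
  choose ζ hζ using this
  have h1 := fun w => hζ (orbit R w) ⟨w, rfl⟩ w (mem_orbit_self w)
  have h2 : Function.Involutive fun w => ζ (orbit R w) w := fun w => by
    simp only
    rw [orbit_eq_iff.2 (h1 w).1]
    exact (h1 w).2.1
  refine ⟨h2.toPerm, h2, fun w => (h1 w).2.2.1, fun r w => ?_⟩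
  change ζ (orbit R (r • w)) (r • w) = r • ζ (orbit R w) w
  rw [orbit_smul]
  exact (h1 w).2.2.2 r

variable {Ω : Type*} [Fintype Ω] [DecidableEq Ω]

omit [Fintype Ω] in
theorem pick (S : Set Ω) (F : Finset Ω) (h : F.card < S.ncard) : ∃ w ∈ S, w ∉ F := by
  by_contra hc
  push Not at hc
  have := Set.ncard_le_ncard (show S ⊆ F from hc)
  rw [Set.ncard_coe_finset] at this
  omega

theorem two_swap {a b c d : Ω} (h1 : a ≠ b) (h2 : c ≠ d) :
    swap a b * swap c d ∈ alternatingGroup Ω := by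
  simp [h1, h2]

theorem exists_even (h5 : 5 ≤ Nat.card Ω) (T : Set Ω) {x y : Ω} (hxy : x ≠ y) (hx : x ∉ T)
    (hy : y ∉ T) : ∃ g ∈ alternatingGroup Ω, g x = y ∧ g ∈ stabilizer (Perm Ω) T := by
  by_cases h : ∃ w, w ∉ T ∧ w ≠ x ∧ w ≠ y
  · obtain ⟨w, hw, h1, h2⟩ := h
    refine ⟨swap y w * swap x w, two_swap h2.symm h1.symm, by simp,
      mul_mem (Equiv.swap_mem_stabilizer.2 (iff_of_false hy hw))
        (Equiv.swap_mem_stabilizer.2 (iff_of_false hx hw))⟩
  · push Not at h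
    obtain ⟨u, -, hu⟩ := pick Set.univ {x, y} (by
      rw [Set.ncard_univ]; exact Finset.card_le_two.trans_lt (by omega))
    obtain ⟨v, -, hv⟩ := pick Set.univ {x, y, u} (by
      rw [Set.ncard_univ]; exact Finset.card_le_three.trans_lt (by omega))
    simp only [Finset.mem_insert, Finset.mem_singleton, not_or] at hu hv
    have h1 : u ∈ T := by_contra fun h1 => hu.2 (h u h1 hu.1)
    have h2 : v ∈ T := by_contra fun h1 => hv.2.1 (h v h1 hv.1)
    refine ⟨swap x y * swap u v, two_swap hxy (Ne.symm hv.2.2), ?_,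
      mul_mem (Equiv.swap_mem_stabilizer.2 (iff_of_false hx hy))
        (Equiv.swap_mem_stabilizer.2 (iff_of_true h1 h2))⟩
    rw [mul_apply, swap_apply_of_ne_of_ne (Ne.symm hu.1) (Ne.symm hv.1), swap_apply_left]

theorem exists_even_fix (h5 : 5 ≤ Nat.card Ω) {o x y : Ω} (hx : x ≠ o) (hy : y ≠ o) :
    ∃ g ∈ alternatingGroup Ω, g x = y ∧ g o = o := by
  by_cases hxy : x = y
  · exact ⟨1, one_mem _, hxy, rfl⟩
  obtain ⟨g, hg, h1, h2⟩ := exists_even h5 {o} hxy hx hy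
  exact ⟨g, hg, h1, (mem_stabilizer_set.1 h2 o).2 rfl⟩

theorem not_le_centralizer (h5 : 5 ≤ Nat.card Ω) {z : Perm Ω} (hz : ∀ w, z w ≠ w) :
    ¬ alternatingGroup Ω ≤ centralizer {z} := by
  intro h
  obtain ⟨x, -, -⟩ := pick (Set.univ : Set Ω) ∅ (by rw [Set.ncard_univ, Finset.card_empty]; omega)
  obtain ⟨w, -, hw⟩ := pick Set.univ {x, z x} (by
    rw [Set.ncard_univ]; exact Finset.card_le_two.trans_lt (by omega))
  simp only [Finset.mem_insert, Finset.mem_singleton, not_or] at hw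
  obtain ⟨g, hg, h1, h2⟩ := exists_even_fix h5 (hz x) hw.1
  have := DFunLike.congr_fun (h hg z rfl) x
  rw [mul_apply, mul_apply, h2, h1] at this
  exact hw.2 this.symm

theorem dbl {z : Perm Ω} (hzz : ∀ w, z (z w) = w) (hz : ∀ w, z w ≠ w) {x y : Ω} (h1 : y ≠ x)
    (h2 : y ≠ z x) : ∃ g ∈ alternatingGroup Ω ⊓ centralizer {z}, g x = y ∧
      ∀ o, o ≠ x → o ≠ y → o ≠ z x → o ≠ z y → g o = o := by
  have h3 : z y ≠ x := fun h => h2 (by rw [← h, hzz])
  refine ⟨swap x y * swap (z x) (z y), ⟨two_swap h1.symm (z.injective.ne h1.symm), ?_⟩, ?_,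
    fun o a b c d => ?_⟩
  · intro z' hz'
    rw [show z' = z from hz']
    have e : swap x y * swap (z x) (z y) = swap (z x) (z y) * swap x y := by
      rw [mul_swap_eq_swap_mul, swap_apply_of_ne_of_ne (hz x) h2.symm,
        swap_apply_of_ne_of_ne h3 (hz y)]
    rw [← mul_assoc, mul_swap_eq_swap_mul z, mul_assoc, mul_swap_eq_swap_mul z, hzz, hzz,
      ← mul_assoc, ← e]
  · rw [mul_apply, swap_apply_of_ne_of_ne (hz x).symm h3.symm, swap_apply_left]
  · rw [mul_apply, swap_apply_of_ne_of_ne c d, swap_apply_of_ne_of_ne a b]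

theorem iff_iff_cancel (p q r : Prop) : ((p ↔ q) ↔ (p ↔ r)) ↔ (q ↔ r) := by tauto

theorem core (h5 : 5 ≤ Nat.card Ω) (R : Subgroup (Perm Ω)) (hR : IsPGroup 2 R)
    (hT : (∃ a, Nat.card Ω = 2 ^ a) → ∀ x y : Ω, y ∈ orbit R x) (P : Subgroup (Perm Ω))
    (hP : ¬ alternatingGroup Ω ≤ P)
    (hH : ∀ H, R ≤ H → ¬ alternatingGroup Ω ≤ H → alternatingGroup Ω ⊓ H ≤ P) :
    ∃ k, 2 ≤ k ∧ Nat.card Ω = 2 ^ k + 1 := by
  have hst : ∀ x : Ω, R ≤ stabilizer (Perm Ω) (orbit R x) := fun x r hr =>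
    smul_orbit (⟨r, hr⟩ : R) x
  have hst' : ∀ x y : Ω, y ∉ orbit R x →
      alternatingGroup Ω ⊓ stabilizer (Perm Ω) (orbit R x) ≤ P := fun x y hy => by
    refine hH _ (hst x) fun h => ?_
    obtain ⟨g, hg, h1, -⟩ := exists_even h5 ∅ (x := x) (y := y)
      (fun e => hy (e ▸ mem_orbit_self x)) (by simp) (by simp)
    exact hy (h1 ▸ (mem_stabilizer_set.1 (h hg) x).2 (mem_orbit_self x))
  have key1 : ∀ x : Ω, Nat.card Ω ≠ 2 * (orbit R x).ncard → ∀ g ∈ alternatingGroup Ω, g ∈ P →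
      g x ∈ orbit R x := fun x hc g hg hgP => by
    by_contra hgx
    have hco := alternatingGroup.isCoatom_stabilizer (s := orbit R x) ⟨x, mem_orbit_self x⟩
      ⟨_, hgx⟩ hc
    have := hco.2 (P.subgroupOf (alternatingGroup Ω)) (lt_of_le_of_ne
      (fun s hs => hst' x _ hgx ⟨s.2, hs⟩) fun e => hgx (by
        have : (⟨g, hg⟩ : alternatingGroup Ω) ∈ stabilizer (alternatingGroup Ω) (orbit R x) :=
          e ▸ hgP
        exact (mem_stabilizer_set.1 this x).2 (mem_orbit_self x)))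
    exact hP (subgroupOf_eq_top.1 this)
  have hsym : ∀ {x y : Ω}, y ∉ orbit R x → x ∉ orbit R y := fun h h' => h (mem_orbit_symm.1 h')
  have hcen : ∀ z : Perm Ω, (∀ w, z w ≠ w) → (∀ (r : R) w, z (r • w) = r • z w) →
      alternatingGroup Ω ⊓ centralizer {z} ≤ P := fun z hz hc =>
    hH _ (fun r hr => by rintro _ rfl; exact Equiv.ext fun w => hc ⟨r, hr⟩ w)
      (not_le_centralizer h5 hz)
  have hcard : ∀ x : Ω, ∃ a, (orbit R x).ncard = 2 ^ a := fun x => hR.card_orbit x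
  obtain ⟨x, -, -⟩ := pick (Set.univ : Set Ω) ∅ (by rw [Set.ncard_univ, Finset.card_empty]; omega)
  by_cases htr : ∀ y, y ∈ orbit R x
  · exfalso
    have htr' : ∀ w y : Ω, ∃ r : R, r • w = y := fun w y => by
      have := htr y
      rw [← orbit_eq_iff.2 (htr w)] at this
      exact this
    have h8 : 8 ≤ Nat.card Ω := by
      obtain ⟨a, ha⟩ := hcard x
      rw [Set.eq_univ_of_forall htr, Set.ncard_univ] at ha
      rw [ha] at h5 ⊢
      by_contra h
      have : a < 3 := (Nat.pow_lt_pow_iff_right (show 1 < 2 by norm_num)).1 (not_le.1 h)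
      interval_cases a <;> omega
    have hmv : ∀ w : Ω, ∃ r : R, r • w ≠ w := fun w => by
      obtain ⟨y, -, hy⟩ := pick Set.univ {w} (by rw [Set.ncard_univ, Finset.card_singleton]; omega)
      obtain ⟨r, hr⟩ := htr' w y
      exact ⟨r, by rw [hr]; simpa using hy⟩
    obtain ⟨z, hzz, hz, hzc⟩ := exists_inv hR hmv
    obtain ⟨K, hK, hxK⟩ := (eq_top_or_exists_le_coatom (stabilizer R x)).resolve_left fun h => by
      obtain ⟨r, hr⟩ := hmv x
      exact hr (h ▸ mem_top r : r ∈ stabilizer R x)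
    have hK2 := Cfsg.Lib.PGroup.index_eq_of_isCoatom hR hK
    choose c hc using htr' x
    obtain ⟨X, hX⟩ : ∃ X : Set Ω, ∀ r : R, r • x ∈ X ↔ r ∈ K := ⟨{y | c y ∈ K}, fun r => by
      have : r⁻¹ * c (r • x) ∈ K := hxK (by rw [mem_stabilizer_iff, mul_smul, hc, inv_smul_smul])
      rw [mul_mem_iff_of_index_two hK2, inv_mem_iff] at this
      exact this.symm⟩
    have hXr : ∀ (r : R) y, r • y ∈ X ↔ (r ∈ K ↔ y ∈ X) := fun r y => by
      rw [← hc y, ← mul_smul, hX, hX, mul_mem_iff_of_index_two hK2]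
    have hxX : x ∈ X := by simpa using (hX 1).2 K.one_mem
    obtain ⟨r₀, hr₀⟩ : ∃ r₀, r₀ ∉ K := by
      by_contra h
      push Not at h
      exact hK.1 (eq_top_iff.2 fun r _ => h r)
    have hXc : Xᶜ.ncard = X.ncard := by
      have : Xᶜ = (fun y => r₀ • y) '' X := by
        ext y
        constructor
        · intro hy
          refine ⟨r₀⁻¹ • y, ?_, smul_inv_smul _ _⟩
          rw [hXr, inv_mem_iff]; exact iff_of_false hr₀ hy
        · rintro ⟨y, hy, rfl⟩ h
          exact hr₀ (((hXr _ _).1 h).2 hy)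
      rw [this, Set.ncard_image_of_injective _ (MulAction.injective r₀)]
    have hsum := Set.ncard_add_ncard_compl X
    let H : Subgroup (Perm Ω) :=
      { carrier := {g | ∀ y y', (g y ∈ X ↔ g y' ∈ X) ↔ (y ∈ X ↔ y' ∈ X)}
        one_mem' := fun _ _ => Iff.rfl
        mul_mem' := fun {g h} hg hh y y' => (hg _ _).trans (hh _ _)
        inv_mem' := fun {g} hg y y' => by
          have := hg (g⁻¹ y) (g⁻¹ y')
          simp only [coe_inv, Equiv.apply_symm_apply] at this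
          exact this.symm }
    obtain ⟨y, hy, hyz⟩ := pick Xᶜ {z x} (by simp; omega)
    rw [Finset.mem_singleton] at hyz
    obtain ⟨u, hu⟩ : ∃ u, ∀ o ∈ X, o ≠ u → o ≠ z x ∧ o ≠ z y := by
      by_cases hzx : z x ∈ X
      · refine ⟨z x, fun o ho h => ⟨h, ?_⟩⟩
        rintro rfl
        rw [← hc y, hzc, hXr, ← hX, hc] at ho
        exact hy (ho.2 hzx)
      · exact ⟨z y, fun o ho h => ⟨fun e => hzx (e ▸ ho), h⟩⟩
    obtain ⟨o, ho, ho'⟩ := pick X {x, u} (Finset.card_le_two.trans_lt (by omega))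
    obtain ⟨e, he, he'⟩ := pick X {x, u, o} (Finset.card_le_three.trans_lt (by omega))
    simp only [Finset.mem_insert, Finset.mem_singleton, not_or] at ho' he'
    have hne : ∀ {a b}, a ∈ X → b ∉ X → a ≠ b := fun ha hb e => hb (e ▸ ha)
    have hHP : alternatingGroup Ω ⊓ stabilizer (Perm Ω) X ≤ P := by
      refine le_trans (inf_le_inf_left _ (show _ ≤ H from fun g hg y y' => ?_))
        (hH H (fun r hr y y' => ?_) fun h => ?_)
      · exact iff_congr (mem_stabilizer_set.1 hg y) (mem_stabilizer_set.1 hg y')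
      · have h1 := hXr ⟨r, hr⟩ y
        have h2 := hXr ⟨r, hr⟩ y'
        change ((⟨r, hr⟩ : R) • y ∈ X ↔ (⟨r, hr⟩ : R) • y' ∈ X) ↔ _
        rw [h1, h2]
        exact iff_iff_cancel _ _ _
      · obtain ⟨g, hg, h1, h2⟩ := exists_even_fix h5 he'.2.2 (hne ho hy).symm
        have := h hg o e
        rw [h1, h2] at this
        exact hy ((this.2 (iff_of_true ho he)).1 ho)
    obtain ⟨g, hg, hgx, hgo⟩ := dbl hzz hz (hne hxX hy).symm hyz
    have hin : ∀ i ∈ X, i ≠ e → swap o e * swap e i ∈ alternatingGroup Ω ⊓ P := fun i hi hie =>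
      ⟨two_swap (Ne.symm he'.2.2) hie.symm, hHP ⟨two_swap (Ne.symm he'.2.2) hie.symm,
        mul_mem (Equiv.swap_mem_stabilizer.2 (iff_of_true ho he))
          (Equiv.swap_mem_stabilizer.2 (iff_of_true he hi))⟩⟩
    have hconj : ∀ g ∈ alternatingGroup Ω ⊓ P, g o = o → g e = e → ∀ i,
        swap o e * swap e i ∈ alternatingGroup Ω ⊓ P →
        swap o e * swap e (g i) ∈ alternatingGroup Ω ⊓ P := fun g hg h1 h2 i hi => by
      have := mul_mem (mul_mem hg hi) (inv_mem hg)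
      rwa [← mul_assoc, mul_swap_eq_swap_mul g, mul_assoc (swap _ _), mul_swap_eq_swap_mul g,
        h1, h2, ← mul_assoc, mul_inv_cancel_right] at this
    have hy1 := hconj g ⟨hg.1, hcen z hz hzc hg⟩
      (hgo o ho'.1 (hne ho hy) (hu o ho ho'.2).1 (hu o ho ho'.2).2)
      (hgo e he'.1 (hne he hy) (hu e he he'.2.1).1 (hu e he he'.2.1).2) x
      (hin x hxX (Ne.symm he'.1))
    rw [hgx] at hy1
    refine hP ((Cfsg.Lib.Alt.alt_le_of_arc (Ne.symm he'.2.2) inf_le_left fun i _ hie => ?_).trans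
      inf_le_right)
    by_cases hi : i ∈ X
    · exact hin i hi hie
    by_cases hiy : i = y
    · exact hiy ▸ hy1
    obtain ⟨w, hw, hw'⟩ := pick Xᶜ {y, i} (Finset.card_le_two.trans_lt (by omega))
    simp only [Finset.mem_insert, Finset.mem_singleton, not_or] at hw'
    have h1 := two_swap (Ne.symm hw'.2) (Ne.symm hw'.1)
    have := hconj (swap i w * swap y w) ⟨h1, hHP ⟨h1, mul_mem
        (Equiv.swap_mem_stabilizer.2 (iff_of_false hi hw))
        (Equiv.swap_mem_stabilizer.2 (iff_of_false hy hw))⟩⟩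
      (by rw [mul_apply, swap_apply_of_ne_of_ne (hne ho hy) (hne ho hw),
        swap_apply_of_ne_of_ne (hne ho hi) (hne ho hw)])
      (by rw [mul_apply, swap_apply_of_ne_of_ne (hne he hy) (hne he hw),
        swap_apply_of_ne_of_ne (hne he hi) (hne he hw)]) y hy1
    rwa [mul_apply, swap_apply_left, swap_apply_right] at this
  push Not at htr
  obtain ⟨y, hy⟩ := htr
  by_cases h3 : ∃ w, w ∉ orbit R x ∧ w ∉ orbit R y
  · exfalso
    obtain ⟨w, hwx, hwy⟩ := h3
    by_cases hc : Nat.card Ω = 2 * (orbit R x).ncard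
    · have h1 : insert w (orbit R y) ⊆ (orbit R x)ᶜ := by
        rintro u (rfl | hu)
        · exact hwx
        · intro h
          exact hy (by rw [← orbit_eq_iff.2 h, orbit_eq_iff.2 hu]; exact mem_orbit_self y)
      have h2 := Set.ncard_le_ncard h1
      rw [Set.ncard_insert_of_notMem hwy] at h2
      have h4 := Set.ncard_add_ncard_compl (orbit R x)
      obtain ⟨g, hg, e1, e2⟩ := exists_even h5 (orbit R x) (x := y) (y := w)
        (fun e => hwy (e ▸ mem_orbit_self y)) hy hwx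
      exact hwy (e1 ▸ key1 y (by omega) g hg (hst' x y hy ⟨hg, e2⟩))
    · obtain ⟨g, hg, e1, e2⟩ := exists_even h5 (orbit R y) (x := x) (y := w)
        (fun e => hwx (e ▸ mem_orbit_self x)) (hsym hy) hwy
      exact hwx (e1 ▸ key1 x hc g hg (hst' y x (hsym hy) ⟨hg, e2⟩))
  push Not at h3
  have hcompl : (orbit R x)ᶜ = orbit R y := by
    ext u
    refine ⟨h3 u, fun hu h => ?_⟩
    exact hy (by rw [← orbit_eq_iff.2 h, orbit_eq_iff.2 hu]; exact mem_orbit_self y)
  have h4 := Set.ncard_add_ncard_compl (orbit R x)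
  obtain ⟨a, ha⟩ := hcard x
  obtain ⟨b, hb⟩ := hcard y
  rw [hcompl, ha, hb] at h4
  have hk : ∀ k, Nat.card Ω = 2 ^ k + 1 → 2 ≤ k := fun k hk => by
    by_contra h
    have : k < 2 := by omega
    interval_cases k <;> omega
  rcases Nat.eq_zero_or_pos a with rfl | ha0
  · exact ⟨b, hk b (by omega), by omega⟩
  rcases Nat.eq_zero_or_pos b with rfl | hb0
  · exact ⟨a, hk a (by omega), by omega⟩
  exfalso
  have hab : Nat.card Ω ≠ 2 * (orbit R x).ncard := fun h =>
    hy (hT ⟨a + 1, by rw [h, ha, pow_succ, mul_comm]⟩ x y)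
  have ha2 : 2 ≤ 2 ^ a := Nat.le_self_pow ha0.ne' 2
  have hb2 : 2 ≤ 2 ^ b := Nat.le_self_pow hb0.ne' 2
  have hmv : ∀ w : Ω, ∃ r : R, r • w ≠ w := fun w => by
    have : 2 ≤ (orbit R w).ncard := by
      by_cases hw : w ∈ orbit R x
      · rw [orbit_eq_iff.2 hw]; omega
      · rw [orbit_eq_iff.2 (h3 w hw)]; omega
    obtain ⟨_, ⟨r, rfl⟩, hr⟩ := pick (orbit R w) {w} (by simp; omega)
    exact ⟨r, by simpa using hr⟩
  obtain ⟨z, hzz, hz, hzc⟩ := exists_inv hR hmv
  obtain ⟨v, hv, hvz⟩ := pick (orbit R y) {z x} (by simp; omega)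
  rw [← hcompl] at hv
  obtain ⟨g, hg, hgx, -⟩ := dbl hzz hz (x := x) (y := v) (fun e => hv (by rw [e]; exact mem_orbit_self x))
    (by simpa using hvz)
  exact hv (hgx ▸ key1 x hab g hg.1 (hcen z hz hzc hg))

omit [Fintype Ω] [DecidableEq Ω] in
theorem ncard_orbit {G : Type*} [Group G] [MulAction G Ω] (H : Subgroup G) (x : Ω) :
    (orbit H x).ncard = (stabilizer G x).relIndex H :=
  (index_stabilizer H x).symm

omit [Fintype Ω] [DecidableEq Ω] in
theorem sylow_orbit {G : Type*} [Group G] [Finite G] [MulAction G Ω] (R : Sylow 2 G)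
    (H : Subgroup G) (hH : (R : Subgroup G) ≤ H) (x : Ω) {k : ℕ} (h : 2 ^ k ∣ (orbit H x).ncard) :
    2 ^ k ∣ (orbit (R : Subgroup G) x).ncard := by
  rw [ncard_orbit] at h ⊢
  have h1 := relIndex_mul_relIndex (stabilizer G x ⊓ R) R H inf_le_right hH
  have h2 := relIndex_dvd_of_le_left H (inf_le_left : stabilizer G x ⊓ R ≤ _)
  rw [inf_relIndex_right] at h1
  have h3 : ¬ 2 ∣ (R : Subgroup G).relIndex H := fun h =>
    R.not_dvd_index (h.trans (relIndex_dvd_index_of_le hH))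
  exact (Nat.Coprime.pow_left k (Nat.prime_two.coprime_iff_not_dvd.2 h3)).dvd_of_dvd_mul_right
    (h1 ▸ h.trans h2)

end Cfsg.Lib.CharDeg.SylAlt
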