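import Cfsg.Agent.Lib.CharDeg.FS
import Cfsg.Agent.Lib.CharDeg.Ito
import Cfsg.Agent.Lib.PGroup.Commutator

/-!
# Groups with two character degrees
-/

set_option autoImplicit false

namespace Cfsg.Lib.CharDeg

open Cfsg.Lib.Char Cfsg.Lib.Clifford Cfsg.Lib.Induce Cfsg.Lib.Core Subgroup
open scoped commutatorElement

universe u

variable {G : Type*} [Group G] [Finite G]

theorem charDegree_mul {χ ψ : G → ℂ} (hχ : IsCharacter G χ) (hψ : IsCharacter G ψ) :
    charDegree (χ * ψ) = charDegree χ * charDegree ψ :=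
  charDegree_eq_of_apply_one (by simp [hχ.apply_one_eq, hψ.apply_one_eq])

omit [Finite G] in
theorem charDegree_hom (lam : G →* ℂˣ) : charDegree (fun g => (lam g : ℂ)) = 1 :=
  charDegree_eq_of_apply_one (by simp)

theorem eq_of_le_of_index_le {H K : Subgroup G} (h : H ≤ K) (hi : H.index ≤ K.index) : H = K := by
  refine eq_of_le_of_card_ge h (Nat.le_of_mul_le_mul_left ?_
    (Nat.pos_of_ne_zero (index_ne_zero_of_finite (H := H))))
  rw [index_mul_card, ← K.index_mul_card]
  exact Nat.mul_le_mul_right _ hi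

/-- Gallagher's theorem and the Clifford correspondence, for degrees. -/
theorem mul_mem_cd_of_extension (N : Subgroup G) [N.Normal] {θ : N → ℂ} (hθ : IsIrrCharacter N θ)
    {T : Subgroup G} (hNT : N ≤ T) (hT : inertia N θ ≤ T) {η : T → ℂ} (hη : IsCharacter T η)
    (hext : ∀ n : N, η ⟨n, hNT n.2⟩ = θ n) {n : ℕ} (hn : n ∈ cd (T ⧸ N.subgroupOf T)) :
    T.index * (n * charDegree θ) ∈ cd G := by
  have := Fintype.ofFinite G
  have := Fintype.ofFinite N
  obtain ⟨β, hβ, rfl⟩ := mem_cd'.1 hn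
  have h1 : (fun n : N => η ⟨n, hNT n.2⟩) = θ := funext hext
  have h2 : IsIrrCharacter (N.subgroupOf T) (fun x => η x) :=
    (isIrrCharacter_res_subgroupOf_iff hNT).2 (h1 ▸ hθ)
  have h3 := isIrrCharacter_inflate_mul (N.subgroupOf T) hη h2 hβ
  have h4 : (fun n : N => ((fun g : T => β (g : T ⧸ N.subgroupOf T)) * η) ⟨n, hNT n.2⟩) =
      β 1 • θ := funext fun n => by
    rw [Pi.mul_apply, hext, (QuotientGroup.eq_one_iff (⟨n, hNT n.2⟩ : T)).2 (mem_subgroupOf.2 n.2)]
    rfl
  have h5 := isIrrCharacter_indFun_of_over N hNT hθ hT h3 (by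
    rw [h4, classInner_smul_left, hθ.inner_self, mul_one]; exact hβ.apply_one_ne_zero)
  convert charDegree_mem_cd h5 using 1
  rw [charDegree_indFun' T h3.isCharacter, charDegree_mul hβ.isCharacter.inflate hη]
  congr 2
  exact charDegree_congr (hext 1).symm

omit [Finite G] in
theorem isNilpotent_quotient_inf (N M : Subgroup G) [N.Normal] [M.Normal]
    (h1 : Group.IsNilpotent (G ⧸ N)) (h2 : Group.IsNilpotent (G ⧸ M)) :
    Group.IsNilpotent (G ⧸ (N ⊓ M)) := by
  have e : ((QuotientGroup.mk' N).prod (QuotientGroup.mk' M)).ker = N ⊓ M := by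
    rw [MonoidHom.ker_prod, QuotientGroup.ker_mk', QuotientGroup.ker_mk']
  have := isNilpotent_of_injective _
    (QuotientGroup.kerLift_injective ((QuotientGroup.mk' N).prod (QuotientGroup.mk' M)))
  exact Group.nilpotent_of_mulEquiv (QuotientGroup.quotientMulEquivOfEq e)

omit [Finite G] in
theorem le_of_le_commutator_sup_of_nilpotent {A K : Subgroup G} [A.Normal] [K.Normal]
    (h1 : Group.IsNilpotent (G ⧸ A)) (h : K ≤ ⁅K, ⊤⁆ ⊔ A) : K ≤ A := by
  rw [← map_mk'_eq_bot_iff]
  by_contra h0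
  have := PGroup.commutator_top_lt (K.map (QuotientGroup.mk' A)) h0
  rw [← map_top_of_surjective _ (QuotientGroup.mk'_surjective A), ← map_commutator] at this
  exact this.not_ge ((map_mk'_le_map_mk'_iff A _ _).2 h)

theorem exists_complement_of_forall_dvd (m : ℕ)
    (h : ∀ p : ℕ, p.Prime → p ∣ m → ∀ n ∈ cd G, n ≠ 1 → p ∣ n) :
    ∃ A : Subgroup G, ∃ _ : A.Normal, (Nat.card A).Coprime m ∧ Group.IsNilpotent (G ⧸ A) ∧
      ∀ q : ℕ, q.Prime → q ∣ A.index → q ∣ m := by
  obtain ⟨A, -, ⟨hA, h1, h2⟩, h3⟩ := exists_minimal_le (P := fun A : Subgroup G =>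
    ∃ _ : A.Normal, Group.IsNilpotent (G ⧸ A) ∧ ∀ q : ℕ, q.Prime → q ∣ A.index → q ∣ m) (H := ⊤)
    ⟨inferInstance, by
      have := QuotientGroup.subsingleton_quotient_top (G := G)
      infer_instance, fun q hq h => by rw [index_top] at h; exact absurd h hq.not_dvd_one⟩
  refine ⟨A, hA, Nat.coprime_of_dvd fun p hp h4 h5 => ?_, h1, h2⟩
  haveI := Fact.mk hp
  obtain ⟨N, _, h6, h7⟩ := exists_complement_of_cd (h p hp h5)
  have h8 := h3 (N ⊓ A) ⟨inferInstance, isNilpotent_quotient_inf _ _ h7.isNilpotent h1,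
    fun q hq h => by
      rw [← relIndex_mul_index inf_le_right, inf_relIndex_right] at h
      rcases (Nat.Prime.dvd_mul hq).1 h with h | h
      · obtain ⟨k, hk⟩ := h7.exists_card_eq
        have := h.trans (relIndex_dvd_index_of_normal N A)
        rw [index, hk] at this
        rwa [(Nat.prime_dvd_prime_iff_eq hq hp).1 (hq.dvd_of_dvd_pow this)]
      · exact h2 q hq h⟩ inf_le_right
  exact coprime_iff_not_dvd.1 (coprime_of_le (h8 ▸ inf_le_left) h6) h4

theorem exists_abelian_complement_of_cd_two {m : ℕ} (h : ∀ n ∈ cd G, n = 1 ∨ n = m) :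
    ∃ A : Subgroup G, ∃ _ : A.Normal, (Nat.card A).Coprime m ∧ Group.IsNilpotent (G ⧸ A) ∧
      (∀ q : ℕ, q.Prime → q ∣ A.index → q ∣ m) ∧ ∀ a ∈ A, ∀ b ∈ A, a * b = b * a := by
  obtain ⟨A, _, h1, h2, h3⟩ := exists_complement_of_forall_dvd (G := G) m
    fun p _ hp n hn h1 => ((h n hn).resolve_left h1) ▸ hp
  refine ⟨A, inferInstance, h1, h2, h3, comm_subgroup_of_cd fun n hn => ?_⟩
  obtain ⟨k, -, hk⟩ := exists_mem_cd_of_normal A hn
  rcases h _ hk with h4 | h4
  · exact Nat.eq_one_of_mul_eq_one_left h4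
  · exact Nat.eq_one_of_dvd_coprimes h1 (dvd_card_of_mem_cd hn) (h4 ▸ Dvd.intro_left k rfl)

theorem derivedSeries_eq_bot_of_comm_by_nilpotent (A : Subgroup G) [A.Normal]
    (hA : ∀ a ∈ A, ∀ b ∈ A, a * b = b * a) (hn : Group.IsNilpotent (G ⧸ A)) {n : ℕ}
    (h : (cd G).card ≤ n) : derivedSeries G n = ⊥ := by
  have := Fintype.ofFinite G
  exact derivedSeries_eq_bot_of_monomial
    (fun χ hχ => isMonomial_of_comm_by_nilpotent A hA hn hχ) h

theorem derivedSeries_two_eq_bot_of_cd {m : ℕ} (h : ∀ n ∈ cd G, n = 1 ∨ n = m) :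
    derivedSeries G 2 = ⊥ := by
  obtain ⟨A, _, -, h2, -, h4⟩ := exists_abelian_complement_of_cd_two h
  refine derivedSeries_eq_bot_of_comm_by_nilpotent A h4 h2 ?_
  exact (Finset.card_le_card (t := {1, m}) fun n hn => by simpa using h n hn).trans
    Finset.card_le_two

omit [Finite G] in
theorem mem_inertia_hom {A : Subgroup G} [hA : A.Normal] {lam : A →* ℂˣ} {g : G} :
    g ∈ inertia A (fun a => (lam a : ℂ)) ↔
      ∀ a : A, lam ⟨g * a * g⁻¹, hA.conj_mem _ a.2 g⟩ = lam a := by
  simp only [mem_inertia_iff, Units.val_inj]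

theorem mem_centralizer_of_forall_inertia {A : Subgroup G} [A.Normal]
    (hA : ∀ a ∈ A, ∀ b ∈ A, a * b = b * a) {g : G}
    (h : ∀ lam : A →* ℂˣ, g ∈ inertia A (fun a => (lam a : ℂ))) : g ∈ centralizer (A : Set G) := by
  haveI : IsMulCommutative A := ⟨⟨fun a b => Subtype.ext (hA a a.2 b b.2)⟩⟩
  rw [mem_centralizer_iff]
  intro a ha
  have h1 : IsConj (⟨g * a * g⁻¹, ‹A.Normal›.conj_mem _ ha g⟩ : A) ⟨a, ha⟩ :=
    isConj_of_forall_irr fun θ hθ => by
      obtain ⟨lam, rfl⟩ := hθ.exists_hom_of_comm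
      exact (mem_inertia_iff A).1 (h lam) ⟨a, ha⟩
  obtain ⟨c, hc⟩ := isConj_iff.1 h1
  have h2 : c * (g * a * g⁻¹) * (c : G)⁻¹ = a := congrArg Subtype.val hc
  rw [hA c c.2 _ (‹A.Normal›.conj_mem _ ha g), mul_inv_cancel_right] at h2
  exact (mul_inv_eq_iff_eq_mul.1 h2).symm

theorem exists_abelian_index_or_central {m : ℕ} (h : ∀ n ∈ cd G, n = 1 ∨ n = m)
    {A : Subgroup G} [hAn : A.Normal] (hcop : (Nat.card A).Coprime A.index)
    (hnil : Group.IsNilpotent (G ⧸ A)) (hA : ∀ a ∈ A, ∀ b ∈ A, a * b = b * a) :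
    (∃ T : Subgroup G, T.Normal ∧ (∀ a ∈ T, ∀ b ∈ T, a * b = b * a) ∧ T.index = m) ∨
      A ≤ center G := by
  let I : (A →* ℂˣ) → Subgroup G := fun lam => inertia A (fun a => (lam a : ℂ))
  have hAI : ∀ lam, A ≤ I lam := fun lam =>
    le_inertia A (isIrrCharacter_hom lam).isClassFunction
  have h1 : ∀ lam, I lam ≠ ⊤ → (I lam).index = m ∧ ⁅I lam, I lam⁆ ≤ A := fun lam h0 => by
    obtain ⟨η, h2, h3⟩ := exists_extension_le_of_coprime A (hAI lam) (isIrrCharacter_hom lam) le_rfl
      (hcop.coprime_dvd_right (relIndex_dvd_index_of_normal _ _))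
    have h4 : ∀ n ∈ cd (I lam ⧸ A.subgroupOf (I lam)), (I lam).index * n = m := fun n hn => by
      have := mul_mem_cd_of_extension A (isIrrCharacter_hom lam) (hAI lam) le_rfl
        h2.isCharacter h3 hn
      rw [charDegree_hom, mul_one] at this
      exact (h _ this).resolve_left fun h => h0 (index_eq_one.1 (Nat.eq_one_of_mul_eq_one_right h))
    have h5 := h4 1 one_mem_cd
    rw [mul_one] at h5
    refine ⟨h5, ?_⟩
    have h6 := (commutator_le_iff_cd (A.subgroupOf (I lam))).2 fun n hn => by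
      have := h4 n hn
      rw [← h5] at this
      exact (Nat.mul_eq_left index_ne_zero_of_finite).1 this
    rw [← map_subtype_le_iff, map_subtype_commutator] at h6
    exact h6
  have h2 : ∀ lam, _root_.commutator G ≤ I lam := fun lam => by
    by_cases h0 : I lam = ⊤
    · simp [h0]
    obtain ⟨h3, h4⟩ := h1 lam h0
    set K := ⁅_root_.commutator G, ⊤⁆ ⊔ A
    by_cases h5 : _root_.commutator G ≤ K
    · exact (le_of_le_commutator_sup_of_nilpotent hnil h5).trans (hAI lam)
    rw [commutator_le_iff_cd] at h5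
    push Not at h5
    obtain ⟨n, h5, h6⟩ := h5
    obtain rfl := (h n (cd_quotient_subset K h5)).resolve_left h6
    have h7 := le_index_of_comm (H := (I lam ⊔ _root_.commutator G).map (QuotientGroup.mk' K))
      (by
        have e : ⁅I lam ⊔ _root_.commutator G, I lam ⊔ _root_.commutator G⁆ ≤ K := by
          refine commutator_sup_le le_normalizer_of_normal le_normalizer_of_normal ?_
            ((commutator_mono le_rfl le_top).trans le_sup_left)
          rw [commutator_comm]
          exact commutator_sup_le le_normalizer_of_normal le_normalizer_of_normal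
            (h4.trans le_sup_right) ((commutator_mono le_rfl le_top).trans le_sup_left)
        rw [commutator_le_iff_map_mk', eq_bot_iff, commutator_le] at e
        exact fun a ha b hb => commutatorElement_eq_one_iff_mul_comm.1 (e a ha b hb)) h5
    rw [index_map_eq _ (QuotientGroup.mk'_surjective K) (by
      rw [QuotientGroup.ker_mk']
      exact sup_le ((commutator_le_left _ _).trans le_sup_right)
        ((hAI lam).trans le_sup_left)), ← h3] at h7
    exact eq_of_le_of_index_le le_sup_left h7 ▸ le_sup_right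
  have h3 : ∀ lam mu, I lam ≠ ⊤ → I mu ≠ ⊤ → I lam ≤ I mu := by
    intro lam mu hl hm
    let c : G →* MulAut A := MulAut.conjNormal
    have hI : ∀ lam g, g ∈ I lam ↔ ∀ a, lam (c g a) = lam a := fun lam g => mem_inertia_hom
    by_contra h0
    have h4 : I (lam * mu) ≠ ⊤ := fun h => h0 fun t ht => (hI _ _).2 fun a => by
      have := (hI _ _).1 (h.ge (mem_top t)) a
      rw [MonoidHom.mul_apply, MonoidHom.mul_apply, (hI _ _).1 ht] at this
      exact mul_left_cancel this
    have key : ∀ lam u t a, t ∈ I lam → lam (c u (c t a)) = lam (c u a) := fun lam u t a ht => by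
      have := (hI _ _).1 ((Normal.of_commutator_le G (h2 lam)).conj_mem _ ht u) (c u a)
      rwa [← MulAut.mul_apply, ← map_mul, inv_mul_cancel_right, map_mul, MulAut.mul_apply] at this
    have h5 : I (lam * mu) ≤ I lam ⊓ I mu := fun u hu => by
      have e := (hI _ _).1 hu
      simp only [MonoidHom.mul_apply] at e
      let ν : A →* ℂˣ := lam.comp (c u).toMonoidHom * lam⁻¹
      have e1 : ∀ a, ν a = lam (c u a) * (lam a)⁻¹ := fun a => rfl
      have e2 : ∀ a, ν a = mu a * (mu (c u a))⁻¹ := fun a => by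
        rw [e1, mul_inv_eq_iff_eq_mul, mul_right_comm, eq_mul_inv_iff_mul_eq, e, mul_comm]
      have h6 : I lam ≤ I ν := fun t ht => (hI _ _).2 fun a => by
        rw [e1, e1, key _ _ _ _ ht, (hI _ _).1 ht]
      have h7 : I mu ≤ I ν := fun t ht => (hI _ _).2 fun a => by
        rw [e2, e2, key _ _ _ _ ht, (hI _ _).1 ht]
      have h8 : I ν = ⊤ := by
        by_contra h8
        exact h0 (h6.trans (eq_of_le_of_index_le h7 ((h1 _ hm).1.trans (h1 _ h8).1.symm).le).ge)
      have h9 : ∀ (k : ℕ) a, lam (c (u ^ k) a) = lam a * ν a ^ k := fun k => by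
        induction k with
        | zero => simp
        | succ k ih =>
          intro a
          rw [pow_succ, map_mul, MulAut.mul_apply, ih, (hI _ _).1 (h8.ge (mem_top u)), pow_succ',
            ← mul_assoc, e1 a, mul_comm (lam a), inv_mul_cancel_right]
      have h10 : ∀ a, ν a = 1 := fun a => by
        have e3 := h9 A.index a
        rw [(hI _ _).1 (hAI lam (A.pow_index_mem u)), left_eq_mul] at e3
        have e4 : ν a ^ Nat.card A = 1 := by rw [← map_pow, pow_card_eq_one', map_one]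
        rw [← orderOf_eq_one_iff]
        exact Nat.eq_one_of_dvd_coprimes hcop (orderOf_dvd_of_pow_eq_one e4)
          (orderOf_dvd_of_pow_eq_one e3)
      exact ⟨(hI _ _).2 fun a => mul_inv_eq_one.1 ((e1 a).symm.trans (h10 a)),
        (hI _ _).2 fun a => (mul_inv_eq_one.1 ((e2 a).symm.trans (h10 a))).symm⟩
    exact h0 ((eq_of_le_of_index_le (h5.trans inf_le_left)
      ((h1 _ h4).1.trans (h1 _ hl).1.symm).le).ge.trans (h5.trans inf_le_right))
  by_cases h4 : ∀ lam, I lam = ⊤
  · right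
    intro a ha
    rw [mem_center_iff]
    intro g
    exact (mem_centralizer_of_forall_inertia hA (g := g)
      (fun lam => (h4 lam).ge (mem_top g)) a ha).symm
  push Not at h4
  obtain ⟨lam, h4⟩ := h4
  obtain ⟨h5, h6⟩ := h1 lam h4
  have h7 : I lam ≤ centralizer (A : Set G) := fun g hg =>
    mem_centralizer_of_forall_inertia hA fun mu => by
      by_cases h0 : I mu = ⊤
      · exact h0.ge (mem_top g)
      · exact h3 lam mu h4 h0 hg
  refine Or.inl ⟨I lam, Normal.of_commutator_le G (h2 lam), fun a ha b hb => ?_, h5⟩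
  have h8 : ⁅a, b⁆ ∈ A := h6 (commutator_mem_commutator ha hb)
  have h9 : ⁅a, b⁆ ^ A.index = 1 := by
    rw [← PGroup.commutator_pow_left_of_commute (h7 ha _ h8).symm,
      commutatorElement_eq_one_iff_mul_comm]
    exact h7 hb _ (A.pow_index_mem a)
  have h10 : ⁅a, b⁆ ^ Nat.card A = 1 :=
    congrArg Subtype.val (pow_card_eq_one' (x := (⟨_, h8⟩ : A)))
  rw [← commutatorElement_eq_one_iff_mul_comm, ← orderOf_eq_one_iff]
  exact Nat.eq_one_of_dvd_coprimes hcop (orderOf_dvd_of_pow_eq_one h10)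
    (orderOf_dvd_of_pow_eq_one h9)

theorem sup_eq_top_of_coprime_index {H K : Subgroup G} (h : H.index.Coprime K.index) :
    H ⊔ K = ⊤ :=
  index_eq_one.1 (Nat.eq_one_of_dvd_coprimes h (index_dvd_of_le le_sup_left)
    (index_dvd_of_le le_sup_right))

/-- Isaacs' theorem on groups with two character degrees. -/
theorem cd_two_structure {m : ℕ} (h : ∀ n ∈ cd G, n = 1 ∨ n = m) (hm : m ∈ cd G) (hm1 : m ≠ 1) :
    (∃ A : Subgroup G, A.Normal ∧ (∀ a ∈ A, ∀ b ∈ A, a * b = b * a) ∧ A.index = m) ∨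
      ∃ p e : ℕ, p.Prime ∧ m = p ^ e ∧ ∃ P A : Subgroup G, P.Normal ∧ A.Normal ∧ IsPGroup p P ∧
        (∀ a ∈ A, ∀ b ∈ A, a * b = b * a) ∧ P ⊓ A = ⊥ ∧ P ⊔ A = ⊤ := by
  obtain ⟨A, _, h1, h2, h3, h4⟩ := exists_abelian_complement_of_cd_two h
  have hcop : (Nat.card A).Coprime A.index := Nat.coprime_of_dvd fun q hq h5 h6 =>
    hq.not_dvd_one (h1 ▸ Nat.dvd_gcd h5 (h3 q hq h6))
  refine (exists_abelian_index_or_central h hcop h2 h4).imp_right fun h5 => ?_
  have hG : Group.IsNilpotent G :=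
    Subgroup.isNilpotent_of_ker_le_center (QuotientGroup.mk' A) (by rwa [QuotientGroup.ker_mk'])
  obtain ⟨p, hp, hpm⟩ := Nat.exists_prime_and_dvd hm1
  haveI := Fact.mk hp
  obtain ⟨N, _, h6, h7⟩ := exists_complement_of_cd (G := G) (p := p)
    fun n hn h1 => ((h n hn).resolve_left h1) ▸ hpm
  obtain ⟨P⟩ : Nonempty (Sylow p G) := inferInstance
  have h8 : (P : Subgroup G) ⊓ N = ⊥ := inf_eq_bot_of_isPGroup_of_coprime P.isPGroup' h6
  have h9 : m ∈ cd (G ⧸ N) := by
    by_contra h9
    have h10 := (commutator_le_iff_cd N).2 fun n hn =>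
      (h n (cd_quotient_subset N hn)).resolve_right fun e => h9 (e ▸ hn)
    refine P.not_dvd_index (hpm.trans (dvd_index_of_comm (fun a ha b hb => ?_) hm))
    rw [← commutatorElement_eq_one_iff_mul_comm, ← mem_bot, ← h8]
    exact mem_inf.2 ⟨mul_mem (mul_mem (mul_mem ha hb) (inv_mem ha)) (inv_mem hb),
      h10 (commutator_mem_commutator (mem_top a) (mem_top b))⟩
  obtain ⟨e, he⟩ := exists_eq_pow_of_mem_cd hp h7 h9
  have h10 := (commutator_le_iff_cd (P : Subgroup G)).2 fun n hn =>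
    (h n (cd_quotient_subset _ hn)).resolve_right fun e =>
      P.not_dvd_index (hpm.trans (e ▸ dvd_card_of_mem_cd hn))
  refine ⟨p, e, hp, he, P, N, inferInstance, inferInstance, P.isPGroup', fun a ha b hb => ?_, h8,
    sup_eq_top_of_coprime_index ?_⟩
  · rw [← commutatorElement_eq_one_iff_mul_comm, ← mem_bot, ← h8]
    exact mem_inf.2 ⟨h10 (commutator_mem_commutator (mem_top a) (mem_top b)),
      mul_mem (mul_mem (mul_mem ha hb) (inv_mem ha)) (inv_mem hb)⟩
  · obtain ⟨k, hk⟩ := h7.exists_card_eq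
    rw [N.index_eq_card, hk]
    exact (coprime_iff_not_dvd.2 P.not_dvd_index).pow_right k

end Cfsg.Lib.CharDeg
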