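import Cfsg.Agent.Lib.Char.DefectZero
import Cfsg.Agent.Lib.Char.Burnside
import Cfsg.Agent.Lib.Char.Product
import Cfsg.Agent.Lib.Induce.Character
import Cfsg.Prelude.Def_DegreeGraph

/-!
# Principal series of a rank one group of order `6048`
-/

set_option autoImplicit false

namespace Cfsg.Lib.CharDeg.U33

open Cfsg.Lib.Char Cfsg.Lib.Induce Finset
open scoped ComplexConjugate

variable {G : Type*} [Group G] [Fintype G] {B : Subgroup G} [Fintype B]

theorem mackey_two {w : G} (hc : ∀ g, g ∉ B → ∃ c ∈ B, ∃ v ∈ B, g = c * w * v) {θ φ : B → ℂ}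
    (hθ : IsClassFunction B θ) (hφ : IsClassFunction B φ) :
    classInner (indFun B θ) (indFun B φ) = classInner θ φ + ((B.index : ℂ) - 1) / Nat.card B *
      ∑ b : B, θ b * conj (extendByZero B φ (w⁻¹ * b * w)) := by
  classical
  let f : G → ℂ := fun x => ∑ b : B, θ b * conj (extendByZero B φ (x⁻¹ * b * x))
  have hf : ∀ x, ∀ c ∈ B, ∀ v ∈ B, f (c * x * v) = f x := fun x c hc v hv => by
    refine Fintype.sum_equiv (MulAut.conj (⟨c, hc⟩ : B)⁻¹).toEquiv _ _ fun b => ?_
    change _ = θ ((⟨c, hc⟩ : B)⁻¹ * b * (⟨c, hc⟩ : B)⁻¹⁻¹) * conj (extendByZero B φ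
      (x⁻¹ * (c⁻¹ * b * c⁻¹⁻¹) * x))
    rw [hθ b, ← extendByZero_conj_mem' B hφ hv (x⁻¹ * (c⁻¹ * b * c⁻¹⁻¹) * x)]
    congr 3
    group
  have h1 : ∑ x, f x = Nat.card B * f 1 + ((Nat.card G : ℂ) - Nat.card B) * f w := by
    rw [sum_congr rfl (g := fun x => f w + if x ∈ B then f 1 - f w else 0) fun x _ => ?_,
      sum_add_distrib, sum_ite_mem_eq_sum_subgroup B fun _ => f 1 - f w]
    · simp only [sum_const, card_univ, nsmul_eq_mul, Nat.card_eq_fintype_card]; ring
    · split_ifs with h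
      · have := hf 1 x h 1 B.one_mem
        rw [mul_one, mul_one] at this
        rw [this]; ring
      · obtain ⟨c, hc, v, hv, rfl⟩ := hc x h
        rw [hf w c hc v hv, add_zero]
  have h2 : f 1 = Nat.card B * classInner θ φ := by
    rw [card_mul_classInner]
    exact sum_congr rfl fun b _ => by rw [inv_one, one_mul, mul_one, extendByZero_coe]
  have h3 : classInner (indFun B θ) (indFun B φ) = (Nat.card B : ℂ)⁻¹ * (Nat.card B : ℂ)⁻¹ * ∑ x, f x := by
    rw [frobenius_reciprocity B θ (isClassFunction_indFun B φ), classInner_def, mul_assoc]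
    congr 1
    simp only [indFun_apply, map_mul, map_inv₀, map_natCast, map_sum, f, mul_sum]
    rw [sum_comm]
    exact sum_congr rfl fun _ _ => sum_congr rfl fun _ _ => by ring
  have h4 := card_ne_zero_complex B
  have h5 : (Nat.card G : ℂ) = Nat.card B * B.index := by exact_mod_cast B.card_mul_index.symm
  rw [h3, h1, h2, h5]
  change _ = _ + _ * f w
  field_simp

theorem exists_half {ι : Type*} (s : Finset ι) (f : ι → ℂ) (hf : ∀ i, IsIntegral ℤ (f i)) (g : ι → ι)
    (h1 : ∀ i ∈ s, f (g i) = f i) (h2 : ∀ i ∈ s, g i ≠ i) (h3 : ∀ i ∈ s, g i ∈ s)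
    (h4 : ∀ i ∈ s, g (g i) = i) : IsIntegral ℤ ((∑ i ∈ s, f i) / 2) := by
  let A : AddSubgroup ℂ := (integralClosure ℤ ℂ).toSubring.toAddSubgroup.comap
    (AddMonoidHom.mulRight 2⁻¹)
  have := sum_involution (s := s) (f := fun i => QuotientAddGroup.mk' A (f i)) (fun i _ => g i)
    (fun i hi => by
      rw [← map_add, h1 i hi]
      refine (QuotientAddGroup.eq_zero_iff _).2 ?_
      change IsIntegral ℤ ((f i + f i) * 2⁻¹)
      convert hf i using 1
      ring) (fun i hi _ => h2 i hi) h3 h4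
  rw [← map_sum] at this
  exact (QuotientAddGroup.eq_zero_iff _).1 this

theorem ne_two [IsSimpleGroup G] {U : Subgroup G} (hU : Odd (Nat.card U)) {a b : G} (ha : a ∈ U)
    (hb : b ∈ U) (hab : a * b ≠ b * a) {χ : G → ℂ} (hχ : IsIrrCharacter G χ) : charDegree χ ≠ 2 := by
  intro h
  have := Fintype.ofFinite U
  have h1 : χ ≠ fun _ => 1 := by rintro rfl; simp at h
  have hr := hχ.isCharacter.restrict U
  let x : U := ⟨a, ha⟩
  let y : U := ⟨b, hb⟩
  have h2 : χ (x * y * x⁻¹ * y⁻¹ : U) = χ (1 : U) := by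
    rw [hr.isClassFunction.apply_eq_sum_irr, hr.isClassFunction.apply_eq_sum_irr 1]
    refine sum_congr rfl fun ψ _ => ?_
    by_cases e : classInner (fun u : U => χ u) ψ = 0
    · rw [e, zero_mul, zero_mul]
    have h3 := hr.charDegree_le_of_constituent ψ.2 e
    rw [charDegree_congr (χ := fun u : U => χ u) (ψ := χ) rfl, h] at h3
    have h4 := hU.of_dvd_nat ψ.2.charDegree_dvd_card
    have h5 : charDegree (ψ : U → ℂ) = 1 := by obtain ⟨k, hk⟩ := h4; omega
    obtain ⟨l, hl⟩ := ψ.2.isCharacter.exists_hom_of_apply_one (ψ.2.isCharacter.charDegree_eq_one_iff.1 h5)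
    rw [hl]
    simp [mul_right_comm]
  have h3 := hχ.isCharacter.mem_charKer_iff.2 h2
  rw [hχ.charKer_eq_bot_of_isSimpleGroup h1, Subgroup.mem_bot] at h3
  exact hab (by simpa [x, y, mul_inv_eq_iff_eq_mul] using h3)

/-- The data of a rank one group of order `6048`. -/
structure Dat (B : Subgroup G) (C : Type*) [CommGroup C] where
  τ : B →* C
  ι : C →* B
  w : G
  sec : ∀ a, τ (ι a) = a
  cG : Nat.card G = 6048
  cB : Nat.card B = 216
  cC : Nat.card C = 8
  dc : ∀ g, g ∉ B → ∃ c ∈ B, ∃ v ∈ B, g = c * w * v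
  tor : ∀ b : B, w⁻¹ * b * w ∈ B → ∃ a, b = ι a
  wt : ∀ a, w⁻¹ * ι a * w = ι (a ^ 5)
  real : ∀ u : B, τ u = 1 → IsConj (u : G) u⁻¹
  nab : ∃ a b : B, τ a = 1 ∧ τ b = 1 ∧ a * b ≠ b * a
  cyc : ∃ a : C, a ^ 5 ≠ a

namespace Dat

variable {C : Type*} [CommGroup C] [Fintype C] (D : Dat B C)

/-- The principal series. -/
noncomputable def I (μ : C → ℂ) : G → ℂ := indFun B fun b => μ (D.τ b)

omit [Fintype G] [Fintype B] [Fintype C] in
theorem surj : Function.Surjective D.τ := fun a => ⟨_, D.sec a⟩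

omit [Fintype B] [Fintype C] in
include D in
theorem index_eq : B.index = 28 := by
  have := B.card_mul_index
  rw [D.cG, D.cB] at this
  omega

omit [Fintype G] [Fintype B] [Fintype C] in
include D in
theorem pow_eight (a : C) : a ^ 8 = 1 := D.cC ▸ pow_card_eq_one'

omit [Fintype G] [Fintype B] [Fintype C] in
include D in
theorem pow_five (a : C) : (a ^ 5) ^ 5 = a := by
  rw [← pow_mul, show 5 * 5 = 8 * 3 + 1 from rfl, pow_succ, pow_mul, D.pow_eight, one_pow, one_mul]

omit [Fintype G] [Fintype B] [Fintype C] in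
include D in
theorem irr_five {μ : C → ℂ} (h : IsIrrCharacter C μ) : IsIrrCharacter C fun a => μ (a ^ 5) :=
  h.comp_surjective (powMonoidHom 5) fun a => ⟨_, D.pow_five a⟩

omit [Fintype G] [Fintype C] in
theorem card_ker : Nat.card D.τ.ker = 27 := by
  have := card_ker_mul_card_range' D.τ
  rw [MonoidHom.range_eq_top.2 D.surj, Subgroup.card_top, D.cC, D.cB] at this
  omega

omit [Fintype B] [Fintype C] in
theorem char_I {μ : C → ℂ} (h : IsIrrCharacter C μ) : IsCharacter G (D.I μ) :=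
  isCharacter_indFun B (h.isCharacter.comp D.τ)

omit [Fintype B] [Fintype C] in
theorem I_one {μ : C → ℂ} (h : IsIrrCharacter C μ) : D.I μ 1 = (28 : ℕ) := by
  rw [I, indFun_one, D.index_eq, map_one, h.apply_one_of_comm, mul_one]

theorem inner_I (l μ : C → ℂ) :
    classInner (D.I l) (D.I μ) = classInner l μ + classInner l fun a => μ (a ^ 5) := by
  classical
  have k : ∀ ν : C → ℂ, IsClassFunction B fun b => ν (D.τ b) := fun ν x y => by
    simp [mul_right_comm]
  rw [I, I, mackey_two D.dc (k l) (k μ), classInner_comp_surjective D.τ D.surj, D.index_eq, D.cB,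
    classInner_def l fun a => μ (a ^ 5), D.cC]
  congr 1
  rw [← sum_of_injOn (s := univ) (t := univ) (f := fun a => l a * conj (μ (a ^ 5)))
    (g := fun b : B => l (D.τ b) * conj (extendByZero B (fun b => μ (D.τ b)) (D.w⁻¹ * b * D.w)))
    D.ι (Function.LeftInverse.injective D.sec).injOn (by simp) (fun b _ hb => ?_) fun a _ => ?_]
  · norm_num
  · rw [extendByZero_of_not_mem, map_zero, mul_zero]
    intro h
    obtain ⟨a, rfl⟩ := D.tor b h
    exact hb ⟨a, by simp, rfl⟩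
  · rw [D.wt, extendByZero_coe, D.sec, D.sec]

theorem inner_I_one (l : C → ℂ) :
    classInner (D.I l) (fun _ => 1) = classInner l fun _ => 1 := by
  rw [I, classInner_indFun_one, ← classInner_comp_surjective D.τ D.surj]

theorem sum_inner [Fintype D.τ.ker] (χ : G → ℂ) (hχ : IsClassFunction G χ) :
    27 * ∑ μ : IrrCharacter C, classInner χ (D.I μ) = ∑ u : D.τ.ker, χ (u : B) := by
  classical
  have k : ∀ a : C, ∑ μ : IrrCharacter C, conj ((μ : C → ℂ) a) = if a = 1 then 8 else 0 := fun a => by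
    have := congrArg conj (sum_irr_apply_one_mul_apply a)
    simp only [map_sum, fun μ : IrrCharacter C => μ.2.apply_one_of_comm, one_mul, regChar_apply,
      D.cC] at this
    rw [this]
    split_ifs
    · exact map_natCast _ 8
    · exact map_zero _
  simp only [I, frobenius_reciprocity' B _ hχ, classInner_def, ← mul_sum]
  rw [sum_comm, ← sum_ite_mem_eq_sum_subgroup D.τ.ker fun b : B => χ b, D.cB, ← mul_assoc, mul_sum]
  refine sum_congr rfl fun b _ => ?_
  rw [← mul_sum, k]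
  simp only [MonoidHom.mem_ker]
  split_ifs
  · push_cast; ring
  · simp

theorem parity {χ : G → ℂ} (hχ : IsCharacter G χ) {n : ℕ}
    (hn : ∑ μ : IrrCharacter C, classInner χ (D.I μ) = n) : charDegree χ % 2 = n % 2 := by
  classical
  have h1 := D.sum_inner χ hχ.isClassFunction
  have ho : Odd (Nat.card D.τ.ker) := by rw [D.card_ker]; decide
  have h2 := exists_half (univ.erase (1 : D.τ.ker)) (fun u => χ (u : B)) (fun _ => hχ.isIntegral _)
    (fun u => u⁻¹) (fun u _ => (hχ.isClassFunction.eq_of_isConj (D.real u u.2)).symm)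
    (fun u hu e => ne_of_mem_erase hu (by
      have h3 : u ^ 2 = 1 := by rw [sq]; nth_rw 1 [← e]; exact inv_mul_cancel u
      exact orderOf_eq_one_iff.1 (Nat.eq_one_of_dvd_coprimes (Nat.coprime_two_left.2 ho)
        (orderOf_dvd_of_pow_eq_one h3) (orderOf_dvd_natCard u))))
    (fun u hu => by simpa using hu) fun u _ => inv_inv u
  rw [hn, ← add_sum_erase _ _ (mem_univ 1), ← sub_eq_iff_eq_add'] at h1
  rw [← h1] at h2
  have h3 := int_dvd_of_isIntegral_div (a := 27 * n - charDegree χ) (b := 2) (by norm_num) (by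
    convert h2 using 2
    · push_cast; rw [← hχ.apply_one_eq]
    · simp)
  omega

theorem decomp {l : C → ℂ} (hl : IsIrrCharacter C l) {χ : G → ℂ} (hχ : IsIrrCharacter G χ)
    (h : classInner (D.I l) χ ≠ 0) : D.I l = χ ∨ ((fun a => l (a ^ 5)) = l ∧
      ∃ ψ, IsIrrCharacter G ψ ∧ ψ ≠ χ ∧ D.I l = χ + ψ) := by
  have h1 := D.inner_I l l
  rw [hl.inner_self] at h1
  by_cases e : l = fun a => l (a ^ 5)
  · refine Or.inr ⟨e.symm, D.I l - χ, ?_⟩
    rw [← e, hl.inner_self] at h1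
    have h2 := (D.char_I hl).sub_irr hχ h
    obtain ⟨a, ha⟩ := h2.exists_inner_eq_nat hχ.isCharacter
    obtain ⟨b, hb⟩ := h2.exists_inner_eq_nat h2
    have h3 : D.I l = χ + (D.I l - χ) := by abel
    generalize D.I l - χ = φ at *
    rw [h3, classInner_add_left, classInner_add_right, classInner_add_right, hχ.inner_self,
      hχ.isCharacter.inner_comm h2, ha, hb] at h1
    have h4 : 1 + a + (a + b) = 1 + 1 := by exact_mod_cast h1
    refine ⟨h2.isIrrCharacter_of_inner_self (by rw [hb, show b = 1 by omega, Nat.cast_one]),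
      fun e => ?_, h3⟩
    rw [e, hχ.inner_self] at ha
    have : 1 = a := by exact_mod_cast ha
    omega
  · rw [hl.inner_eq_zero_of_ne (D.irr_five hl) e, add_zero] at h1
    exact Or.inl (((D.char_I hl).isIrrCharacter_of_inner_self h1).eq_of_inner_ne_zero hχ h)

omit [Fintype G] [Fintype B] in
include D in
theorem exists_reg : ∃ (l : C →* ℂˣ) (a : C), (l (a ^ 5) : ℂ) ≠ l a := by
  obtain ⟨a, ha⟩ := D.cyc
  by_contra! h
  refine ha (isConj_iff_eq.1 (isConj_of_forall_irr fun χ hχ => ?_))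
  obtain ⟨l, rfl⟩ := hχ.exists_hom_of_comm
  exact h l a

include D in
theorem exists_28 : ∃ χ, IsIrrCharacter G χ ∧ charDegree χ = 28 := by
  obtain ⟨l, a, h⟩ := D.exists_reg
  have hl := isIrrCharacter_hom l
  have h1 := D.inner_I (fun a => l a) fun a => l a
  rw [hl.inner_self, hl.inner_eq_zero_of_ne (D.irr_five hl) fun e => h (congrFun e a).symm,
    add_zero] at h1
  exact ⟨_, (D.char_I hl).isIrrCharacter_of_inner_self h1, charDegree_eq_of_apply_one (D.I_one hl)⟩

variable [IsSimpleGroup G]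

omit [Fintype B] [Fintype C] in
include D in
theorem eq_one_of_deg {χ : G → ℂ} (hχ : IsIrrCharacter G χ) (h : charDegree χ = 1) :
    χ = fun _ => 1 := by
  by_contra h1
  obtain ⟨a, b, -, -, hab⟩ := D.nab
  have h2 := hχ.charKer_eq_bot_of_isSimpleGroup h1
  obtain ⟨l, rfl⟩ := hχ.isCharacter.exists_hom_of_apply_one (hχ.isCharacter.charDegree_eq_one_iff.1 h)
  have h3 := (isCharacter_hom l).mem_charKer_iff.2
    (show (l (a * b * a⁻¹ * b⁻¹) : ℂ) = l 1 by simp [mul_right_comm])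
  rw [h2, Subgroup.mem_bot] at h3
  exact hab (Subtype.ext (by simpa [mul_inv_eq_iff_eq_mul] using h3))

theorem eq_one_of_add {l : C → ℂ} (hl : IsIrrCharacter C l) {χ ψ : G → ℂ} (hχ : IsIrrCharacter G χ)
    (hψ : IsIrrCharacter G ψ) (e : D.I l = χ + ψ) (h : charDegree χ = 1) : l = fun _ => 1 := by
  refine hl.eq_of_inner_ne_zero isIrrCharacter_one ?_
  obtain ⟨n, hn⟩ := hψ.isCharacter.exists_inner_eq_nat isCharacter_one
  rw [← D.inner_I_one, e, D.eq_one_of_deg hχ h, classInner_add_left, isIrrCharacter_one.inner_self, hn]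
  exact_mod_cast (by omega : 1 + n ≠ 0)

omit [Fintype B] [Fintype C] [IsSimpleGroup G] in
theorem deg_add {l : C → ℂ} (hl : IsIrrCharacter C l) {χ ψ : G → ℂ} (hχ : IsIrrCharacter G χ)
    (hψ : IsIrrCharacter G ψ) (e : D.I l = χ + ψ) : charDegree χ + charDegree ψ = 28 ∧
      charDegree χ ∣ 6048 ∧ charDegree ψ ∣ 6048 := by
  have h := D.I_one hl
  rw [e, Pi.add_apply, hχ.apply_one_eq, hψ.apply_one_eq] at h
  exact ⟨by exact_mod_cast h, D.cG ▸ hχ.charDegree_dvd_card, D.cG ▸ hψ.charDegree_dvd_card⟩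

include D in
theorem exists_21 : ∃ χ, IsIrrCharacter G χ ∧ charDegree χ = 21 := by
  classical
  obtain ⟨m, a, h⟩ := D.exists_reg
  have hl := isIrrCharacter_hom (m.comp (powMonoidHom 2))
  set l : C → ℂ := fun a => (m.comp (powMonoidHom 2) a : ℂ) with hl'
  have h5 : (fun a => l (a ^ 5)) = l := funext fun c => by
    change (m ((c ^ 5) ^ 2) : ℂ) = m (c ^ 2)
    rw [← pow_mul, show 5 * 2 = 8 + 2 from rfl, pow_add, D.pow_eight, one_mul]
  have h1 : l ≠ fun _ => 1 := fun e => h (by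
    have : (m ((a ^ 2) ^ 2) : ℂ) = 1 := congrFun e (a ^ 2)
    rw [show a ^ 5 = (a ^ 2) ^ 2 * a by rw [← pow_mul, ← pow_succ], map_mul, Units.val_mul, this, one_mul])
  obtain ⟨χ, hχ, h2⟩ := (D.char_I hl).isClassFunction.exists_irr_inner_ne_zero fun e => by
    simpa [e] using D.I_one hl
  have hN := D.inner_I l l
  rw [h5, hl.inner_self] at hN
  rcases D.decomp hl hχ h2 with e | ⟨-, ψ, hψ, hne, e⟩
  · rw [e, hχ.inner_self] at hN
    norm_num at hN
  have k : ∀ χ ψ : G → ℂ, IsIrrCharacter G χ → IsIrrCharacter G ψ → ψ ≠ χ → D.I l = χ + ψ →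
      charDegree χ % 2 = 1 ∧ charDegree χ ≠ 1 := fun χ ψ hχ hψ hne e => by
    refine ⟨D.parity hχ.isCharacter (n := 1) ?_, fun h => h1 (D.eq_one_of_add hl hχ hψ e h)⟩
    rw [sum_eq_single ⟨l, hl⟩ (fun μ _ hμ => ?_) (by simp)]
    · change classInner χ (D.I l) = _
      rw [e, classInner_add_right, hχ.inner_self, hχ.inner_eq_zero_of_ne hψ hne.symm]; simp
    · have h3 : l ≠ μ := fun e => hμ (Subtype.ext e.symm)
      have h4 := D.inner_I l μ
      rw [hl.inner_eq_zero_of_ne μ.2 h3, hl.inner_eq_zero_of_ne (D.irr_five μ.2) fun e => h3 (by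
        rw [← h5, e]; simp only [D.pow_five]), e, classInner_add_left] at h4
      obtain ⟨x, hx⟩ := hχ.isCharacter.exists_inner_eq_nat (D.char_I μ.2)
      obtain ⟨y, hy⟩ := hψ.isCharacter.exists_inner_eq_nat (D.char_I μ.2)
      rw [hx, hy, add_zero] at h4
      have : x + y = 0 := by exact_mod_cast h4
      rw [hx, show x = 0 by omega, Nat.cast_zero]
  obtain ⟨a1, a2⟩ := k χ ψ hχ hψ hne e
  obtain ⟨b1, b2⟩ := k ψ χ hψ hχ hne.symm (e.trans (add_comm _ _))
  obtain ⟨c1, c2, c3⟩ := D.deg_add hl hχ hψ e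
  by_cases h7 : charDegree χ = 21
  · exact ⟨χ, hχ, h7⟩
  refine ⟨ψ, hψ, ?_⟩
  generalize charDegree χ = x at *
  generalize charDegree ψ = y at *
  obtain rfl : x = 28 - y := by omega
  have : y ≤ 28 := by omega
  interval_cases y <;> simp_all

include D in
theorem exists_six : ∃ χ, IsIrrCharacter G χ ∧ 6 ∣ charDegree χ := by
  classical
  by_contra! h6
  have : Fact (Nat.Prime 7) := ⟨by norm_num⟩
  obtain ⟨x, hx⟩ := exists_prime_orderOf_dvd_card' (G := G) 7 (by rw [D.cG]; norm_num)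
  have h0 := sum_irr_apply_one_mul_apply_of_ne_one (g := x) (by rintro rfl; simp at hx)
  have o : IsIrrCharacter C fun _ => 1 := isIrrCharacter_one
  have o' : IsIrrCharacter G fun _ => 1 := isIrrCharacter_one
  rcases D.decomp o o' (by rw [D.inner_I_one, o.inner_self]; exact one_ne_zero) with
    e | ⟨-, s, hs, hne, e⟩
  · have := D.I_one o
    rw [e] at this
    norm_num at this
  have s1 : charDegree s = 27 := by
    have := (D.deg_add o o' hs e).1
    rw [charDegree_one] at this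
    omega
  have s2 : s x = -1 := by
    have h1 := congrFun e x
    rw [I, indFun_eq_zero_of_not_conj B _ x fun g hg => ?_] at h1
    · exact (neg_eq_of_add_eq_zero_right h1.symm).symm
    · have := orderOf_dvd_natCard (⟨_, hg⟩ : B)
      rw [Subgroup.orderOf_mk, ← MulAut.conj_apply, MulEquiv.orderOf_eq, hx, D.cB] at this
      norm_num at this
  have k : ∀ χ : IrrCharacter G, χ ≠ ⟨_, o'⟩ → χ ≠ ⟨s, hs⟩ →
      IsIntegral ℤ ((χ : G → ℂ) 1 * (χ : G → ℂ) x / 4) := fun χ n1 n2 => by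
    by_cases h7 : 7 ∣ charDegree (χ : G → ℂ)
    · rw [χ.2.apply_eq_zero_of_dvd_charDegree (m := 7) (n := 864) (x := x) (by norm_num) D.cG h7
        (by rw [hx]; norm_num), mul_zero, zero_div]
      exact isIntegral_zero
    have hd : charDegree (χ : G → ℂ) ∣ 6048 := D.cG ▸ χ.2.charDegree_dvd_card
    by_cases h2 : 2 ∣ charDegree (χ : G → ℂ)
    · obtain ⟨a, b, ha, hb, hab⟩ := D.nab
      have h3 := ne_two (U := D.τ.ker.map B.subtype) (by
        rw [Subgroup.card_map_of_injective B.subtype_injective, D.card_ker]; decide)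
        (Subgroup.mem_map_of_mem _ ha) (Subgroup.mem_map_of_mem _ hb)
        (fun e => hab (Subtype.ext e)) χ.2
      have h4 := h6 _ χ.2
      have h5 : charDegree (χ : G → ℂ) ∣ 2 ^ 5 := Nat.Coprime.dvd_of_dvd_mul_right (n := 3 ^ 3 * 7)
        (Nat.Coprime.mul_right (Nat.Coprime.pow_right _ ((Nat.Prime.coprime_iff_not_dvd
          Nat.prime_three).2 (by omega)).symm) ((Nat.Prime.coprime_iff_not_dvd this.out).2 h7).symm) hd
      obtain ⟨c, hc⟩ : 4 ∣ charDegree (χ : G → ℂ) := by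
        obtain ⟨i, hi, e⟩ := (Nat.dvd_prime_pow Nat.prime_two).1 h5
        rw [e] at h2 h3 ⊢
        interval_cases i <;> simp_all
      rw [χ.2.apply_one_eq, hc]
      rw [show ((4 * c : ℕ) : ℂ) * (χ : G → ℂ) x / 4 = c * (χ : G → ℂ) x by push_cast; ring]
      exact (isIntegral_natCast c).mul (χ.2.isIntegral x)
    exfalso
    obtain ⟨μ, hμ⟩ : ∃ μ : IrrCharacter C, classInner (D.I μ) χ ≠ 0 := by
      by_contra! h
      have := D.parity χ.2.isCharacter (n := 0) (by
        rw [Nat.cast_zero]; exact sum_eq_zero fun μ _ => classInner_eq_zero_comm.1 (h μ))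
      omega
    rcases D.decomp μ.2 χ.2 hμ with e' | ⟨-, ψ, hψ, -, e'⟩
    · exact h7 (by rw [← e', charDegree_eq_of_apply_one (D.I_one μ.2)]; norm_num)
    obtain ⟨c1, c2, c3⟩ := D.deg_add μ.2 χ.2 hψ e'
    have h1 : (μ : C → ℂ) = fun _ => 1 := by
      by_cases h : charDegree (χ : G → ℂ) = 1
      · exact D.eq_one_of_add μ.2 χ.2 hψ e' h
      refine D.eq_one_of_add μ.2 hψ χ.2 (e'.trans (add_comm _ _)) ?_
      generalize charDegree (χ : G → ℂ) = x at *
      generalize charDegree ψ = y at *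
      obtain rfl : x = 28 - y := by omega
      have : y ≤ 28 := by omega
      interval_cases y <;> simp_all
    rw [h1, e, classInner_add_left, o'.inner_eq_zero_of_ne χ.2 fun e => n1 (Subtype.ext e.symm),
      hs.inner_eq_zero_of_ne χ.2 fun e => n2 (Subtype.ext e.symm), add_zero] at hμ
    exact hμ rfl
  have n : (⟨s, hs⟩ : IrrCharacter G) ∈ univ.erase ⟨_, o'⟩ :=
    mem_erase.2 ⟨fun e => hne (congrArg Subtype.val e), mem_univ _⟩
  rw [← add_sum_erase _ _ (mem_univ ⟨_, o'⟩), ← add_sum_erase _ _ n] at h0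
  have h1 := IsIntegral.sum (s := (univ.erase ⟨_, o'⟩).erase (⟨s, hs⟩ : IrrCharacter G)) _
    fun χ h => k χ (ne_of_mem_erase (mem_of_mem_erase h)) (ne_of_mem_erase h)
  rw [← sum_div] at h1
  change 1 * 1 + (s 1 * s x + _) = 0 at h0
  rw [hs.apply_one_eq, s1, s2] at h0
  generalize ∑ χ ∈ (univ.erase ⟨_, o'⟩).erase (⟨s, hs⟩ : IrrCharacter G),
    (χ : G → ℂ) 1 * (χ : G → ℂ) x = z at h0 h1
  obtain rfl : z = (26 : ℕ) := by push_cast at h0 ⊢; linear_combination h0
  have h2 := nat_dvd_of_isIntegral_div (a := 26) (b := 4) (by norm_num) h1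
  norm_num at h2

end Dat

theorem graph_eq {G : Type*} [Group G] [Finite G] (hG : Nat.card G = 6048)
    (h6 : ∃ χ, IsIrrCharacter G χ ∧ 6 ∣ charDegree χ) (h14 : ∃ χ, IsIrrCharacter G χ ∧ 14 ∣ charDegree χ)
    (h21 : ∃ χ, IsIrrCharacter G χ ∧ 21 ∣ charDegree χ) :
    degreePrimes G = {2, 3, 7} ∧ ∀ p q, (degreeGraph G).Adj p q ↔
      p ≠ q ∧ p ∈ ({2, 3, 7} : Set ℕ) ∧ q ∈ ({2, 3, 7} : Set ℕ) := by
  have k : ∀ p, p.Prime → (∃ d ∈ charDegrees G, p ∣ d) → p ∈ ({2, 3, 7} : Set ℕ) := by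
    rintro p hp ⟨_, ⟨χ, rfl⟩, h⟩
    have := h.trans χ.2.charDegree_dvd_card
    rw [hG, show 6048 = 2 ^ 5 * 3 ^ 3 * 7 from rfl, hp.dvd_mul, hp.dvd_mul] at this
    rcases this with (h | h) | h
    · exact Or.inl ((Nat.prime_dvd_prime_iff_eq hp Nat.prime_two).1 (hp.dvd_of_dvd_pow h))
    · exact Or.inr (Or.inl ((Nat.prime_dvd_prime_iff_eq hp Nat.prime_three).1 (hp.dvd_of_dvd_pow h)))
    · exact Or.inr (Or.inr ((Nat.prime_dvd_prime_iff_eq hp (by norm_num)).1 h))
  have m : ∀ {n k : ℕ}, (∃ χ, IsIrrCharacter G χ ∧ n ∣ charDegree χ) → k ∣ n →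
      ∃ d ∈ charDegrees G, k ∣ d := fun ⟨χ, h1, h2⟩ h => ⟨_, ⟨⟨χ, h1⟩, rfl⟩, h.trans h2⟩
  refine ⟨Set.ext fun p => ⟨fun h => k p h.1 h.2, ?_⟩, fun p q => ⟨fun ⟨h1, h2, h3, d, h4, h5⟩ =>
    ⟨h1, k p h2 ⟨d, h4, (dvd_mul_right _ _).trans h5⟩, k q h3 ⟨d, h4, (dvd_mul_left _ _).trans h5⟩⟩, ?_⟩⟩
  · rintro (rfl | rfl | rfl)
    exacts [⟨by norm_num, m h6 (by norm_num)⟩, ⟨by norm_num, m h6 (by norm_num)⟩,
      ⟨by norm_num, m h14 (by norm_num)⟩]
  · rintro ⟨h, rfl | rfl | rfl, rfl | rfl | rfl⟩ <;>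
      first
      | exact absurd rfl h
      | exact ⟨h, by norm_num, by norm_num, m h6 dvd_rfl⟩
      | exact ⟨h, by norm_num, by norm_num, m h14 dvd_rfl⟩
      | exact ⟨h, by norm_num, by norm_num, m h21 dvd_rfl⟩

end Cfsg.Lib.CharDeg.U33
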