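import Cfsg.Agent.Lib.Clifford.Correspondence
import Cfsg.Agent.Lib.Frobenius.Compl
import Cfsg.Agent.Lib.HH.Misc
import Cfsg.Agent.Lib.Solv.Super
import Cfsg.Agent.Lib.PGroup.Metacyclic

/-!
Vanishing elements of order divisible by `p` in solvable groups.
-/

set_option autoImplicit false

namespace Cfsg.Lib.CharDeg.VanP

open Subgroup Cfsg.Lib.BG Cfsg.Lib.Core Cfsg.Lib.Char Cfsg.Lib.Clifford Cfsg.Lib.Induce

universe u

/-- An abelian group acting coprimely on an abelian group has a regular orbit modulo the kernel. -/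
theorem exists_reg {Γ B : Type*} [CommGroup Γ] [Group B] [Finite B] (φ : B →* MulAut Γ)
    (hc : ∀ a b, φ a * φ b = φ b * φ a) (h : ∀ (b : B) (c : Γ), c ^ orderOf b = 1 → c = 1) :
    ∃ γ : Γ, ∀ b, φ b γ = γ → φ b = 1 := by
  obtain ⟨γ, hγ⟩ := (measure fun γ : Γ => {b | φ b γ = γ}.ncard).wf.has_min Set.univ ⟨1, trivial⟩
  refine ⟨γ, fun b hb => MulEquiv.ext fun δ => not_not.1 fun hδ => ?_⟩
  have hc' : ∀ a b x, φ a (φ b x) = φ b (φ a x) := fun a b x => DFunLike.congr_fun (hc a b) x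
  have key : ∀ x : Γ, φ b (x⁻¹ * φ b x) = x⁻¹ * φ b x → x⁻¹ * φ b x = 1 := fun x hx => h b _ (by
    have : ∀ k : ℕ, φ (b ^ k) x = x * (x⁻¹ * φ b x) ^ k := fun k => by
      induction k with
      | zero => simp
      | succ k ih =>
        rw [pow_succ', map_mul, MulAut.mul_apply, ih, map_mul, map_pow, hx, pow_succ', ← mul_assoc,
          mul_inv_cancel_left]
    simpa using (this (orderOf b)).symm)
  refine hγ.2 (γ * (δ⁻¹ * φ b δ)) trivial (Set.ncard_lt_ncard ⟨fun a ha => ?_, fun e => hδ ?_⟩)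
  · have h1 : (δ * (φ a δ)⁻¹)⁻¹ * φ b (δ * (φ a δ)⁻¹) = γ⁻¹ * φ a γ := by
      have h2 : φ a (γ * (δ⁻¹ * φ b δ)) = γ * (δ⁻¹ * φ b δ) := ha
      simp only [map_mul, map_inv, hc' a b] at h2 ⊢
      rw [eq_inv_mul_iff_mul_eq, ← mul_right_cancel_iff (a := (φ a δ)⁻¹ * φ b (φ a δ)), h2]
      simp only [mul_inv_rev, inv_inv, mul_assoc, mul_comm, mul_left_comm]
      simp
    have h3 := key (δ * (φ a δ)⁻¹) (by rw [h1, map_mul, map_inv, hb, hc', hb])
    exact (inv_mul_eq_one.1 (h1.symm.trans h3)).symm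
  · have h2 : φ b (γ * (δ⁻¹ * φ b δ)) = γ * (δ⁻¹ * φ b δ) := e hb
    rw [map_mul, hb, mul_left_cancel_iff] at h2
    exact (inv_mul_eq_one.1 (key δ h2)).symm

variable {G : Type u} [Group G] [Finite G] {p : ℕ} [hp : Fact p.Prime]

omit [Finite G] in
/-- The action of `G ⧸ V` on the abelian normal subgroup `V`. -/
theorem exists_act (V : Subgroup G) [V.Normal] (hV : IsMulCommutative V) :
    ∃ ψ : G ⧸ V →* MulAut V, ∀ g : G, ψ g = MulAut.conjNormal g :=
  ⟨QuotientGroup.lift V MulAut.conjNormal fun g hg => MulEquiv.ext fun v => Subtype.ext (by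
    simp [le_cent_iff.1 (abelian_cent hV) g hg v v.2]), fun _ => rfl⟩

theorem exists_vanish (V : Subgroup G) [V.Normal] (hV : IsMulCommutative V) (hV' : PiGrp {p}ᶜ V)
    (B : Subgroup (G ⧸ V)) [hBn : B.Normal] (hB : IsMulCommutative B) (hB' : IsPGroup p B)
    (hf : ∀ x : G, (x : G ⧸ V) ∈ B → x ∈ 𝐂(V) → x ∈ V) : ∃ χ : IrrCharacter G,
      ∀ (g : G) (k : ℕ), (g : G ⧸ V) ^ k ∈ B → (g : G ⧸ V) ^ k ≠ 1 → (χ : G → ℂ) g = 0 := by
  classical
  have := Fintype.ofFinite G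
  obtain ⟨ψ, hψ⟩ := exists_act V hV
  let φ : B →* MulAut (V →* ℂˣ) :=
    { toFun := fun b => (ψ b).monoidHomCongrLeft
      map_one' := by ext; simp [MulAut.one_def]
      map_mul' := fun a b => by ext; simp [MulAut.mul_def] }
  obtain ⟨l, hl⟩ := exists_reg (Γ := V →* ℂˣ) φ (fun a b => (map_mul φ a b).symm.trans
    ((congrArg φ (hB.1.1 a b)).trans (map_mul φ b a))) fun (b : B) c hc =>
    (pow_eq_one_iff_of_coprime (((PiGrp.p_iff.2 hB').elt b.2).coprime hV')).1 ⟨by simpa using hc,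
      MonoidHom.ext fun v => by rw [MonoidHom.pow_apply, ← map_pow, pow_card_eq_one', map_one]; rfl⟩
  have hθ := isIrrCharacter_hom l
  obtain ⟨χ, -, hχ⟩ := Finset.exists_ne_zero_of_sum_ne_zero ((sum_sq_classInner_res V hθ).trans_ne
    (Nat.cast_ne_zero.2 (FiniteIndex.index_ne_zero)))
  obtain ⟨η, -, e, -⟩ := exists_indFun_eq_of_over V (le_inertia V hθ.isClassFunction) hθ le_rfl χ.2
    fun h => hχ (by rw [h]; simp)
  refine ⟨χ, fun g k h1 h2 => e ▸ indFun_eq_zero_of_not_conj _ η g fun x hx => h2 ?_⟩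
  have h3 : (((x * g * x⁻¹) ^ k)⁻¹ : G) ∈ inertia V fun v => (l v : ℂ) := inv_mem (pow_mem hx k)
  have h4 : (((x * g * x⁻¹) ^ k : G) : G ⧸ V) ∈ B := by
    rw [conj_pow]
    exact hBn.conj_mem _ h1 x
  have h5 := hl ⟨_, h4⟩ (MonoidHom.ext fun v => Units.ext ?_)
  · have h6 := (QuotientGroup.eq_one_iff _).2 (hf _ h4 (inv_mem_iff.1 (mem_cent.2 fun v hv => ?_)))
    · rw [conj_pow] at h6
      simpa using h6
    · letI : CommGroup V := { mul_comm := hV.1.1 }
      have h7 : (ψ ((x * g * x⁻¹) ^ k : G)).symm ⟨v, hv⟩ = ⟨v, hv⟩ :=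
        (CommGroup.forall_apply_eq_apply_iff (M := ℂ) V).1 fun m =>
          DFunLike.congr_fun (DFunLike.congr_fun h5 m) ⟨v, hv⟩
      rw [hψ] at h7
      have h8 : _ * v * _ = v := congrArg Subtype.val h7
      exact (mul_inv_eq_iff_eq_mul.1 h8).symm
  · change (l ((ψ ((x * g * x⁻¹) ^ k : G)).symm v) : ℂ) = _
    rw [hψ]
    exact (mem_inertia_iff V).1 h3 v

/-- `g` is a vanishing element of order divisible by `p`. -/
def Van (p : ℕ) {G : Type*} [Group G] (g : G) : Prop :=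
  (∃ χ : IrrCharacter G, (χ : G → ℂ) g = 0) ∧ p ∣ orderOf g

/-- The consequence of "all vanishing `p`-singular elements have one order" that passes to quotients. -/
def Hyp (p : ℕ) (G : Type*) [Group G] : Prop :=
  ∀ g : G, Van p g → PiElt {p} g → (∀ h : G, Van p h → PiElt {p} h) ∧ ¬ Van p (g ^ p)

omit hp in
theorem Hyp.quot (h : Hyp p G) (N : Subgroup G) [N.Normal] : Hyp p (G ⧸ N) := by
  have hs := QuotientGroup.mk'_surjective N
  have key : ∀ g : G, Van p (g : G ⧸ N) → Van p g := fun g ⟨⟨χ, hχ⟩, hg⟩ =>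
    ⟨⟨⟨_, χ.2.comp_surjective _ hs⟩, hχ⟩, hg.trans (orderOf_map_dvd (QuotientGroup.mk' N) g)⟩
  intro g hg hg'
  obtain ⟨g, hg'', rfl⟩ := HH.exists_pi_lift_surj hs hg'
  refine ⟨fun y hy => ?_, fun e => (h g (key g hg) hg'').2 (key _ e)⟩
  obtain ⟨y, rfl⟩ := hs y
  exact ((h g (key g hg) hg'').1 y (key y hy)).map _

theorem hyp_of_eq (h : ∀ x y : G, Van p x → Van p y → orderOf x = orderOf y) : Hyp p G :=
  fun g hg hg' => ⟨fun y hy => by unfold PiElt at *; rwa [h y g hy hg], fun e => by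
    have h1 := h _ _ e hg
    rw [orderOf_pow_of_dvd hp.out.ne_zero hg.2] at h1
    exact (Nat.div_lt_self (orderOf_pos g) hp.out.one_lt).ne h1⟩

theorem Hyp.step (h : Hyp p G) (V : Subgroup G) [V.Normal] (hV : IsMulCommutative V) (h0 : V ≠ ⊥)
    (hV' : PiGrp {p}ᶜ V) (hf : ∀ x : G, (x : G ⧸ V) ∈ pCore p (G ⧸ V) → x ∈ 𝐂(V) → x ∈ V)
    (B : Subgroup (G ⧸ V)) [B.Normal] (hB : IsMulCommutative B) (hB' : IsPGroup p B) (h1 : B ≠ ⊥) :
    Nat.card B = p ∧ IsPGroup p 𝐂(B) := by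
  have hs := QuotientGroup.mk'_surjective V
  obtain ⟨χ, hχ⟩ := exists_vanish V hV hV' B hB hB' fun x hx => hf x (le_pCore ‹_› hB' hx)
  have hv : ∀ (g : G) (k : ℕ), (g : G ⧸ V) ^ k ∈ B → (g : G ⧸ V) ^ k ≠ 1 → Van p g := fun g k a b =>
    ⟨⟨χ, hχ g k a b⟩, not_not.1 fun e => b (((PiGrp.p_iff.2 hB').elt a).eq_one
      ((PiElt.map (PiNat.p'_iff.2 e) (QuotientGroup.mk' V)).pow k))⟩
  have hl : ∀ b ∈ B, ∃ x : G, PiElt {p} x ∧ (x : G ⧸ V) = b := fun b hb =>
    HH.exists_pi_lift_surj hs ((PiGrp.p_iff.2 hB').elt hb)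
  obtain ⟨b, hb, hb1⟩ := exists_ne_one h1
  obtain ⟨x, hx, rfl⟩ := hl b hb
  have h2 := (h x (hv x 1 (by simpa) (by rwa [pow_one])) hx).1
  have h3 : ∀ b ∈ B, b ^ p = 1 := fun b hb => not_not.1 fun e => by
    obtain ⟨y, hy, rfl⟩ := hl b hb
    exact (h y (hv y p (pow_mem hb p) e) hy).2 (hv _ 1 (by simpa using pow_mem hb p) (by simpa))
  have h4 : IsCyclic B := by
    obtain ⟨ψ, hψ⟩ := exists_act V hV
    have := (nontrivial_iff_ne_bot V).2 h0
    have := (Frobenius.fpf_of_aut (ψ.comp B.subtype) fun ⟨b, hb⟩ v hbv => ?_).isCyclic_of_comm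
      (A := ⊤) (abelian_iff.2 (le_cent_iff.2 fun a _ b _ => hB.1.1 a b))
    · exact isCyclic_of_surjective _ topEquiv.surjective
    obtain ⟨y, hy, rfl⟩ := hl b hb
    refine or_iff_not_imp_left.2 fun e => Subtype.ext ?_
    have e1 : ((y * v : G) : G ⧸ V) = y := by simp
    have e2 : y * v * y⁻¹ = v := congrArg Subtype.val ((DFunLike.congr_fun (hψ y) v).symm.trans hbv)
    have e3 := hy.inv.mul (h2 (y * v) (hv _ 1 (by simpa [e1]) (by
      rw [e1, pow_one]; exact fun e' => e (Subtype.ext e')))) (by rw [e2, inv_mul_eq_iff_eq_mul,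
        mul_inv_eq_iff_eq_mul.1 e2, ← mul_inv_eq_iff_eq_mul.1 e2])
    rw [inv_mul_cancel_left] at e3
    exact e3.eq_one (hV'.elt v.2)
  refine ⟨le_antisymm (PGroup.elemAb_card_le_of_isCyclic ⟨hB, h3⟩ h4)
    (Nat.le_of_dvd Nat.card_pos (pgroup_dvd_card hB' h1)), PiGrp.pgroup (PiGrp.iff_elt.2 fun c hc => ?_)⟩
  obtain ⟨y, -, z, hz, hy, hz', rfl, -⟩ := exists_pi_decomp {p} c
  have hc' : Commute (x : G ⧸ V) z := mem_cent.1 (zpowers_le.2 hc hz) _ hb
  obtain ⟨w, hw⟩ := hs ((x : G ⧸ V) * z)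
  have e1 : (w : G ⧸ V) ^ orderOf z = x ^ orderOf z := by
    rw [show (w : G ⧸ V) = _ from hw, hc'.mul_pow, pow_orderOf_eq_one, mul_one]
  have hx' := hx.map (QuotientGroup.mk' V)
  have e2 := hx'.inv.mul (hw ▸ (h2 w (hv w (orderOf z) (e1 ▸ pow_mem hb _) fun e => hb1
    ((pow_eq_one_iff_of_coprime (hx'.coprime hz')).1 ⟨pow_orderOf_eq_one _, e1 ▸ e⟩))).map
      (QuotientGroup.mk' V)) ((Commute.refl _).mul_right hc').inv_left.eq
  rw [show ((QuotientGroup.mk' V) x)⁻¹ * ((x : G ⧸ V) * z) = z from inv_mul_cancel_left _ _] at e2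
  rwa [e2.eq_one hz', mul_one]

theorem not_dvd_of_step {H : Type*} [Group H] [Finite H] (h0 : pCore p H ≠ ⊥)
    (h : ∀ (B : Subgroup H) [B.Normal], IsMulCommutative B → IsPGroup p B → B ≠ ⊥ →
      Nat.card B = p ∧ IsPGroup p 𝐂(B)) : ¬ p ^ 2 ∣ Nat.card H := by
  obtain ⟨A, hA, hA'⟩ := exists_isMinNormal_le inferInstance h0
  have := hA.normal
  have hAp := (pCore_isPGroup p H).to_le hA'
  have hAc := (hA.isElementaryAbelian_of_isPGroup hAp).1
  obtain ⟨h1, h2⟩ := h A hAc hAp hA.ne_bot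
  have h3 : IsCyclic A := cyclic_of_prime (h1 ▸ hp.out)
  have h4 : (𝐂(A)).index ∣ p - 1 := by
    have e : (MulAut.conjNormal : H →* MulAut A).ker = 𝐂(A) := by
      ext g
      simp only [MonoidHom.mem_ker, MulEquiv.ext_iff, Subtype.ext_iff, mem_cent, Subtype.forall,
        MulAut.conjNormal_apply, MulAut.one_apply, mul_inv_eq_iff_eq_mul]
      exact forall₂_congr fun _ _ => eq_comm
    rw [← e, index_ker, ← Nat.totient_prime hp.out, ← h1, ← IsCyclic.card_mulAut]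
    exact card_subgroup_dvd_card _
  rcases (abelian_cent hAc).eq_or_lt with e | hlt
  · intro hd
    rw [← (𝐂(A)).card_mul_index, ← congrArg (fun X : Subgroup H => Nat.card X) e, h1, sq,
      Nat.mul_dvd_mul_iff_left hp.out.pos] at hd
    exact (Nat.sub_lt hp.out.pos one_pos).not_ge
      (Nat.le_of_dvd (Nat.sub_pos_of_lt hp.out.one_lt) (hd.trans h4))
  obtain ⟨D, hD, hD'⟩ := exists_isChiefFactor_le hA.normal inferInstance hlt
  have := hD.2.1
  have hs := QuotientGroup.mk'_surjective A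
  have hm := isMinNormal_map_mk'_of_isChiefFactor hD
  have := (inferInstance : (𝐂(A)).Normal).map _ hs
  have h5 := cent_symm (hm.le_centralizer_of_isNilpotent _ (pgroup_nil (h2.map (QuotientGroup.mk' A))))
  have h6 := Solv.IsMinNormal.card_eq_of_pow_sub_one hm ((h2.to_le hD').map _) (le_trans (by
    rw [_root_.commutator_def, ← map_top_of_surjective _ hs, ← map_commutator]
    exact map_mono (PGroup.commutator_le_centralizer_of_isCyclic h3 le_normalizer_of_normal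
      le_normalizer_of_normal)) h5) fun g => h5 (by
    obtain ⟨g, rfl⟩ := hs g
    obtain ⟨c, hc⟩ := h4
    rw [← map_pow, hc, pow_mul]
    exact mem_map_of_mem _ (pow_mem (pow_index_mem _ g) c))
  have h7 : Nat.card D = p ^ 2 := by
    rw [← card_map_mul_card_inf_ker (QuotientGroup.mk' A) D, h6, QuotientGroup.ker_mk',
      inf_eq_right.2 hD.1.le, h1, sq]
  have h8 := (h D (IsPGroup.isMulCommutative_of_card_eq_prime_sq h7) (h2.to_le hD')
    (ne_bot_mono hA.ne_bot hD.1.le)).1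
  exact absurd (h7.symm.trans h8) (Nat.pow_lt_pow_right hp.out.one_lt one_lt_two |>.trans_eq'
    (pow_one p)).ne'

theorem not_dvd_card (G : Type u) [Group G] [Finite G] : Group.IsSolvable G → pCore p G = ⊥ →
    Hyp p G → ¬ p ^ 2 ∣ Nat.card G := by
  refine induction_on_isMinNormal (P := fun G _ _ => Group.IsSolvable G → pCore p G = ⊥ →
    Hyp p G → ¬ p ^ 2 ∣ Nat.card G) G (fun G _ _ _ _ _ _ hd => ?_) fun G _ _ V _ hV ih hs h0 h hd => ?_
  · rw [Nat.card_of_subsingleton (1 : G), Nat.dvd_one] at hd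
    exact (Nat.one_lt_pow two_ne_zero hp.out.one_lt).ne' hd
  obtain ⟨q, hq, hV1⟩ := hV.exists_isPGroup inferInstance
  have := Fact.mk hq
  have hV' : PiGrp {p}ᶜ V := p'_of_pgroup hV1 fun e =>
    hV.ne_bot (eq_bot_mono h0 (le_pCore ‹_› (e ▸ hV1)))
  rw [V.card_eq_card_quotient_mul_card_subgroup] at hd
  replace hd := (hV'.coprime_p.symm.pow_left 2).dvd_of_dvd_mul_right hd
  by_cases h1 : pCore p (G ⧸ V) = ⊥
  · exact ih inferInstance h1 (h.quot V) hd
  have hc := hV.isMulCommutative inferInstance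
  refine not_dvd_of_step h1 (h.step V hc hV.ne_bot hV' fun x hx hx' => ?_) hd
  obtain ⟨y, hy, z, hz, hy', hz', rfl, -⟩ := exists_pi_decomp {p} x
  set C := (pCore p (G ⧸ V)).comap (QuotientGroup.mk' V) ⊓ 𝐂(V)
  have hC : zpowers (y * z) ≤ C := zpowers_le.2 ⟨hx, hx'⟩
  have := pgroup_nil (pCore_isPGroup p (G ⧸ V))
  have h2 : Group.IsNilpotent C := Subgroup.isNilpotent_of_ker_le_center
    (((QuotientGroup.mk' V).comp C.subtype).codRestrict (pCore p (G ⧸ V)) fun c => c.2.1) fun c hc =>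
      mem_center_iff.2 fun d => Subtype.ext (mem_cent.1 d.2.2 c
        ((QuotientGroup.eq_one_iff _).1 (congrArg Subtype.val hc))).symm
  have h3 := ((le_pCoreOf_of_isNilpotent h2 (zpowers_le.2 (hC hy)) hy'.zpowers.pgroup).trans
    (pCoreOf_le_pCore C)).trans h0.le (mem_zpowers y)
  rw [mem_bot.1 h3, one_mul]
  exact (QuotientGroup.eq_one_iff _).1 (((PiGrp.p_iff.2 (pCore_isPGroup p _)).elt (hC hz).1).eq_one
    (hz'.map _))

/-- If the vanishing elements of order divisible by `p` of a solvable group all have the same order,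
then `p ^ 2` does not divide the index of `O_p(G)`. -/
theorem not_dvd_index (hs : Group.IsSolvable G)
    (h : ∀ x y : G, Van p x → Van p y → orderOf x = orderOf y) : ¬ p ^ 2 ∣ (pCore p G).index :=
  not_dvd_card (G ⧸ pCore p G) inferInstance (pCore_quotient_pCore p G) ((hyp_of_eq h).quot _)

end Cfsg.Lib.CharDeg.VanP
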