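import Cfsg.Agent.Lib.Symp.Group
import Cfsg.Agent.Lib.Char.Rep

/-!
The Weil representation of the symplectic group over a finite field of odd order.
-/

set_option autoImplicit false

namespace Cfsg.Lib.CharDeg

open Module Matrix Cfsg.Lib.Symp Cfsg.Lib.Char

/-- Converse of Schur's lemma. -/
theorem isIrreducible_of_commutant {G V : Type*} [Group G] [Finite G] [AddCommGroup V] [Module ℂ V]
    [Nontrivial V] (ρ : Representation ℂ G V)
    (h : ∀ f : End ℂ V, (∀ g, f * ρ g = ρ g * f) → ∃ c : ℂ, f = c • 1) : ρ.IsIrreducible := by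
  rw [isIrreducible_iff_submodule]
  refine ⟨inferInstance, fun U hU => ?_⟩
  have : NeZero (Nat.card G : ℂ) := ⟨by exact_mod_cast Nat.card_pos.ne'⟩
  let U0 : Subrepresentation ρ := ⟨U, fun g v hv => hU g v hv⟩
  obtain ⟨U', hU'⟩ := exists_isCompl U0
  have hc : IsCompl U U'.toSubmodule := subrep_isCompl_toSubmodule hU'
  obtain ⟨c, hc'⟩ := h (U.projection _ hc) (fun g => by
    refine LinearMap.ext fun v => ?_
    obtain ⟨a, b, rfl, -⟩ := Submodule.existsUnique_add_of_isCompl hc v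
    simp only [End.mul_apply, map_add]
    rw [Submodule.projection_apply_left hc a, Submodule.projection_apply_right hc b,
      Submodule.projection_apply_left hc ⟨_, hU g a a.2⟩,
      Submodule.projection_apply_right hc ⟨_, U'.apply_mem_toSubmodule g b.2⟩, map_zero])
  by_cases h0 : c = 0
  · left
    refine (Submodule.eq_bot_iff _).2 fun v hv => ?_
    have := LinearMap.congr_fun hc' v
    rw [Submodule.projection_apply_left hc ⟨v, hv⟩, h0] at this
    simpa using this
  · right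
    refine eq_top_iff.2 fun v _ => ?_
    have h1 := Submodule.projection_apply_mem hc (c⁻¹ • v)
    rw [hc'] at h1
    simpa [smul_smul, h0] using h1

section Heis

variable {l F : Type*} [Fintype l] [DecidableEq l] [Field F] (ψ : AddChar F ℂ)

/-- The Heisenberg operators of the Schroedinger model. -/
noncomputable def heis (v : l ⊕ l → F) : End ℂ ((l → F) → ℂ) where
  toFun f t := ψ (2 * ((v ∘ Sum.inr) ⬝ᵥ t) + (v ∘ Sum.inl) ⬝ᵥ (v ∘ Sum.inr)) * f (t + v ∘ Sum.inl)
  map_add' f g := by ext t; simp [mul_add]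
  map_smul' c f := by ext t; simp [mul_left_comm]

omit [DecidableEq l] in
theorem heis_apply (v : l ⊕ l → F) (f : (l → F) → ℂ) (t : l → F) : heis ψ v f t =
    ψ (2 * ((v ∘ Sum.inr) ⬝ᵥ t) + (v ∘ Sum.inl) ⬝ᵥ (v ∘ Sum.inr)) * f (t + v ∘ Sum.inl) := rfl

theorem bil_eq_dot (v w : l ⊕ l → F) : bil l F v w =
    (v ∘ Sum.inr) ⬝ᵥ (w ∘ Sum.inl) - (v ∘ Sum.inl) ⬝ᵥ (w ∘ Sum.inr) := by
  rw [bil_apply_sum, Finset.sum_sub_distrib]; rfl

theorem heis_mul (v w : l ⊕ l → F) :
    heis ψ v * heis ψ w = ψ (- bil l F v w) • heis ψ (v + w) := by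
  refine LinearMap.ext fun f => funext fun t => ?_
  rw [End.mul_apply, heis_apply, heis_apply, LinearMap.smul_apply, Pi.smul_apply, heis_apply,
    smul_eq_mul, ← mul_assoc, ← mul_assoc, ← AddChar.map_add_eq_mul, ← AddChar.map_add_eq_mul,
    bil_eq_dot]
  have e1 : (v + w) ∘ Sum.inl = v ∘ Sum.inl + w ∘ Sum.inl := rfl
  have e2 : (v + w) ∘ Sum.inr = v ∘ Sum.inr + w ∘ Sum.inr := rfl
  rw [e1, e2, add_assoc t]
  congr 2
  simp only [dotProduct_add, add_dotProduct, dotProduct_comm (w ∘ Sum.inr) (v ∘ Sum.inl),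
    dotProduct_comm (w ∘ Sum.inl) (v ∘ Sum.inr)]
  ring

omit [DecidableEq l] in
theorem heis_zero : heis ψ (0 : l ⊕ l → F) = 1 := by
  refine LinearMap.ext fun f => funext fun t => ?_
  have e1 : (0 : l ⊕ l → F) ∘ Sum.inl = 0 := rfl
  have e2 : (0 : l ⊕ l → F) ∘ Sum.inr = 0 := rfl
  rw [heis_apply, e1, e2]; simp

theorem trace_fun {ι : Type*} [Fintype ι] [DecidableEq ι] (T : End ℂ (ι → ℂ)) :
    LinearMap.trace ℂ _ T = ∑ t, T (Pi.single t 1) t := by
  rw [LinearMap.trace_eq_matrix_trace ℂ (Pi.basisFun ℂ ι), Matrix.trace]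
  simp [LinearMap.toMatrix_apply]

variable [Fintype F] [DecidableEq F] {ψ}

theorem trace_heis (hψ : ψ ≠ 1) (h2 : (2 : F) ≠ 0) (v : l ⊕ l → F) :
    LinearMap.trace ℂ _ (heis ψ v) = if v = 0 then (Fintype.card (l → F) : ℂ) else 0 := by
  split_ifs with h
  · rw [h, heis_zero, LinearMap.trace_one]; simp
  rw [trace_fun]
  by_cases hx : v ∘ Sum.inl = 0
  · obtain ⟨i, hi⟩ : ∃ i, v (Sum.inr i) ≠ 0 := by
      by_contra hn
      push Not at hn
      exact h (funext fun j => Sum.rec (fun i => congrFun hx i) hn j)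
    let φ : AddChar (l → F) ℂ :=
      { toFun := fun t => ψ (2 * ((v ∘ Sum.inr) ⬝ᵥ t))
        map_zero_eq_one' := by simp
        map_add_eq_mul' := fun a b => by
          rw [dotProduct_add, mul_add, AddChar.map_add_eq_mul] }
    have hφ : φ ≠ 1 := by
      obtain ⟨b, hb⟩ := AddChar.ne_one_iff.1 hψ
      refine AddChar.ne_one_iff.2 ⟨Pi.single i (b / (2 * v (Sum.inr i))), ?_⟩
      change ψ (2 * ((v ∘ Sum.inr) ⬝ᵥ _)) ≠ 1
      rw [dotProduct_single]
      convert hb using 2
      change 2 * (v (Sum.inr i) * _) = _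
      field_simp
    rw [← AddChar.sum_eq_zero_of_ne_one hφ]
    refine Finset.sum_congr rfl fun t _ => ?_
    rw [heis_apply, hx]
    simp
    rfl
  · refine Finset.sum_eq_zero fun t _ => ?_
    rw [heis_apply, Pi.single_eq_of_ne (by simpa using hx), mul_zero]

theorem linearIndependent_heis (hψ : ψ ≠ 1) (h2 : (2 : F) ≠ 0) :
    LinearIndependent ℂ (heis (l := l) ψ) := by
  refine Fintype.linearIndependent_iff.2 fun c hc w => ?_
  have h1 := congrArg (fun T => LinearMap.trace ℂ _ (heis ψ (-w) * T)) hc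
  simp only [Finset.mul_sum, mul_smul_comm, heis_mul, map_sum, map_smul, trace_heis hψ h2,
    mul_zero, map_zero] at h1
  rw [Finset.sum_eq_single w (fun b _ hb => by
    rw [if_neg (fun e => hb (by linear_combination e))]; simp) (by simp)] at h1
  simp only [neg_add_cancel, if_true, smul_eq_mul, mul_eq_zero] at h1
  rcases h1 with h1 | h1 | h1
  · exact h1
  · exact absurd h1 (ψ.val_isUnit _).ne_zero
  · exact absurd h1 (by exact_mod_cast Fintype.card_ne_zero)

/-- The Heisenberg operators are a basis of the endomorphism algebra. -/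
noncomputable def heisBasis (hψ : ψ ≠ 1) (h2 : (2 : F) ≠ 0) :
    Basis (l ⊕ l → F) ℂ (End ℂ ((l → F) → ℂ)) :=
  basisOfLinearIndependentOfCardEqFinrank (linearIndependent_heis hψ h2) (by
    rw [finrank_linearMap]; simp [pow_add])

theorem heisBasis_apply (hψ : ψ ≠ 1) (h2 : (2 : F) ≠ 0) (v : l ⊕ l → F) :
    heisBasis hψ h2 v = heis ψ v := by
  rw [heisBasis, coe_basisOfLinearIndependentOfCardEqFinrank]

variable (ψ) in
/-- `T` implements the symplectic matrix `g`. -/
def Impl (g : symplecticGroup l F) (T : End ℂ ((l → F) → ℂ)) : Prop :=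
  ∀ v, T * heis ψ v = heis ψ (g.1 *ᵥ v) * T

omit [Fintype F] [DecidableEq F] in
theorem Impl.mul {g h : symplecticGroup l F} {S T : End ℂ ((l → F) → ℂ)} (hS : Impl ψ g S)
    (hT : Impl ψ h T) : Impl ψ (g * h) (S * T) := fun v => by
  rw [mul_assoc, hT, ← mul_assoc, hS, mul_assoc, mulVec_mulVec]; rfl

omit [Fintype F] [DecidableEq F] in
theorem Impl.smul {g : symplecticGroup l F} {S : End ℂ ((l → F) → ℂ)} (hS : Impl ψ g S) (c : ℂ) :
    Impl ψ g (c • S) := fun v => by
  rw [smul_mul_assoc, hS, mul_smul_comm]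

omit [Fintype F] [DecidableEq F] in
theorem Impl.inv {g : symplecticGroup l F} {S : (End ℂ ((l → F) → ℂ))ˣ} (hS : Impl ψ g S) :
    Impl ψ g⁻¹ (S⁻¹ : (End ℂ ((l → F) → ℂ))ˣ) := fun v => by
  rw [Units.inv_mul_eq_iff_eq_mul, ← mul_assoc, hS, mulVec_inv_mulVec, Units.mul_inv_cancel_right]

theorem Impl.eq_smul (hψ : ψ ≠ 1) (h2 : (2 : F) ≠ 0) {T : End ℂ ((l → F) → ℂ)}
    (hT : Impl ψ 1 T) : ∃ c : ℂ, T = c • 1 := by
  have h1 : ∀ S, S * T = T * S := fun S => by
    rw [← (heisBasis hψ h2).sum_repr S, Finset.sum_mul, Finset.mul_sum]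
    refine Finset.sum_congr rfl fun v _ => ?_
    rw [smul_mul_assoc, mul_smul_comm, heisBasis_apply, hT]
    simp
  have h3 : T ∈ Subalgebra.center ℂ (End ℂ ((l → F) → ℂ)) := Subalgebra.mem_center_iff.2 h1
  rw [Algebra.IsCentral.center_eq_bot, Algebra.mem_bot] at h3
  obtain ⟨c, hc⟩ := h3
  exact ⟨c, by rw [← hc, Algebra.algebraMap_eq_smul_one]⟩

theorem exists_impl (hψ : ψ ≠ 1) (h2 : (2 : F) ≠ 0) (g : symplecticGroup l F) :
    ∃ T : (End ℂ ((l → F) → ℂ))ˣ, Impl ψ g T := by
  let b := heisBasis (l := l) hψ h2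
  let L : symplecticGroup l F → End ℂ ((l → F) → ℂ) →ₗ[ℂ] End ℂ ((l → F) → ℂ) :=
    fun g => b.constr ℂ fun v => heis ψ (g.1 *ᵥ v)
  have hL : ∀ g v, L g (heis ψ v) = heis ψ (g.1 *ᵥ v) := fun g v => by
    rw [← heisBasis_apply hψ h2]; exact b.constr_basis ℂ _ v
  have hmul : ∀ x y, L g (x * y) = L g x * L g y := by
    rw [LinearMap.map_mul_iff]
    refine b.ext fun v => b.ext fun w => ?_
    change L g (b v * b w) = L g (b v) * L g (b w)
    simp only [b, heisBasis_apply]
    rw [heis_mul, map_smul, hL, hL, hL, heis_mul, bil_mulVec, mulVec_add]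
  have hone : L g 1 = 1 := by rw [← heis_zero ψ, hL, mulVec_zero]
  have hinj : Function.Injective (L g) := by
    have : L g⁻¹ ∘ₗ L g = LinearMap.id := b.ext fun v => by
      simp only [b, heisBasis_apply, LinearMap.comp_apply, hL, inv_mulVec_mulVec,
        LinearMap.id_apply]
    exact Function.LeftInverse.injective (g := L g⁻¹) fun x => LinearMap.congr_fun this x
  let α := AlgEquiv.ofBijective (AlgHom.ofLinearMap (L g) hone hmul)
    ⟨hinj, LinearMap.injective_iff_surjective.1 hinj⟩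
  obtain ⟨T, hT⟩ := α.eq_linearEquivConjAlgEquiv
  refine ⟨LinearMap.GeneralLinearGroup.ofLinearEquiv T, fun v => ?_⟩
  have h1 : α (heis ψ v) = heis ψ (g.1 *ᵥ v) := hL g v
  rw [← h1, hT, LinearEquiv.conjAlgEquiv_apply]
  refine LinearMap.ext fun x => ?_
  simp

/-- The operator `f(t) ↦ f(-t)`. -/
def flipOp (l F : Type*) [Field F] : End ℂ ((l → F) → ℂ) := LinearMap.funLeft ℂ ℂ Neg.neg

omit [Fintype l] [DecidableEq l] [Fintype F] [DecidableEq F] in
theorem flipOp_mul_self : flipOp l F * flipOp l F = 1 :=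
  LinearMap.ext fun f => funext fun t => congrArg f (neg_neg t)

omit [Fintype F] [DecidableEq F] in
theorem impl_flipOp : Impl ψ (negOneSp l F) (flipOp l F) := fun v => by
  refine LinearMap.ext fun f => funext fun t => ?_
  have e : (negOneSp l F).1 *ᵥ v = -v := by rw [coe_negOneSp, neg_mulVec, one_mulVec]
  have e1 : (-v) ∘ Sum.inl = -(v ∘ Sum.inl) := rfl
  have e2 : (-v) ∘ Sum.inr = -(v ∘ Sum.inr) := rfl
  rw [e]
  change heis ψ v f (-t) = heis ψ (-v) (flipOp l F f) t
  rw [heis_apply, heis_apply, e1, e2]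
  change _ = _ * f (-(t + -(v ∘ Sum.inl)))
  simp [add_comm]

theorem trace_flipOp (h2 : (2 : F) ≠ 0) : LinearMap.trace ℂ _ (flipOp l F) = 1 := by
  rw [trace_fun, Finset.sum_eq_single 0 (fun t _ ht => ?_) (by simp)]
  · change (Pi.single 0 1 : (l → F) → ℂ) (-0) = 1
    simp
  · change (Pi.single t 1 : (l → F) → ℂ) (-t) = 0
    refine Pi.single_eq_of_ne (fun e => ht ?_) _
    have : (2 : F) • t = 0 := by rw [two_smul]; nth_rewrite 1 [← e]; simp
    exact (smul_eq_zero.1 this).resolve_left h2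

theorem Impl.commute_flipOp (hψ : ψ ≠ 1) (h2 : (2 : F) ≠ 0) {g : symplecticGroup l F}
    {T : (End ℂ ((l → F) → ℂ))ˣ} (hT : Impl ψ g T) : T * flipOp l F = flipOp l F * T := by
  have h1 := ((hT.mul impl_flipOp).mul hT.inv).mul impl_flipOp
  have h3 : g * negOneSp l F * g⁻¹ * negOneSp l F = 1 := by
    refine Subtype.ext ?_
    change g.1 * (-1) * (g⁻¹).1 * (-1) = 1
    have : g.1 * (g⁻¹).1 = 1 := congrArg Subtype.val (mul_inv_cancel g)
    simp [this]
  rw [h3] at h1
  obtain ⟨c, hc⟩ := h1.eq_smul hψ h2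
  have h4 : T * flipOp l F * (T⁻¹ : (End ℂ ((l → F) → ℂ))ˣ) = c • flipOp l F := by
    have := congrArg (· * flipOp l F) hc
    simpa only [mul_assoc, flipOp_mul_self, mul_one, smul_mul_assoc, one_mul] using this
  have h5 := congrArg (LinearMap.trace ℂ _) h4
  rw [LinearMap.trace_mul_comm, ← mul_assoc, Units.inv_mul, one_mul, map_smul, trace_flipOp h2,
    smul_eq_mul, mul_one] at h5
  rw [← h5, one_smul, Units.mul_inv_eq_iff_eq_mul] at h4
  exact h4

end Heis

section Split

variable {V : Type*} [AddCommGroup V] [Module ℂ V] (J : End ℂ V)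

/-- Restriction of the commutant of `J` to an eigenspace. -/
noncomputable def resEig (ε : ℂ) : Subalgebra.centralizer ℂ {J} →ₐ[ℂ] End ℂ (J.eigenspace ε) where
  toFun T := T.1.restrict (p := J.eigenspace ε) (q := J.eigenspace ε) fun v hv =>
    End.mem_eigenspace_iff.2 (by
      rw [← End.mul_apply, T.2 J rfl, End.mul_apply, End.mem_eigenspace_iff.1 hv, map_smul])
  map_one' := rfl
  map_mul' _ _ := rfl
  map_zero' := rfl
  map_add' _ _ := rfl
  commutes' _ := rfl

theorem resEig_apply (ε : ℂ) (T : Subalgebra.centralizer ℂ {J}) (v : J.eigenspace ε) :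
    (resEig J ε T v : V) = T.1 v := rfl

variable {J}

theorem isProj_eig (hJ : J * J = 1) {ε : ℂ} (hε : ε * ε = 1) :
    LinearMap.IsProj (J.eigenspace ε) ((2 : ℂ)⁻¹ • (1 + ε • J)) where
  map_mem v := End.mem_eigenspace_iff.2 (by
    have : J (J v) = v := LinearMap.congr_fun hJ v
    simp only [LinearMap.smul_apply, LinearMap.add_apply, End.one_apply, map_smul, map_add, this,
      smul_add, smul_smul, mul_comm ε 2⁻¹, mul_left_comm ε 2⁻¹, hε, mul_one, add_comm])
  map_id v hv := by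
    simp only [LinearMap.smul_apply, LinearMap.add_apply, End.one_apply,
      End.mem_eigenspace_iff.1 hv, smul_smul, hε, one_smul, ← two_smul ℂ v]
    simp

theorem finrank_eig [FiniteDimensional ℂ V] (hJ : J * J = 1) {ε : ℂ} (hε : ε * ε = 1)
    (ht : LinearMap.trace ℂ _ J = 1) :
    2 * (finrank ℂ (J.eigenspace ε) : ℂ) = finrank ℂ V + ε := by
  rw [← (isProj_eig hJ hε).trace, map_smul, map_add, map_smul, ht, LinearMap.trace_one]
  simp

end Split

section Weil

variable {l F : Type*} [Fintype l] [DecidableEq l] [Field F] [Fintype F] [DecidableEq F]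
  {ψ : AddChar F ℂ}

/-- The Weil representation. -/
theorem exists_weil (hψ : ψ ≠ 1) (h2 : (2 : F) ≠ 0) :
    ∃ W : symplecticGroup l F →* Subalgebra.centralizer ℂ {flipOp l F}, ∀ g, Impl ψ g (W g).1 := by
  let C := Subalgebra.centralizer ℂ {flipOp l F}
  let D : ℂ → C →* ℂ := fun ε => LinearMap.det.comp (resEig (flipOp l F) ε).toMonoidHom
  have hd : finrank ℂ ((flipOp l F).eigenspace 1) = finrank ℂ ((flipOp l F).eigenspace (-1)) + 1 := by
    have h3 := finrank_eig (flipOp_mul_self (l := l) (F := F)) (ε := 1) (by simp) (trace_flipOp h2)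
    have h4 := finrank_eig (flipOp_mul_self (l := l) (F := F)) (ε := -1) (by simp) (trace_flipOp h2)
    have : (finrank ℂ ((flipOp l F).eigenspace 1) : ℂ) =
      finrank ℂ ((flipOp l F).eigenspace (-1)) + 1 := by linear_combination (h3 - h4) / 2
    exact_mod_cast this
  have hD : ∀ ε (c : ℂ) (T : C), D ε (c • T) = c ^ finrank ℂ ((flipOp l F).eigenspace ε) * D ε T :=
    fun ε c T => by
      change LinearMap.det (resEig _ ε (c • T)) = _
      rw [map_smul, LinearMap.det_smul]; rfl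
  have hex : ∀ g : symplecticGroup l F, ∃ T : Cˣ, Impl ψ g T.1.1 ∧ D 1 T = D (-1) T := fun g => by
    obtain ⟨T, hT⟩ := exists_impl hψ h2 g
    let T' : Cˣ := ⟨⟨T, fun j hj => by rw [show j = _ from hj, hT.commute_flipOp hψ h2]⟩,
      ⟨(T⁻¹ : (End ℂ ((l → F) → ℂ))ˣ), fun j hj => by
        rw [show j = _ from hj, hT.inv.commute_flipOp hψ h2]⟩,
      Subtype.ext T.mul_inv, Subtype.ext T.inv_mul⟩
    have h3 : ∀ ε, D ε T' ≠ 0 := fun ε => (T'.isUnit.map (D ε)).ne_zero
    let c : ℂˣ := Units.mk0 (D (-1) T' / D 1 T') (div_ne_zero (h3 _) (h3 _))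
    refine ⟨c • T', hT.smul c, ?_⟩
    change D 1 ((c : ℂ) • T') = D (-1) ((c : ℂ) • T')
    rw [hD, hD, hd, pow_succ, mul_assoc]
    congr 1
    exact div_mul_cancel₀ _ (h3 _)
  choose T hT hT' using hex
  have huniq : ∀ g (S : Cˣ), Impl ψ g S.1.1 → D 1 S = D (-1) S → S = T g := fun g S hS hS' => by
    have h3 : Impl ψ g⁻¹ ((T g)⁻¹).1.1 :=
      Impl.inv (S := Units.map C.val.toMonoidHom (T g)) (hT g)
    have h4 := hS.mul h3
    rw [mul_inv_cancel] at h4
    obtain ⟨c, hc⟩ := h4.eq_smul hψ h2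
    have h5 : (S * (T g)⁻¹).1 = c • (1 : C) := Subtype.ext hc
    have h6 : S.1 = c • (T g).1 := by
      rw [← one_mul (T g).1, ← smul_mul_assoc, ← h5]; simp
    have h7 : c ≠ 0 := fun e => (S.isUnit.map (D 1)).ne_zero (by
      rw [h6, hD, e, hd]; simp)
    rw [h6, hD, hD, hT', hd, pow_succ] at hS'
    have h8 := mul_right_cancel₀ ((T g).isUnit.map (D (-1))).ne_zero hS'
    have h9 : c = 1 := mul_left_cancel₀ (pow_ne_zero _ h7) (h8.trans (mul_one _).symm)
    exact Units.ext (by rw [h6, h9, one_smul])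
  refine ⟨(Units.coeHom C).comp (MonoidHom.mk' T fun g h => (huniq _ _ ((hT g).mul (hT h)) ?_).symm),
    hT⟩
  rw [Units.val_mul, map_mul, map_mul, hT', hT']

/-- The commutant of the Weil representation. -/
theorem weil_commutant [Nonempty l] (hψ : ψ ≠ 1) (h2 : (2 : F) ≠ 0)
    (W : symplecticGroup l F →* Subalgebra.centralizer ℂ {flipOp l F}) (hW : ∀ g, Impl ψ g (W g).1)
    (T : End ℂ ((l → F) → ℂ)) (hT : ∀ g, T * (W g).1 = (W g).1 * T) :
    ∃ a b : ℂ, T = a • 1 + b • flipOp l F := by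
  let b := heisBasis (l := l) hψ h2
  have hinv : ∀ g, (W g).1 * (W g⁻¹).1 = 1 := fun g => by
    rw [← MulMemClass.coe_mul, ← map_mul, mul_inv_cancel, map_one]; rfl
  obtain ⟨v0, hv0⟩ := exists_ne (0 : l ⊕ l → F)
  have key : ∀ T : End ℂ ((l → F) → ℂ), (∀ g, T * (W g).1 = (W g).1 * T) →
      T = (b.repr T 0 - b.repr T v0) • 1 + b.repr T v0 • ∑ v, heis ψ v := fun T hT => by
    have h1 : ∀ v, v ≠ 0 → b.repr T v = b.repr T v0 := fun v hv => by
      obtain ⟨g, hg⟩ := exists_sp_of_ne_zero hv hv0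
      have h3 : T = ∑ w, b.repr T w • b (g.1 *ᵥ w) := by
        conv_lhs => rw [← mul_one T, ← hinv g, ← mul_assoc, hT, ← b.sum_repr T]
        rw [Finset.mul_sum, Finset.sum_mul]
        refine Finset.sum_congr rfl fun w _ => ?_
        simp only [b, heisBasis_apply]
        rw [mul_smul_comm, smul_mul_assoc, hW g, mul_assoc, hinv, mul_one]
      have h4 := congrArg (fun S => b.repr S v0) h3
      simp only [map_sum, map_smul, Basis.repr_self, Finsupp.coe_finsetSum, Finset.sum_apply,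
        Finsupp.smul_apply] at h4
      rw [h4, Finset.sum_eq_single v (fun w _ hw => ?_) (by simp), hg]
      · simp
      · rw [Finsupp.single_eq_of_ne', smul_zero]
        intro e
        refine hw ?_
        rw [← inv_mulVec_mulVec g w, e, ← hg, inv_mulVec_mulVec]
    conv_lhs => rw [← b.sum_repr T]
    rw [Finset.smul_sum, ← heis_zero ψ, ← Finset.add_sum_erase _ _ (Finset.mem_univ 0),
      ← Finset.add_sum_erase _ _ (Finset.mem_univ 0), ← add_assoc, ← add_smul, sub_add_cancel]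
    simp only [b, heisBasis_apply]
    congr 1
    exact Finset.sum_congr rfl fun v hv => by rw [h1 v (Finset.ne_of_mem_erase hv)]
  have hJ := key (flipOp l F) fun g => (W g).2 _ rfl
  have hT' := key T hT
  generalize b.repr T 0 - b.repr T v0 = a1 at hT'
  generalize b.repr T v0 = b1 at hT'
  generalize b.repr (flipOp l F) 0 - b.repr (flipOp l F) v0 = a2 at hJ
  generalize b.repr (flipOp l F) v0 = b2 at hJ
  have hb2 : b2 ≠ 0 := by
    rintro rfl
    rw [zero_smul, add_zero] at hJ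
    obtain ⟨i⟩ := ‹Nonempty l›
    have h3 := congrFun (LinearMap.congr_fun hJ (Pi.single 0 1)) 0
    have h4 := congrFun (LinearMap.congr_fun hJ (Pi.single (Pi.single i 1) 1)) (Pi.single i 1)
    change (Pi.single 0 1 : (l → F) → ℂ) (-0) = _ at h3
    change (Pi.single (Pi.single i 1) 1 : (l → F) → ℂ) (-(Pi.single i 1)) = _ at h4
    rw [Pi.single_eq_of_ne (fun e => h2 (by
      have := congrFun e i
      simp only [Pi.neg_apply, Pi.single_eq_same] at this
      linear_combination -this))] at h4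
    simp at h3 h4
    rw [← h3] at h4
    simp at h4
  refine ⟨a1 - b1 / b2 * a2, b1 / b2, ?_⟩
  rw [hT', hJ, smul_add, smul_smul, smul_smul, div_mul_cancel₀ _ hb2, ← add_assoc, ← add_smul,
    sub_add_cancel]

/-- The two constituents of the Weil representation are irreducible. -/
theorem exists_weil_irreducible [Nonempty l] (h2 : (2 : F) ≠ 0) {ε : ℂ} (hε : ε * ε = 1) {d : ℕ}
    (hd : 2 * (d : ℂ) = Fintype.card F ^ Fintype.card l + ε) (hd0 : 0 < d) :
    ∃ ρ : Representation ℂ (symplecticGroup l F) (Fin d → ℂ), ρ.IsIrreducible := by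
  have hψ : AddChar.FiniteField.primitiveChar_to_Complex F ≠ 1 := by
    simpa using AddChar.FiniteField.primitiveChar_to_Complex_isPrimitive F one_ne_zero
  obtain ⟨W, hW⟩ := exists_weil (l := l) hψ h2
  let ρ : Representation ℂ (symplecticGroup l F) ((flipOp l F).eigenspace ε) :=
    (resEig (flipOp l F) ε).toMonoidHom.comp W
  have h3 := finrank_eig (flipOp_mul_self (l := l) (F := F)) hε (trace_flipOp h2)
  have h4 : finrank ℂ ((flipOp l F).eigenspace ε) = d := by
    have : (finrank ℂ ((flipOp l F).eigenspace ε) : ℂ) = d := by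
      simp only [finrank_fintype_fun_eq_card, Fintype.card_fun, Nat.cast_pow] at h3
      linear_combination (h3 - hd) / 2
    exact_mod_cast this
  have : Nontrivial ((flipOp l F).eigenspace ε) := nontrivial_of_finrank_pos (R := ℂ) (h4 ▸ hd0)
  have hP := isProj_eig (flipOp_mul_self (l := l) (F := F)) hε
  have : ρ.IsIrreducible := isIrreducible_of_commutant ρ fun f hf => by
    obtain ⟨a, b, hab⟩ := weil_commutant hψ h2 W hW
      (((flipOp l F).eigenspace ε).subtype ∘ₗ f ∘ₗ hP.codRestrict) fun g => by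
        refine LinearMap.ext fun v => ?_
        have h5 : hP.codRestrict ((W g).1 v) = ρ g (hP.codRestrict v) := Subtype.ext (by
          change _ = (W g).1 _
          have : flipOp l F ((W g).1 v) = (W g).1 (flipOp l F v) :=
            LinearMap.congr_fun ((W g).2 _ rfl) v
          simp [this])
        change (f (hP.codRestrict ((W g).1 v))).1 = (ρ g (f (hP.codRestrict v))).1
        rw [h5, ← End.mul_apply, hf, End.mul_apply]
    refine ⟨a + b * ε, LinearMap.ext fun v => Subtype.ext ?_⟩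
    have h5 := LinearMap.congr_fun hab v
    have h6 : hP.codRestrict v = v := Subtype.ext (hP.map_id _ v.2)
    change (f (hP.codRestrict v)).1 = _ at h5
    rw [h6] at h5
    rw [h5]
    simp [End.mem_eigenspace_iff.1 v.2, add_smul, smul_smul]
  let e : (flipOp l F).eigenspace ε ≃ₗ[ℂ] (Fin d → ℂ) := LinearEquiv.ofFinrankEq _ _ (by simp [h4])
  exact ⟨transportRep ρ e, isIrreducible_of_equiv (transportEquiv ρ e)⟩

end Weil

end Cfsg.Lib.CharDeg
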